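import Cfsg.Agent.Lib.J4Iso.Iso

/-!
# The subgroup of shape `2^11:M24` in the presented group and its index
-/

set_option autoImplicit false
set_option maxRecDepth 20000

namespace Cfsg.Lib.J4Iso

open Cfsg.Lib.CosetEnum (beqW beqW_eq)
open Cfsg.Lib.J4Pres
open Cfsg.Lib.J4Real (defWords kOK Msub card_Msub card_Gsub Gsub)

/-- The word whose element is the first of the eleven letters. -/
def uElt : FreeGroup Spor.J4.Gen :=
  (Spor.J4.y * ((Spor.J4.y * Spor.J4.x) ^ 4 * Spor.J4.y⁻¹ * Spor.J4.x)⁻¹ * Spor.J4.t *
    ((Spor.J4.y * Spor.J4.x) ^ 4 * Spor.J4.y⁻¹ * Spor.J4.x)) ^ 3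

theorem uElt_ok : ((relWord uElt).all fun g => Nat.blt g 6) = true ∧
    beqW ((relWord uElt).map fun g => [0, 1, 3, 4, 2, 5].getD g 0) (defWords.getD 0 []) = true := by
  constructor <;> decide +kernel

theorem uElt_gl : PresentedGroup.mk jRels uElt = gl 6 := by
  obtain ⟨h1, h2⟩ := uElt_ok
  simp only [List.all_eq_true, Nat.blt_eq] at h1
  rw [gl, if_neg (by norm_num), gw6, ← beqW_eq h2, List.map_map,
    List.map_congr_left (g := xyLetter) (fun g hg => ?_), relWord, word_prod]
  have := h1 g hg
  rw [Function.comp_apply, gl6]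
  interval_cases g <;> rfl

/-- The words of the eleven letters are conjugates of the first. -/
theorem def_shape : ((List.range 11).all fun i => (List.range 30).any fun k =>
    kOK ((defWords.getD i []).take k) && kOK ((defWords.getD i []).drop (k + 66)) &&
    ((defWords.getD i []).all fun g => Nat.blt g 6) &&
    beqW (defWords.getD i []) ((defWords.getD i []).take k ++ (defWords.getD 0 [] ++
      (defWords.getD i []).drop (k + 66)))) = true := by
  decide +kernel

theorem gw6_gw {w : List ℕ} (h : ∀ g ∈ w, g < 6) : gw6 w = gw w :=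
  congrArg List.prod (List.map_congr_left fun g hg => by rw [gl, if_pos (h g hg)])

/-- The subgroup given by three generators. -/
noncomputable def threeGen : Subgroup PG :=
  (Subgroup.closure ({Spor.J4.x, Spor.J4.y, uElt} : Set (FreeGroup Spor.J4.Gen))).map
    (PresentedGroup.mk jRels)

theorem threeGen_eq : threeGen = MG := by
  have hx : PresentedGroup.mk jRels Spor.J4.x = kG (twoGen 0) := (kG_gen 0 (by norm_num)).symm
  have hy : PresentedGroup.mk jRels Spor.J4.y = kG (twoGen 1) := (kG_gen 1 (by norm_num)).symm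
  refine le_antisymm ?_ ?_
  · rw [threeGen, MonoidHom.map_closure, Subgroup.closure_le]
    rintro _ ⟨z, rfl | rfl | rfl, rfl⟩
    · exact hx ▸ kG_mem_MG _
    · exact hy ▸ kG_mem_MG _
    · rw [uElt_gl, show (6 : ℕ) = 6 + 0 from rfl, edef (by norm_num)]
      exact ⟨_, 1, by rw [map_one, mul_one]⟩
  · have hk : ∀ a, kG a ∈ threeGen := by
      intro a
      have ha : a ∈ Subgroup.closure (twoGen '' {g | g < 2}) := by rw [twoGen_gen]; trivial
      have hle : Subgroup.closure (twoGen '' {g | g < 2}) ≤ threeGen.comap kG := by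
        rw [Subgroup.closure_le]
        rintro _ ⟨g, hg, rfl⟩
        have hg' : g < 2 := hg
        interval_cases g
        · exact ⟨_, Subgroup.subset_closure (Or.inl rfl), hx⟩
        · exact ⟨_, Subgroup.subset_closure (Or.inr (Or.inl rfl)), hy⟩
      exact hle ha
    have hK : ∀ {w : List ℕ}, kOK w = true → gw w ∈ threeGen := by
      intro w
      induction w with
      | nil => intro _; exact one_mem _
      | cons g w ih =>
        intro h
        simp only [J4Real.kOK, List.all_cons, Bool.and_eq_true, Bool.or_eq_true, Nat.beq_eq] at h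
        rw [gw_cons]
        refine mul_mem ?_ (ih (by simpa [J4Real.kOK] using h.2))
        rcases h.1 with ((rfl | rfl) | rfl) | rfl
        · show xyLetter 0 ∈ threeGen
          exact kG_gen 0 (by norm_num) ▸ hk (twoGen 0)
        · show xyLetter 1 ∈ threeGen
          exact kG_gen 1 (by norm_num) ▸ hk (twoGen 1)
        · show xyLetter 2 ∈ threeGen
          exact kG_gen 2 (by norm_num) ▸ hk (twoGen 2)
        · show xyLetter 3 ∈ threeGen
          exact kG_gen 3 (by norm_num) ▸ hk (twoGen 3)
    have hu : gw (defWords.getD 0 []) ∈ threeGen := by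
      have h0 : ∀ g ∈ defWords.getD 0 [], g < 6 := by decide +kernel
      rw [← gw6_gw h0]
      refine ⟨uElt, Subgroup.subset_closure (Or.inr (Or.inr rfl)), ?_⟩
      rw [uElt_gl, gl, if_neg (by norm_num)]
    have he : ∀ i < 11, eG (getN emData (0, 0) i).1 ∈ threeGen := by
      intro i hi
      rw [← edef hi, gl, if_neg (by omega), Nat.add_sub_cancel_left]
      have h := List.all_eq_true.1 def_shape i (List.mem_range.2 hi)
      simp only [List.any_eq_true, Bool.and_eq_true, List.all_eq_true, Nat.blt_eq] at h
      obtain ⟨k, -, ⟨⟨h1, h2⟩, h3⟩, h4⟩ := h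
      rw [gw6_gw h3, beqW_eq h4, gw_append, gw_append]
      exact mul_mem (hK h1) (mul_mem hu (hK h2))
    rintro _ ⟨v, a, rfl⟩
    refine mul_mem ?_ (hk a)
    obtain ⟨e, he'⟩ := eG_eq_eW' v
    rw [he', eW'_eq]
    have key : ∀ n ≤ 11, eG (emask n e) ∈ threeGen := by
      intro n
      induction n with
      | zero => intro _; simp [emask, eG_zero]
      | succ n ih =>
        intro hn
        rw [emask, ← eG_mul]
        refine mul_mem (ih (by omega)) ?_
        cases e.testBit n
        · simp [eG_zero]
        · exact he n (by omega)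
    exact key 11 le_rfl

theorem card_MG : Nat.card MG = 501397585920 := by
  rw [← card_Msub]
  refine Nat.card_congr (Equiv.ofBijective (fun x : MG => (⟨piG x.1, piG_MG x.2⟩ : Msub)) ⟨?_, ?_⟩)
  · intro a b h
    exact Subtype.ext (piG_injective (congrArg Subtype.val h))
  · intro m
    obtain ⟨x, hx, e⟩ := piG_MG_surj m.2
    exact ⟨⟨x, hx⟩, Subtype.ext e⟩

theorem index_threeGen : threeGen.index = 173067389 := by
  rw [threeGen_eq]
  have h := Subgroup.index_mul_card MG
  rw [card_MG, Nat.card_congr isoG.toEquiv, card_Gsub] at h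
  exact Nat.eq_of_mul_eq_mul_right (by norm_num : (0 : ℕ) < 501397585920)
    (h.trans (by norm_num))

end Cfsg.Lib.J4Iso
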