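import Cfsg.Agent.Lib.J4Iso.Run

/-! Checks of derivations. -/

set_option autoImplicit false
set_option maxRecDepth 20000

namespace Cfsg.Lib.J4Iso

theorem lemRange_1856 : lemRange 1856 48 = true := by decide +kernel

theorem lemRange_1904 : lemRange 1904 48 = true := by decide +kernel

theorem lemRange_1952 : lemRange 1952 48 = true := by decide +kernel

theorem lemRange_2000 : lemRange 2000 37 = true := by decide +kernel

end Cfsg.Lib.J4Iso
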