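import Cfsg.Agent.Lib.J4Iso.Run

/-! Checks of derivations. -/

set_option autoImplicit false
set_option maxRecDepth 20000

namespace Cfsg.Lib.J4Iso

theorem lemRange_2064 : lemRange 2064 48 = true := by decide +kernel

theorem lemRange_2112 : lemRange 2112 48 = true := by decide +kernel

theorem lemRange_2160 : lemRange 2160 48 = true := by decide +kernel

theorem lemRange_2208 : lemRange 2208 48 = true := by decide +kernel

theorem lemRange_2256 : lemRange 2256 48 = true := by decide +kernel

theorem lemRange_2304 : lemRange 2304 48 = true := by decide +kernel

theorem lemRange_2352 : lemRange 2352 48 = true := by decide +kernel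

theorem lemRange_2400 : lemRange 2400 48 = true := by decide +kernel

end Cfsg.Lib.J4Iso
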