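import Cfsg.Agent.Lib.J4Iso.Run

/-! Checks of derivations. -/

set_option autoImplicit false
set_option maxRecDepth 20000

namespace Cfsg.Lib.J4Iso

theorem lemRange_2730 : lemRange 2730 6 = true := by decide +kernel

theorem lemRange_2736 : lemRange 2736 9 = true := by decide +kernel

end Cfsg.Lib.J4Iso
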