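import Cfsg.Agent.Lib.J4Iso.Run

/-! Checks of derivations. -/

set_option autoImplicit false
set_option maxRecDepth 20000

namespace Cfsg.Lib.J4Iso

theorem lemRange_1472 : lemRange 1472 48 = true := by decide +kernel

theorem lemRange_1520 : lemRange 1520 48 = true := by decide +kernel

theorem lemRange_1568 : lemRange 1568 48 = true := by decide +kernel

theorem lemRange_1616 : lemRange 1616 48 = true := by decide +kernel

end Cfsg.Lib.J4Iso
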