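/-! Generated data: lemmas. -/

set_option autoImplicit false
set_option maxRecDepth 20000

namespace Cfsg.Lib.J4Iso

/-- Words. -/
def lemWords126 : List (List Nat) :=
  [[2, 11257488414297073231920, 10999339819785647202600, 10796826482799268897440, 6, 11179375886217200554620, 13653004827165281896500, 10700501234999680327860],
    [2, 10923404767655797085760, 15642950594478022473840, 10999339847243237271600, 6, 10700501382439456360500, 9776880690868492290180, 10062827686957043964420],
    [2, 10654179448536288870660, 11450834822717741538360, 15359418586865933765640, 6, 15693572209129799624640, 16971587841905305654500, 14481041029149757722660],
    [2, 12188760809231262290580, 12447121012325203063860, 13002946286535483068700, 6, 9559629327220428357720, 14243526908404634884680, 9553148427451242781440],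
    [2, 10095004629224475859080, 12991180625007280883460, 14321622667111983159300, 6, 12914018240569297569900, 11223839750933173798980, 10091677757033293080660],
    [2, 11917110373448967839880, 9451914361615829310480, 14185790784009226713240, 6, 11006943188094127113840, 10867591508813375639940, 15428974473033978909780],
    [2, 10796826606423385584420, 9538557961220676297000, 11870775100753503086880, 6, 15663159392361593603400, 13877141099320162787760, 11179375709806529659980],
    [2, 9695495961615073952160, 14250135861246023575200, 10745276150817137180160, 6, 15388124586070583578140, 10945927120533416870040, 10784507031151237484100],
    [2, 9674525129564872509660, 15388124529179785710600, 9448323867396553950720, 6, 9776880581570171056260, 15693572169451820367360, 9946258821649002401640],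
    [2, 14620287918391960224420, 9704168962672749004440, 10184068951372735064100, 6, 13138135345326533380020, 11956269186952770705480, 16798066410191744747160],
    [10, 10796826481087187661120, 11363953628912354280720, 13138135303563012080520, 14, 10930581143163381641760, 11073822735311862860880, 15642950582281389822000],
    [10, 11257488414297073231920, 10999339819785647202600, 10796826482799268897440, 14, 14214011422983769116720, 11818061587518487282800, 10049456429170355417220],
    [10, 10923404767655797085760, 15642950594478022473840, 10999339847243237271600, 14, 14214011349366960309360, 9559629152107173053460, 10368083912003252678880],
    [10, 10654179448536288870660, 11450834822717741538360, 15359418586865933765640, 14, 10184069020223808178560, 10187657404268734255320, 12553946460525385171620],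
    [10, 12188760809231262290580, 12447121012325203063860, 13002946286535483068700, 14, 15663159392361593603400, 13877141099320162787760, 11179375709806529659980],
    [10, 10095004629224475859080, 12991180625007280883460, 14321622667111983159300, 14, 9502181212862584750140, 9768205427571750617640, 10132667124572334724200]]

/-- Derivations. -/
def lemSteps126 : List (List (List Nat × Nat)) :=
  [[],
    [],
    [],
    [([], 4007)],
    [],
    [([], 4009)],
    [],
    [],
    [],
    [([], 4011)],
    [],
    [],
    [],
    [],
    [],
    []]

end Cfsg.Lib.J4Iso
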