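/-! Generated data: lemmas. -/

set_option autoImplicit false
set_option maxRecDepth 20000

namespace Cfsg.Lib.J4Iso

/-- Words. -/
def lemWords127 : List (List Nat) :=
  [[10, 11917110373448967839880, 9451914361615829310480, 14185790784009226713240, 14, 11806813850406214316040, 14185790669213616103560, 11217956937171370822800],
    [10, 10796826606423385584420, 9538557961220676297000, 11870775100753503086880, 14, 10195330272900698949660, 11818061685372331967760, 9788700383504776384560],
    [10, 9695495961615073952160, 14250135861246023575200, 10745276150817137180160, 14, 9946258786201498569900, 10923404621171651219520, 14538561096352560534540],
    [10, 9674525129564872509660, 15388124529179785710600, 9448323867396553950720, 14, 14168894336487613981440, 10184068935039512281860, 10700501364177860486160],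
    [10, 14620287918391960224420, 9704168962672749004440, 10184068951372735064100, 14, 9707750345647864167840, 11603009200732806729600, 11883178003885932481920],
    [12101911151853531694140, 9519499803845115040320, 14336110731148237526040, 1193],
    [10334286504587325685860, 14759088771205633638420, 11382867620994217322520, 5533],
    [9498940916539975074720, 15693572200447993515300, 9661563818767443835980, 7625],
    [14185790680861432498320, 10680921946826651487240, 9906408543908431835280, 1321],
    [13456936116533235706380, 13321001752583710807440, 18077836259774309742360, 3173],
    [11291434293948911853660, 10184069074930413979680, 14759088830303239258200, 7665],
    [9597588884866222989840, 9576241997927003249760, 15642950623633600918560, 5201],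
    [11890422113601590477100, 16798066410405218030820, 12188760784989461683920, 6605],
    [9487729237652493052680, 9707750450276415378660, 15693572165310197072460, 6753],
    [10062827557300310525460, 10680921955329075613800, 14336110712189850358320, 1013],
    [10654179606981917943300, 9970767337579079620680, 16537627733153724255240, 5977]]

/-- Derivations. -/
def lemSteps127 : List (List (List Nat × Nat)) :=
  [[],
    [],
    [],
    [],
    [],
    [],
    [],
    [],
    [],
    [],
    [],
    [],
    [],
    [],
    [],
    []]

end Cfsg.Lib.J4Iso
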