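/-! Generated data: lemmas. -/

set_option autoImplicit false
set_option maxRecDepth 20000

namespace Cfsg.Lib.J4Iso

/-- Words. -/
def lemWords128 : List (List Nat) :=
  [[13070243592508055040360, 10867591684991782770120, 10999339857202594748760, 25],
    [9487729219659869489220, 14796637608529663417440, 12211786561270484916000, 37],
    [12196468762959216284640, 9502181199806623146000, 14776710235295721345360, 93],
    [9788700248505439492140, 10945927157899428791460, 10334286504587325685860, 141],
    [10654179492364212921480, 13121399943592275355020, 11382867645196893463800, 1029],
    [13032716203126490466960, 12402076000171309828740, 12045818810471835261600, 2053],
    [10195330272900698949660, 12569152868909488182240, 16383302955164441548980, 2833],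
    [9530725208589404344980, 15428974490628110062560, 10259277992640784729440, 6833],
    [14646904092254493783360, 10820600970042671180100, 12009552428222235595800, 429],
    [10114620078175706686320, 14574371398248320043840, 10700501365395684968580, 1953],
    [15348139358874330923460, 11068214520470095497600, 13070243540561032671300, 2633],
    [10351110890919677533200, 12196468684080267546960, 10945927263942433444500, 6969],
    [10703810226282747799680, 14185790680861432498320, 12251026418649614570520, 3417],
    [10095004629224475859080, 13121399943197541040500, 14229789780345615288540, 8033],
    [15505075132129340568720, 9889509943512712815120, 12009552485939344856520, 6093],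
    [14328835235415876569940, 9707750398580044601700, 11073822592831700017680, 7537]]

/-- Derivations. -/
def lemSteps128 : List (List (List Nat × Nat)) :=
  [[],
    [],
    [],
    [],
    [],
    [],
    [],
    [],
    [],
    [],
    [],
    [],
    [],
    [],
    [],
    []]

end Cfsg.Lib.J4Iso
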