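/-! Generated data: lemmas. -/

set_option autoImplicit false
set_option maxRecDepth 20000

namespace Cfsg.Lib.J4Iso

/-- Words. -/
def lemWords129 : List (List Nat) :=
  [[1953, 12045818810121728338980, 25, 12045818810121728338980, 1266],
    [2633, 12045818810121728338980, 37, 12045818810121728338980, 1058],
    [6969, 12045818810121728338980, 93, 12045818810121728338980, 1442],
    [3417, 12045818810121728338980, 141, 12045818810121728338980, 1218],
    [8033, 12045818810121728338980, 1029, 12045818810121728338980, 1082],
    [2053, 12045818810121728338980, 2053, 12045818810121728338980, 970],
    [6093, 12045818810121728338980, 2833, 12045818810121728338980, 962],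
    [6833, 12045818810121728338980, 6833, 12045818810121728338980, 954],
    [7537, 12045818810121728338980, 429, 12045818810121728338980, 946],
    [12045818810121728338980, 25, 12045818810121728338980, 1266, 1953],
    [12045818810121728338980, 37, 12045818810121728338980, 1058, 2633],
    [12045818810121728338980, 93, 12045818810121728338980, 1442, 6969],
    [12045818810121728338980, 141, 12045818810121728338980, 1218, 3417],
    [12045818810121728338980, 1029, 12045818810121728338980, 1082, 8033],
    [12045818810121728338980, 2053, 12045818810121728338980, 970, 2053],
    [12045818810121728338980, 2833, 12045818810121728338980, 962, 6093]]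

/-- Derivations. -/
def lemSteps129 : List (List (List Nat × Nat)) :=
  [[([1953], 4115), ([10700501365395684968580, 14574371398248320043840, 10114620078175706686320, 12045818810121728338980], 4098), ([], 4013)],
    [([2633], 4117), ([13070243540561032671300, 11068214520470095497600, 15348139358874330923460, 12045818810121728338980], 4100), ([], 4015)],
    [([6969], 4119), ([10945927263942433444500, 12196468684080267546960, 10351110890919677533200, 12045818810121728338980], 4102), ([], 4017)],
    [([3417], 4121), ([12251026418649614570520, 14185790680861432498320, 10703810226282747799680, 12045818810121728338980], 4104), ([], 4019)],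
    [([8033], 4123), ([14229789780345615288540, 13121399943197541040500, 10095004629224475859080, 12045818810121728338980], 4106), ([], 4021)],
    [([2053], 4107), ([12045818810471835261600, 12402076000171309828740, 13032716203126490466960, 12045818810121728338980], 4108), ([], 4023)],
    [([6093], 4125), ([12009552485939344856520, 9889509943512712815120, 15505075132129340568720, 12045818810121728338980], 4110), ([], 4025)],
    [([6833], 4111), ([10259277992640784729440, 15428974490628110062560, 9530725208589404344980, 12045818810121728338980], 4112), ([], 4027)],
    [([7537], 4127), ([11073822592831700017680, 9707750398580044601700, 14328835235415876569940, 12045818810121728338980], 4114), ([], 4029)],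
    [([1953], 0), ([], 4129)],
    [([2633], 0), ([], 4131)],
    [([6969], 0), ([], 4133)],
    [([3417], 0), ([], 4135)],
    [([8033], 0), ([], 4137)],
    [([2053], 0), ([], 4139)],
    [([6093], 0), ([], 4141)]]

end Cfsg.Lib.J4Iso
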