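/-! Generated data: lemmas. -/

set_option autoImplicit false
set_option maxRecDepth 20000

namespace Cfsg.Lib.J4Iso

/-- Words. -/
def lemWords131 : List (List Nat) :=
  [[12045818810121728338980, 393, 12045818810121728338980, 1458, 6893],
    [12045818810121728338980, 209, 12045818810121728338980, 1290, 209],
    [12045818810121728338980, 1113, 12045818810121728338980, 1282, 7997],
    [12045818810121728338980, 2137, 12045818810121728338980, 1122, 2137],
    [12045818810121728338980, 2893, 12045818810121728338980, 1018, 2893],
    [12045818810121728338980, 6893, 12045818810121728338980, 1458, 393],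
    [12045818810121728338980, 497, 12045818810121728338980, 1234, 5953],
    [12045818810121728338980, 1161, 12045818810121728338980, 1042, 5505],
    [12045818810121728338980, 2185, 12045818810121728338980, 1354, 7737],
    [12045818810121728338980, 2973, 12045818810121728338980, 1234, 7469],
    [12045818810121728338980, 6717, 12045818810121728338980, 1418, 2869],
    [12045818810121728338980, 289, 12045818810121728338980, 1018, 289],
    [12045818810121728338980, 3073, 12045818810121728338980, 954, 3073],
    [12045818810121728338980, 3861, 12045818810121728338980, 1162, 705],
    [12045818810121728338980, 7861, 12045818810121728338980, 970, 7861],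
    [12045818810121728338980, 1449, 12045818810121728338980, 1170, 5281]]

/-- Derivations. -/
def lemSteps131 : List (List (List Nat × Nat)) :=
  [[([], 4149), ([2633, 1058], 4163)],
    [([], 4151), ([6969, 1442], 4153)],
    [([], 4151), ([6969, 1442], 4155)],
    [([], 4151), ([6969, 1442], 4157)],
    [([], 4151), ([6969, 1442], 4159)],
    [([], 4151), ([6969, 1442], 4161)],
    [([], 4151), ([6969, 1442], 4163)],
    [([], 4153), ([3417, 1218], 4155)],
    [([], 4153), ([3417, 1218], 4157)],
    [([], 4153), ([3417, 1218], 4159)],
    [([], 4153), ([3417, 1218], 4161)],
    [([], 4153), ([3417, 1218], 4163)],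
    [([], 4155), ([8033, 1082], 4157)],
    [([], 4155), ([8033, 1082], 4159)],
    [([], 4155), ([8033, 1082], 4161)],
    [([], 4155), ([8033, 1082], 4163)]]

end Cfsg.Lib.J4Iso
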