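/-! Generated data: lemmas. -/

set_option autoImplicit false
set_option maxRecDepth 20000

namespace Cfsg.Lib.J4Iso

/-- Words. -/
def lemWords132 : List (List Nat) :=
  [[12045818810121728338980, 789, 12045818810121728338980, 994, 5541],
    [12045818810121728338980, 4789, 12045818810121728338980, 1082, 2513],
    [12045818810121728338980, 2473, 12045818810121728338980, 1274, 7961],
    [12045818810121728338980, 4513, 12045818810121728338980, 1250, 3453],
    [12045818810121728338980, 2749, 12045818810121728338980, 1290, 2749],
    [12045818810121728338980, 6941, 12045818810121728338980, 1146, 6941],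
    [12045818810121728338980, 97, 12045818810121728338980, 986, 5841],
    [12045818810121728338980, 177, 12045818810121728338980, 1130, 177],
    [12045818810121728338980, 1081, 12045818810121728338980, 1202, 897],
    [12045818810121728338980, 2105, 12045818810121728338980, 1154, 2105],
    [12045818810121728338980, 2861, 12045818810121728338980, 1322, 2861],
    [12045818810121728338980, 6797, 12045818810121728338980, 1474, 1617],
    [12045818810121728338980, 401, 12045818810121728338980, 1194, 401],
    [12045818810121728338980, 201, 12045818810121728338980, 1362, 3357],
    [12045818810121728338980, 1089, 12045818810121728338980, 1386, 3629],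
    [12045818810121728338980, 2113, 12045818810121728338980, 1450, 6473]]

/-- Derivations. -/
def lemSteps132 : List (List (List Nat × Nat)) :=
  [[([], 4157), ([2053, 970], 4159)],
    [([], 4157), ([2053, 970], 4161)],
    [([], 4157), ([2053, 970], 4163)],
    [([], 4159), ([6093, 962], 4161)],
    [([], 4159), ([6093, 962], 4163)],
    [([], 4161), ([6833, 954], 4163)],
    [([], 4165), ([61, 978], 4151)],
    [([], 4165), ([61, 978], 4153)],
    [([], 4165), ([61, 978], 4155)],
    [([], 4165), ([61, 978], 4157)],
    [([], 4165), ([61, 978], 4159)],
    [([], 4165), ([61, 978], 4161)],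
    [([], 4165), ([61, 978], 4163)],
    [([], 4167), ([69, 1066], 4153)],
    [([], 4167), ([69, 1066], 4155)],
    [([], 4167), ([69, 1066], 4157)]]

end Cfsg.Lib.J4Iso
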