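/-! Generated data: lemmas. -/

set_option autoImplicit false
set_option maxRecDepth 20000

namespace Cfsg.Lib.J4Iso

/-- Words. -/
def lemWords133 : List (List Nat) :=
  [[12045818810121728338980, 2901, 12045818810121728338980, 1178, 2901],
    [12045818810121728338980, 6901, 12045818810121728338980, 1194, 6901],
    [12045818810121728338980, 489, 12045818810121728338980, 1474, 7477],
    [12045818810121728338980, 1169, 12045818810121728338980, 1242, 3837],
    [12045818810121728338980, 2193, 12045818810121728338980, 1330, 1349],
    [12045818810121728338980, 2949, 12045818810121728338980, 1474, 5977],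
    [12045818810121728338980, 6693, 12045818810121728338980, 1322, 6693],
    [12045818810121728338980, 313, 12045818810121728338980, 1178, 313],
    [12045818810121728338980, 3097, 12045818810121728338980, 1346, 2977],
    [12045818810121728338980, 3853, 12045818810121728338980, 1410, 5225],
    [12045818810121728338980, 7853, 12045818810121728338980, 1402, 4985],
    [12045818810121728338980, 1457, 12045818810121728338980, 1258, 2149],
    [12045818810121728338980, 781, 12045818810121728338980, 1074, 781],
    [12045818810121728338980, 4781, 12045818810121728338980, 1098, 1053],
    [12045818810121728338980, 2481, 12045818810121728338980, 1338, 989],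
    [12045818810121728338980, 4537, 12045818810121728338980, 1130, 4537]]

/-- Derivations. -/
def lemSteps133 : List (List (List Nat × Nat)) :=
  [[([], 4167), ([69, 1066], 4159)],
    [([], 4167), ([69, 1066], 4161)],
    [([], 4167), ([69, 1066], 4163)],
    [([], 4169), ([7241, 1378], 4155)],
    [([], 4169), ([7241, 1378], 4157)],
    [([], 4169), ([7241, 1378], 4159)],
    [([], 4169), ([7241, 1378], 4161)],
    [([], 4169), ([7241, 1378], 4163)],
    [([], 4171), ([4781, 1098], 4157)],
    [([], 4171), ([4781, 1098], 4159)],
    [([], 4171), ([4781, 1098], 4161)],
    [([], 4171), ([4781, 1098], 4163)],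
    [([], 4173), ([1481, 1402], 4159)],
    [([], 4173), ([1481, 1402], 4161)],
    [([], 4173), ([1481, 1402], 4163)],
    [([], 4175), ([2825, 1138], 4161)]]

end Cfsg.Lib.J4Iso
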