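/-! Generated data: lemmas. -/

set_option autoImplicit false
set_option maxRecDepth 20000

namespace Cfsg.Lib.J4Iso

/-- Words. -/
def lemWords134 : List (List Nat) :=
  [[12045818810121728338980, 2725, 12045818810121728338980, 1362, 1905],
    [12045818810121728338980, 6917, 12045818810121728338980, 986, 3509],
    [12045818810121728338980, 245, 12045818810121728338980, 1050, 245],
    [12045818810121728338980, 1149, 12045818810121728338980, 1274, 4813],
    [12045818810121728338980, 2173, 12045818810121728338980, 1170, 6517],
    [12045818810121728338980, 2921, 12045818810121728338980, 1370, 6069],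
    [12045818810121728338980, 6857, 12045818810121728338980, 946, 1557],
    [12045818810121728338980, 469, 12045818810121728338980, 954, 469],
    [12045818810121728338980, 1197, 12045818810121728338980, 994, 4637],
    [12045818810121728338980, 2221, 12045818810121728338980, 1162, 1401],
    [12045818810121728338980, 3001, 12045818810121728338980, 954, 3001],
    [12045818810121728338980, 6681, 12045818810121728338980, 962, 1733],
    [12045818810121728338980, 261, 12045818810121728338980, 1370, 7641],
    [12045818810121728338980, 3109, 12045818810121728338980, 1234, 6805],
    [12045818810121728338980, 3889, 12045818810121728338980, 1354, 6529],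
    [12045818810121728338980, 7825, 12045818810121728338980, 1186, 7825]]

/-- Derivations. -/
def lemSteps134 : List (List (List Nat × Nat)) :=
  [[([], 4175), ([2825, 1138], 4163)],
    [([], 4177), ([7441, 1346], 4163)],
    [([], 4181), ([121, 1146], 4153)],
    [([], 4181), ([121, 1146], 4155)],
    [([], 4181), ([121, 1146], 4157)],
    [([], 4181), ([121, 1146], 4159)],
    [([], 4181), ([121, 1146], 4161)],
    [([], 4181), ([121, 1146], 4163)],
    [([], 4183), ([7285, 1250], 4155)],
    [([], 4183), ([7285, 1250], 4157)],
    [([], 4183), ([7285, 1250], 4159)],
    [([], 4183), ([7285, 1250], 4161)],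
    [([], 4183), ([7285, 1250], 4163)],
    [([], 4185), ([921, 1026], 4157)],
    [([], 4185), ([921, 1026], 4159)],
    [([], 4185), ([921, 1026], 4161)]]

end Cfsg.Lib.J4Iso
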