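/-! Generated data: lemmas. -/

set_option autoImplicit false
set_option maxRecDepth 20000

namespace Cfsg.Lib.J4Iso

/-- Words. -/
def lemWords135 : List (List Nat) :=
  [[12045818810121728338980, 1421, 12045818810121728338980, 1122, 1421],
    [12045818810121728338980, 817, 12045818810121728338980, 1042, 4665],
    [12045818810121728338980, 4753, 12045818810121728338980, 1026, 5417],
    [12045818810121728338980, 2445, 12045818810121728338980, 1282, 4841],
    [12045818810121728338980, 4485, 12045818810121728338980, 1218, 7249],
    [12045818810121728338980, 2713, 12045818810121728338980, 1050, 2713],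
    [12045818810121728338980, 6969, 12045818810121728338980, 1442, 93],
    [12045818810121728338980, 1237, 12045818810121728338980, 1306, 877],
    [12045818810121728338980, 2261, 12045818810121728338980, 1314, 2261],
    [12045818810121728338980, 3009, 12045818810121728338980, 946, 5917],
    [12045818810121728338980, 6753, 12045818810121728338980, 1370, 1725],
    [12045818810121728338980, 381, 12045818810121728338980, 962, 7585],
    [12045818810121728338980, 3165, 12045818810121728338980, 1458, 5945],
    [12045818810121728338980, 3913, 12045818810121728338980, 1394, 1317],
    [12045818810121728338980, 7913, 12045818810121728338980, 1122, 7913],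
    [12045818810121728338980, 1525, 12045818810121728338980, 1186, 1525]]

/-- Derivations. -/
def lemSteps135 : List (List (List Nat × Nat)) :=
  [[([], 4185), ([921, 1026], 4163)],
    [([], 4187), ([2081, 1186], 4159)],
    [([], 4187), ([2081, 1186], 4161)],
    [([], 4187), ([2081, 1186], 4163)],
    [([], 4189), ([6717, 1418], 4161)],
    [([], 4189), ([6717, 1418], 4163)],
    [([], 4191), ([3109, 1234], 4163)],
    [([], 4195), ([209, 1290], 4155)],
    [([], 4195), ([209, 1290], 4157)],
    [([], 4195), ([209, 1290], 4159)],
    [([], 4195), ([209, 1290], 4161)],
    [([], 4195), ([209, 1290], 4163)],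
    [([], 4197), ([7997, 1282], 4157)],
    [([], 4197), ([7997, 1282], 4159)],
    [([], 4197), ([7997, 1282], 4161)],
    [([], 4197), ([7997, 1282], 4163)]]

end Cfsg.Lib.J4Iso
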