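/-! Generated data: lemmas. -/

set_option autoImplicit false
set_option maxRecDepth 20000

namespace Cfsg.Lib.J4Iso

/-- Words. -/
def lemWords136 : List (List Nat) :=
  [[12045818810121728338980, 841, 12045818810121728338980, 1010, 4673],
    [12045818810121728338980, 4841, 12045818810121728338980, 1282, 2445],
    [12045818810121728338980, 2549, 12045818810121728338980, 1026, 3661],
    [12045818810121728338980, 4605, 12045818810121728338980, 1050, 4605],
    [12045818810121728338980, 2785, 12045818810121728338980, 1218, 1845],
    [12045818810121728338980, 6977, 12045818810121728338980, 1058, 4397],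
    [12045818810121728338980, 3213, 12045818810121728338980, 1418, 7557],
    [12045818810121728338980, 3993, 12045818810121728338980, 1186, 3993],
    [12045818810121728338980, 7737, 12045818810121728338980, 1354, 2185],
    [12045818810121728338980, 1317, 12045818810121728338980, 1394, 3913],
    [12045818810121728338980, 921, 12045818810121728338980, 1026, 1057],
    [12045818810121728338980, 4665, 12045818810121728338980, 1042, 817],
    [12045818810121728338980, 2341, 12045818810121728338980, 1010, 6189],
    [12045818810121728338980, 4397, 12045818810121728338980, 1058, 6977],
    [12045818810121728338980, 2609, 12045818810121728338980, 1442, 4437],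
    [12045818810121728338980, 7057, 12045818810121728338980, 1050, 7057]]

/-- Derivations. -/
def lemSteps136 : List (List (List Nat × Nat)) :=
  [[([], 4199), ([2137, 1122], 4159)],
    [([], 4199), ([2137, 1122], 4161)],
    [([], 4199), ([2137, 1122], 4163)],
    [([], 4201), ([2893, 1018], 4161)],
    [([], 4201), ([2893, 1018], 4163)],
    [([], 4203), ([393, 1458], 4163)],
    [([], 4207), ([5505, 1042], 4157)],
    [([], 4207), ([5505, 1042], 4159)],
    [([], 4207), ([5505, 1042], 4161)],
    [([], 4207), ([5505, 1042], 4163)],
    [([], 4209), ([7737, 1354], 4159)],
    [([], 4209), ([7737, 1354], 4161)],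
    [([], 4209), ([7737, 1354], 4163)],
    [([], 4211), ([7469, 1234], 4161)],
    [([], 4211), ([7469, 1234], 4163)],
    [([], 4213), ([2869, 1418], 4163)]]

end Cfsg.Lib.J4Iso
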