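/-! Generated data: lemmas. -/

set_option autoImplicit false
set_option maxRecDepth 20000

namespace Cfsg.Lib.J4Iso

/-- Words. -/
def lemWords137 : List (List Nat) :=
  [[12045818810121728338980, 1809, 12045818810121728338980, 1250, 7117],
    [12045818810121728338980, 5809, 12045818810121728338980, 5809],
    [12045818810121728338980, 3501, 12045818810121728338980, 1146, 3501],
    [12045818810121728338980, 5541, 12045818810121728338980, 994, 789],
    [12045818810121728338980, 3769, 12045818810121728338980, 1306, 2305],
    [12045818810121728338980, 7961, 12045818810121728338980, 1274, 2473],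
    [12045818810121728338980, 6565, 12045818810121728338980, 1162, 5233],
    [12045818810121728338980, 697, 12045818810121728338980, 1314, 697],
    [12045818810121728338980, 4889, 12045818810121728338980, 1170, 529],
    [12045818810121728338980, 4109, 12045818810121728338980, 1370, 3281],
    [12045818810121728338980, 237, 12045818810121728338980, 1226, 237],
    [12045818810121728338980, 1125, 12045818810121728338980, 1338, 3593],
    [12045818810121728338980, 2149, 12045818810121728338980, 1258, 1457],
    [12045818810121728338980, 2929, 12045818810121728338980, 1210, 6777],
    [12045818810121728338980, 6865, 12045818810121728338980, 1090, 4285],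
    [12045818810121728338980, 461, 12045818810121728338980, 1346, 1653]]

/-- Derivations. -/
def lemSteps137 : List (List (List Nat × Nat)) :=
  [[([], 4217), ([3073, 954], 4159)],
    [([], 4217), ([3073, 954], 4161)],
    [([], 4217), ([3073, 954], 4163)],
    [([], 4219), ([705, 1162], 4161)],
    [([], 4219), ([705, 1162], 4163)],
    [([], 4221), ([7861, 970], 4163)],
    [([], 4225), ([5541, 994], 4161)],
    [([], 4225), ([5541, 994], 4163)],
    [([], 4227), ([2513, 1082], 4163)],
    [([], 4231), ([3453, 1250], 4163)],
    [([], 4237), ([5841, 986], 4153)],
    [([], 4237), ([5841, 986], 4155)],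
    [([], 4237), ([5841, 986], 4157)],
    [([], 4237), ([5841, 986], 4159)],
    [([], 4237), ([5841, 986], 4161)],
    [([], 4237), ([5841, 986], 4163)]]

end Cfsg.Lib.J4Iso
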