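/-! Generated data: lemmas. -/

set_option autoImplicit false
set_option maxRecDepth 20000

namespace Cfsg.Lib.J4Iso

/-- Words. -/
def lemWords138 : List (List Nat) :=
  [[12045818810121728338980, 1205, 12045818810121728338980, 1074, 1205],
    [12045818810121728338980, 2229, 12045818810121728338980, 1410, 5073],
    [12045818810121728338980, 2977, 12045818810121728338980, 1346, 3097],
    [12045818810121728338980, 6657, 12045818810121728338980, 1138, 6657],
    [12045818810121728338980, 285, 12045818810121728338980, 1210, 4117],
    [12045818810121728338980, 3133, 12045818810121728338980, 1474, 4321],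
    [12045818810121728338980, 3881, 12045818810121728338980, 1330, 765],
    [12045818810121728338980, 7817, 12045818810121728338980, 1154, 7817],
    [12045818810121728338980, 1429, 12045818810121728338980, 1450, 5277],
    [12045818810121728338980, 809, 12045818810121728338980, 1242, 2373],
    [12045818810121728338980, 4745, 12045818810121728338980, 1202, 5425],
    [12045818810121728338980, 2453, 12045818810121728338980, 1386, 1017],
    [12045818810121728338980, 4509, 12045818810121728338980, 1378, 3393],
    [12045818810121728338980, 2689, 12045818810121728338980, 1226, 2689],
    [12045818810121728338980, 6945, 12045818810121728338980, 1066, 6945],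
    [12045818810121728338980, 1229, 12045818810121728338980, 1002, 1229]]

/-- Derivations. -/
def lemSteps138 : List (List (List Nat × Nat)) :=
  [[([], 4239), ([177, 1130], 4155)],
    [([], 4239), ([177, 1130], 4157)],
    [([], 4239), ([177, 1130], 4159)],
    [([], 4239), ([177, 1130], 4161)],
    [([], 4239), ([177, 1130], 4163)],
    [([], 4241), ([897, 1202], 4157)],
    [([], 4241), ([897, 1202], 4159)],
    [([], 4241), ([897, 1202], 4161)],
    [([], 4241), ([897, 1202], 4163)],
    [([], 4243), ([2105, 1154], 4159)],
    [([], 4243), ([2105, 1154], 4161)],
    [([], 4243), ([2105, 1154], 4163)],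
    [([], 4245), ([2861, 1322], 4161)],
    [([], 4245), ([2861, 1322], 4163)],
    [([], 4247), ([1617, 1474], 4163)],
    [([], 4251), ([3357, 1362], 4155)]]

end Cfsg.Lib.J4Iso
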