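/-! Generated data: lemmas. -/

set_option autoImplicit false
set_option maxRecDepth 20000

namespace Cfsg.Lib.J4Iso

/-- Words. -/
def lemWords139 : List (List Nat) :=
  [[12045818810121728338980, 2253, 12045818810121728338980, 1114, 3957],
    [12045818810121728338980, 3033, 12045818810121728338980, 1090, 437],
    [12045818810121728338980, 6777, 12045818810121728338980, 1210, 2929],
    [12045818810121728338980, 357, 12045818810121728338980, 1138, 357],
    [12045818810121728338980, 3141, 12045818810121728338980, 1194, 3141],
    [12045818810121728338980, 3921, 12045818810121728338980, 1106, 3921],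
    [12045818810121728338980, 7921, 12045818810121728338980, 1450, 4089],
    [12045818810121728338980, 1517, 12045818810121728338980, 1154, 1517],
    [12045818810121728338980, 849, 12045818810121728338980, 1298, 6197],
    [12045818810121728338980, 4849, 12045818810121728338980, 1386, 6301],
    [12045818810121728338980, 2541, 12045818810121728338980, 1202, 3669],
    [12045818810121728338980, 4581, 12045818810121728338980, 1226, 4581],
    [12045818810121728338980, 2809, 12045818810121728338980, 1378, 5669],
    [12045818810121728338980, 7001, 12045818810121728338980, 978, 7001],
    [12045818810121728338980, 3221, 12045818810121728338980, 1322, 3221],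
    [12045818810121728338980, 3969, 12045818810121728338980, 1154, 3969]]

/-- Derivations. -/
def lemSteps139 : List (List (List Nat × Nat)) :=
  [[([], 4251), ([3357, 1362], 4157)],
    [([], 4251), ([3357, 1362], 4159)],
    [([], 4251), ([3357, 1362], 4161)],
    [([], 4251), ([3357, 1362], 4163)],
    [([], 4253), ([3629, 1386], 4157)],
    [([], 4253), ([3629, 1386], 4159)],
    [([], 4253), ([3629, 1386], 4161)],
    [([], 4253), ([3629, 1386], 4163)],
    [([], 4255), ([6473, 1450], 4159)],
    [([], 4255), ([6473, 1450], 4161)],
    [([], 4255), ([6473, 1450], 4163)],
    [([], 4257), ([2901, 1178], 4161)],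
    [([], 4257), ([2901, 1178], 4163)],
    [([], 4259), ([6901, 1194], 4163)],
    [([], 4263), ([3837, 1242], 4157)],
    [([], 4263), ([3837, 1242], 4159)]]

end Cfsg.Lib.J4Iso
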