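/-! Generated data: lemmas. -/

set_option autoImplicit false
set_option maxRecDepth 20000

namespace Cfsg.Lib.J4Iso

/-- Words. -/
def lemWords140 : List (List Nat) :=
  [[12045818810121728338980, 7713, 12045818810121728338980, 1330, 5109],
    [12045818810121728338980, 1341, 12045818810121728338980, 1106, 1341],
    [12045818810121728338980, 897, 12045818810121728338980, 1202, 1081],
    [12045818810121728338980, 4641, 12045818810121728338980, 1242, 6221],
    [12045818810121728338980, 2365, 12045818810121728338980, 1298, 4697],
    [12045818810121728338980, 4405, 12045818810121728338980, 978, 4405],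
    [12045818810121728338980, 2601, 12045818810121728338980, 1066, 2601],
    [12045818810121728338980, 7049, 12045818810121728338980, 1226, 7049],
    [12045818810121728338980, 1801, 12045818810121728338980, 1130, 1801],
    [12045818810121728338980, 5801, 12045818810121728338980, 1266, 4369],
    [12045818810121728338980, 3509, 12045818810121728338980, 986, 6917],
    [12045818810121728338980, 5565, 12045818810121728338980, 1074, 5565],
    [12045818810121728338980, 3745, 12045818810121728338980, 1002, 3745],
    [12045818810121728338980, 7937, 12045818810121728338980, 1338, 5485],
    [12045818810121728338980, 6589, 12045818810121728338980, 1410, 729],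
    [12045818810121728338980, 673, 12045818810121728338980, 1114, 1305]]

/-- Derivations. -/
def lemSteps140 : List (List (List Nat × Nat)) :=
  [[([], 4263), ([3837, 1242], 4161)],
    [([], 4263), ([3837, 1242], 4163)],
    [([], 4265), ([1349, 1330], 4159)],
    [([], 4265), ([1349, 1330], 4161)],
    [([], 4265), ([1349, 1330], 4163)],
    [([], 4267), ([5977, 1474], 4161)],
    [([], 4267), ([5977, 1474], 4163)],
    [([], 4269), ([6693, 1322], 4163)],
    [([], 4273), ([2977, 1346], 4159)],
    [([], 4273), ([2977, 1346], 4161)],
    [([], 4273), ([2977, 1346], 4163)],
    [([], 4275), ([5225, 1410], 4161)],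
    [([], 4275), ([5225, 1410], 4163)],
    [([], 4277), ([4985, 1402], 4163)],
    [([], 4281), ([781, 1074], 4161)],
    [([], 4281), ([781, 1074], 4163)]]

end Cfsg.Lib.J4Iso
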