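/-! Generated data: lemmas. -/

set_option autoImplicit false
set_option maxRecDepth 20000

namespace Cfsg.Lib.J4Iso

/-- Words. -/
def lemWords141 : List (List Nat) :=
  [[12045818810121728338980, 4865, 12045818810121728338980, 1258, 7893],
    [12045818810121728338980, 4117, 12045818810121728338980, 1210, 285],
    [12045818810121728338980, 1265, 12045818810121728338980, 1010, 5625],
    [12045818810121728338980, 2289, 12045818810121728338980, 1394, 669],
    [12045818810121728338980, 3045, 12045818810121728338980, 1458, 4225],
    [12045818810121728338980, 6725, 12045818810121728338980, 1018, 6725],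
    [12045818810121728338980, 345, 12045818810121728338980, 1418, 4177],
    [12045818810121728338980, 3193, 12045818810121728338980, 946, 4261],
    [12045818810121728338980, 3949, 12045818810121728338980, 1314, 3949],
    [12045818810121728338980, 7885, 12045818810121728338980, 1170, 4037],
    [12045818810121728338980, 1489, 12045818810121728338980, 970, 1489],
    [12045818810121728338980, 877, 12045818810121728338980, 1306, 1237],
    [12045818810121728338980, 4813, 12045818810121728338980, 1274, 1149],
    [12045818810121728338980, 2513, 12045818810121728338980, 1082, 4789],
    [12045818810121728338980, 4569, 12045818810121728338980, 1290, 4569],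
    [12045818810121728338980, 2757, 12045818810121728338980, 1250, 5657]]

/-- Derivations. -/
def lemSteps141 : List (List (List Nat × Nat)) :=
  [[([], 4283), ([1053, 1098], 4163)],
    [([], 4287), ([4537, 1130], 4163)],
    [([], 4293), ([245, 1050], 4155)],
    [([], 4293), ([245, 1050], 4157)],
    [([], 4293), ([245, 1050], 4159)],
    [([], 4293), ([245, 1050], 4161)],
    [([], 4293), ([245, 1050], 4163)],
    [([], 4295), ([4813, 1274], 4157)],
    [([], 4295), ([4813, 1274], 4159)],
    [([], 4295), ([4813, 1274], 4161)],
    [([], 4295), ([4813, 1274], 4163)],
    [([], 4297), ([6517, 1170], 4159)],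
    [([], 4297), ([6517, 1170], 4161)],
    [([], 4297), ([6517, 1170], 4163)],
    [([], 4299), ([6069, 1370], 4161)],
    [([], 4299), ([6069, 1370], 4163)]]

end Cfsg.Lib.J4Iso
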