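/-! Generated data: lemmas. -/

set_option autoImplicit false
set_option maxRecDepth 20000

namespace Cfsg.Lib.J4Iso

/-- Words. -/
def lemWords142 : List (List Nat) :=
  [[12045818810121728338980, 7013, 12045818810121728338980, 7013],
    [12045818810121728338980, 3241, 12045818810121728338980, 962, 4213],
    [12045818810121728338980, 4029, 12045818810121728338980, 970, 4029],
    [12045818810121728338980, 7709, 12045818810121728338980, 1162, 5065],
    [12045818810121728338980, 1281, 12045818810121728338980, 1314, 1281],
    [12045818810121728338980, 957, 12045818810121728338980, 1082, 6361],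
    [12045818810121728338980, 4637, 12045818810121728338980, 994, 1197],
    [12045818810121728338980, 2305, 12045818810121728338980, 1306, 3769],
    [12045818810121728338980, 4361, 12045818810121728338980, 4361],
    [12045818810121728338980, 2581, 12045818810121728338980, 1146, 2581],
    [12045818810121728338980, 7093, 12045818810121728338980, 1290, 7093],
    [12045818810121728338980, 1845, 12045818810121728338980, 1218, 2785],
    [12045818810121728338980, 5781, 12045818810121728338980, 1058, 7417],
    [12045818810121728338980, 3465, 12045818810121728338980, 1442, 5869],
    [12045818810121728338980, 5505, 12045818810121728338980, 1042, 1161],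
    [12045818810121728338980, 3741, 12045818810121728338980, 1010, 8085]]

/-- Derivations. -/
def lemSteps142 : List (List (List Nat × Nat)) :=
  [[([], 4301), ([1557, 946], 4163)],
    [([], 4305), ([4637, 994], 4157)],
    [([], 4305), ([4637, 994], 4159)],
    [([], 4305), ([4637, 994], 4161)],
    [([], 4305), ([4637, 994], 4163)],
    [([], 4307), ([1401, 1162], 4159)],
    [([], 4307), ([1401, 1162], 4161)],
    [([], 4307), ([1401, 1162], 4163)],
    [([], 4309), ([3001, 954], 4161)],
    [([], 4309), ([3001, 954], 4163)],
    [([], 4311), ([1733, 962], 4163)],
    [([], 4315), ([6805, 1234], 4159)],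
    [([], 4315), ([6805, 1234], 4161)],
    [([], 4315), ([6805, 1234], 4163)],
    [([], 4317), ([6529, 1354], 4161)],
    [([], 4317), ([6529, 1354], 4163)]]

end Cfsg.Lib.J4Iso
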