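/-! Generated data: lemmas. -/

set_option autoImplicit false
set_option maxRecDepth 20000

namespace Cfsg.Lib.J4Iso

/-- Words. -/
def lemWords144 : List (List Nat) :=
  [[12045818810121728338980, 5869, 12045818810121728338980, 1442, 3465],
    [12045818810121728338980, 3569, 12045818810121728338980, 1058, 1949],
    [12045818810121728338980, 5625, 12045818810121728338980, 1010, 1265],
    [12045818810121728338980, 3813, 12045818810121728338980, 1042, 8173],
    [12045818810121728338980, 8005, 12045818810121728338980, 1026, 6397],
    [12045818810121728338980, 6649, 12045818810121728338980, 1394, 5013],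
    [12045818810121728338980, 741, 12045818810121728338980, 1354, 5205],
    [12045818810121728338980, 4933, 12045818810121728338980, 1186, 4933],
    [12045818810121728338980, 4177, 12045818810121728338980, 1418, 345],
    [12045818810121728338980, 1949, 12045818810121728338980, 1058, 3569],
    [12045818810121728338980, 5693, 12045818810121728338980, 1218, 7145],
    [12045818810121728338980, 3361, 12045818810121728338980, 1050, 3361],
    [12045818810121728338980, 5417, 12045818810121728338980, 1026, 4753],
    [12045818810121728338980, 3637, 12045818810121728338980, 1282, 5457],
    [12045818810121728338980, 8085, 12045818810121728338980, 1010, 3741],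
    [12045818810121728338980, 6441, 12045818810121728338980, 1186, 6441]]

/-- Derivations. -/
def lemSteps144 : List (List (List Nat × Nat)) :=
  [[([], 4345), ([5945, 1458], 4161)],
    [([], 4345), ([5945, 1458], 4163)],
    [([], 4347), ([1317, 1394], 4161)],
    [([], 4347), ([1317, 1394], 4163)],
    [([], 4349), ([7913, 1122], 4163)],
    [([], 4353), ([4673, 1010], 4161)],
    [([], 4353), ([4673, 1010], 4163)],
    [([], 4355), ([2445, 1282], 4163)],
    [([], 4359), ([4605, 1050], 4163)],
    [([], 4365), ([7557, 1418], 4159)],
    [([], 4365), ([7557, 1418], 4161)],
    [([], 4365), ([7557, 1418], 4163)],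
    [([], 4367), ([3993, 1186], 4161)],
    [([], 4367), ([3993, 1186], 4163)],
    [([], 4369), ([2185, 1354], 4163)],
    [([], 4373), ([1057, 1026], 4161)]]

end Cfsg.Lib.J4Iso
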