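/-! Generated data: lemmas. -/

set_option autoImplicit false
set_option maxRecDepth 20000

namespace Cfsg.Lib.J4Iso

/-- Words. -/
def lemWords145 : List (List Nat) :=
  [[12045818810121728338980, 565, 12045818810121728338980, 1122, 565],
    [12045818810121728338980, 5013, 12045818810121728338980, 1394, 6649],
    [12045818810121728338980, 4225, 12045818810121728338980, 1458, 3045],
    [12045818810121728338980, 7585, 12045818810121728338980, 962, 381],
    [12045818810121728338980, 1725, 12045818810121728338980, 1370, 6753],
    [12045818810121728338980, 5917, 12045818810121728338980, 946, 3009],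
    [12045818810121728338980, 5129, 12045818810121728338980, 1314, 5129],
    [12045818810121728338980, 6153, 12045818810121728338980, 1306, 8113],
    [12045818810121728338980, 1257, 12045818810121728338980, 1298, 8077],
    [12045818810121728338980, 2281, 12045818810121728338980, 1106, 2281],
    [12045818810121728338980, 3069, 12045818810121728338980, 1194, 3069],
    [12045818810121728338980, 6749, 12045818810121728338980, 1178, 6749],
    [12045818810121728338980, 321, 12045818810121728338980, 1322, 321],
    [12045818810121728338980, 3169, 12045818810121728338980, 1090, 1549],
    [12045818810121728338980, 3957, 12045818810121728338980, 1114, 2253],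
    [12045818810121728338980, 7893, 12045818810121728338980, 1258, 4865]]

/-- Derivations. -/
def lemSteps145 : List (List (List Nat × Nat)) :=
  [[([], 4373), ([1057, 1026], 4163)],
    [([], 4375), ([817, 1042], 4163)],
    [([], 4379), ([6977, 1058], 4163)],
    [([], 4385), ([7117, 1250], 4161)],
    [([], 4385), ([7117, 1250], 4163)],
    [([], 4387), ([5809], 4163)],
    [([], 4391), ([789, 994], 4163)],
    [([], 4397), ([5233, 1162], 4163)],
    [([], 4405), ([237, 1226], 4155)],
    [([], 4405), ([237, 1226], 4157)],
    [([], 4405), ([237, 1226], 4159)],
    [([], 4405), ([237, 1226], 4161)],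
    [([], 4405), ([237, 1226], 4163)],
    [([], 4407), ([3593, 1338], 4157)],
    [([], 4407), ([3593, 1338], 4159)],
    [([], 4407), ([3593, 1338], 4161)]]

end Cfsg.Lib.J4Iso
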