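/-! Generated data: lemmas. -/

set_option autoImplicit false
set_option maxRecDepth 20000

namespace Cfsg.Lib.J4Iso

/-- Words. -/
def lemWords146 : List (List Nat) :=
  [[12045818810121728338980, 1481, 12045818810121728338980, 1402, 2077],
    [12045818810121728338980, 885, 12045818810121728338980, 1002, 885],
    [12045818810121728338980, 4821, 12045818810121728338980, 1338, 6329],
    [12045818810121728338980, 2505, 12045818810121728338980, 1098, 8057],
    [12045818810121728338980, 4545, 12045818810121728338980, 1362, 7189],
    [12045818810121728338980, 2781, 12045818810121728338980, 1130, 2781],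
    [12045818810121728338980, 7037, 12045818810121728338980, 1266, 7365],
    [12045818810121728338980, 3249, 12045818810121728338980, 1138, 3249],
    [12045818810121728338980, 4005, 12045818810121728338980, 1402, 625],
    [12045818810121728338980, 7685, 12045818810121728338980, 1410, 1377],
    [12045818810121728338980, 1305, 12045818810121728338980, 1114, 673],
    [12045818810121728338980, 933, 12045818810121728338980, 1098, 5397],
    [12045818810121728338980, 4613, 12045818810121728338980, 1074, 4613],
    [12045818810121728338980, 2329, 12045818810121728338980, 1002, 2329],
    [12045818810121728338980, 4369, 12045818810121728338980, 1266, 5801],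
    [12045818810121728338980, 2573, 12045818810121728338980, 986, 7357]]

/-- Derivations. -/
def lemSteps146 : List (List (List Nat × Nat)) :=
  [[([], 4407), ([3593, 1338], 4163)],
    [([], 4409), ([1457, 1258], 4159)],
    [([], 4409), ([1457, 1258], 4161)],
    [([], 4409), ([1457, 1258], 4163)],
    [([], 4411), ([6777, 1210], 4161)],
    [([], 4411), ([6777, 1210], 4163)],
    [([], 4413), ([4285, 1090], 4163)],
    [([], 4417), ([1205, 1074], 4157)],
    [([], 4417), ([1205, 1074], 4159)],
    [([], 4417), ([1205, 1074], 4161)],
    [([], 4417), ([1205, 1074], 4163)],
    [([], 4419), ([5073, 1410], 4159)],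
    [([], 4419), ([5073, 1410], 4161)],
    [([], 4419), ([5073, 1410], 4163)],
    [([], 4421), ([3097, 1346], 4161)],
    [([], 4421), ([3097, 1346], 4163)]]

end Cfsg.Lib.J4Iso
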