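/-! Generated data: lemmas. -/

set_option autoImplicit false
set_option maxRecDepth 20000

namespace Cfsg.Lib.J4Iso

/-- Words. -/
def lemWords147 : List (List Nat) :=
  [[12045818810121728338980, 7085, 12045818810121728338980, 1362, 5753],
    [12045818810121728338980, 1837, 12045818810121728338980, 1378, 7153],
    [12045818810121728338980, 5773, 12045818810121728338980, 978, 5773],
    [12045818810121728338980, 3473, 12045818810121728338980, 1066, 3473],
    [12045818810121728338980, 5529, 12045818810121728338980, 1242, 8181],
    [12045818810121728338980, 3717, 12045818810121728338980, 1298, 5601],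
    [12045818810121728338980, 7973, 12045818810121728338980, 1386, 5449],
    [12045818810121728338980, 6553, 12045818810121728338980, 1330, 5197],
    [12045818810121728338980, 645, 12045818810121728338980, 1106, 645],
    [12045818810121728338980, 4901, 12045818810121728338980, 1450, 557],
    [12045818810121728338980, 4145, 12045818810121728338980, 1178, 4145],
    [12045818810121728338980, 3273, 12045818810121728338980, 1210, 7617],
    [12045818810121728338980, 4061, 12045818810121728338980, 1258, 521],
    [12045818810121728338980, 7805, 12045818810121728338980, 1114, 6597],
    [12045818810121728338980, 1377, 12045818810121728338980, 1410, 7685],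
    [12045818810121728338980, 989, 12045818810121728338980, 1338, 2481]]

/-- Derivations. -/
def lemSteps147 : List (List (List Nat × Nat)) :=
  [[([], 4423), ([6657, 1138], 4163)],
    [([], 4427), ([4321, 1474], 4159)],
    [([], 4427), ([4321, 1474], 4161)],
    [([], 4427), ([4321, 1474], 4163)],
    [([], 4429), ([765, 1330], 4161)],
    [([], 4429), ([765, 1330], 4163)],
    [([], 4431), ([7817, 1154], 4163)],
    [([], 4435), ([2373, 1242], 4161)],
    [([], 4435), ([2373, 1242], 4163)],
    [([], 4437), ([5425, 1202], 4163)],
    [([], 4441), ([3393, 1378], 4163)],
    [([], 4447), ([1229, 1002], 4157)],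
    [([], 4447), ([1229, 1002], 4159)],
    [([], 4447), ([1229, 1002], 4161)],
    [([], 4447), ([1229, 1002], 4163)],
    [([], 4449), ([3957, 1114], 4159)]]

end Cfsg.Lib.J4Iso
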