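/-! Generated data: lemmas. -/

set_option autoImplicit false
set_option maxRecDepth 20000

namespace Cfsg.Lib.J4Iso

/-- Words. -/
def lemWords148 : List (List Nat) :=
  [[12045818810121728338980, 4733, 12045818810121728338980, 1002, 4733],
    [12045818810121728338980, 2401, 12045818810121728338980, 1074, 2401],
    [12045818810121728338980, 4457, 12045818810121728338980, 986, 2009],
    [12045818810121728338980, 2677, 12045818810121728338980, 1266, 3533],
    [12045818810121728338980, 7125, 12045818810121728338980, 1130, 7125],
    [12045818810121728338980, 1877, 12045818810121728338980, 1226, 1877],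
    [12045818810121728338980, 5877, 12045818810121728338980, 1066, 5877],
    [12045818810121728338980, 3561, 12045818810121728338980, 978, 3561],
    [12045818810121728338980, 5601, 12045818810121728338980, 1298, 3717],
    [12045818810121728338980, 3837, 12045818810121728338980, 1242, 1169],
    [12045818810121728338980, 8029, 12045818810121728338980, 1202, 6373],
    [12045818810121728338980, 6625, 12045818810121728338980, 1106, 6625],
    [12045818810121728338980, 765, 12045818810121728338980, 1330, 3881],
    [12045818810121728338980, 4957, 12045818810121728338980, 1154, 4957],
    [12045818810121728338980, 4169, 12045818810121728338980, 1322, 4169],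
    [12045818810121728338980, 1925, 12045818810121728338980, 978, 1925]]

/-- Derivations. -/
def lemSteps148 : List (List (List Nat × Nat)) :=
  [[([], 4449), ([3957, 1114], 4161)],
    [([], 4449), ([3957, 1114], 4163)],
    [([], 4451), ([437, 1090], 4161)],
    [([], 4451), ([437, 1090], 4163)],
    [([], 4453), ([2929, 1210], 4163)],
    [([], 4457), ([3141, 1194], 4159)],
    [([], 4457), ([3141, 1194], 4161)],
    [([], 4457), ([3141, 1194], 4163)],
    [([], 4459), ([3921, 1106], 4161)],
    [([], 4459), ([3921, 1106], 4163)],
    [([], 4461), ([4089, 1450], 4163)],
    [([], 4465), ([6197, 1298], 4161)],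
    [([], 4465), ([6197, 1298], 4163)],
    [([], 4467), ([6301, 1386], 4163)],
    [([], 4471), ([4581, 1226], 4163)],
    [([], 4477), ([3221, 1322], 4159)]]

end Cfsg.Lib.J4Iso
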