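/-! Generated data: lemmas. -/

set_option autoImplicit false
set_option maxRecDepth 20000

namespace Cfsg.Lib.J4Iso

/-- Words. -/
def lemWords149 : List (List Nat) :=
  [[12045818810121728338980, 5669, 12045818810121728338980, 1378, 2809],
    [12045818810121728338980, 3385, 12045818810121728338980, 1226, 3385],
    [12045818810121728338980, 5425, 12045818810121728338980, 1202, 4745],
    [12045818810121728338980, 3629, 12045818810121728338980, 1386, 1089],
    [12045818810121728338980, 8077, 12045818810121728338980, 1298, 1257],
    [12045818810121728338980, 6449, 12045818810121728338980, 1154, 6449],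
    [12045818810121728338980, 557, 12045818810121728338980, 1450, 4901],
    [12045818810121728338980, 5005, 12045818810121728338980, 1106, 5005],
    [12045818810121728338980, 4249, 12045818810121728338980, 1194, 4249],
    [12045818810121728338980, 7609, 12045818810121728338980, 1138, 7609],
    [12045818810121728338980, 1701, 12045818810121728338980, 1210, 6061],
    [12045818810121728338980, 5893, 12045818810121728338980, 1090, 7529],
    [12045818810121728338980, 5137, 12045818810121728338980, 1114, 5033],
    [12045818810121728338980, 6161, 12045818810121728338980, 1002, 6161],
    [12045818810121728338980, 3317, 12045818810121728338980, 1018, 3317],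
    [12045818810121728338980, 4065, 12045818810121728338980, 1122, 4065]]

/-- Derivations. -/
def lemSteps149 : List (List (List Nat × Nat)) :=
  [[([], 4477), ([3221, 1322], 4161)],
    [([], 4477), ([3221, 1322], 4163)],
    [([], 4479), ([3969, 1154], 4161)],
    [([], 4479), ([3969, 1154], 4163)],
    [([], 4481), ([5109, 1330], 4163)],
    [([], 4485), ([1081, 1202], 4161)],
    [([], 4485), ([1081, 1202], 4163)],
    [([], 4487), ([6221, 1242], 4163)],
    [([], 4491), ([4405, 978], 4163)],
    [([], 4497), ([1801, 1130], 4161)],
    [([], 4497), ([1801, 1130], 4163)],
    [([], 4499), ([4369, 1266], 4163)],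
    [([], 4503), ([5565, 1074], 4163)],
    [([], 4509), ([729, 1410], 4163)],
    [([], 4517), ([5625, 1010], 4157)],
    [([], 4517), ([5625, 1010], 4159)]]

end Cfsg.Lib.J4Iso
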