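/-! Generated data: lemmas. -/

set_option autoImplicit false
set_option maxRecDepth 20000

namespace Cfsg.Lib.J4Iso

/-- Words. -/
def lemWords150 : List (List Nat) :=
  [[12045818810121728338980, 7745, 12045818810121728338980, 1394, 5165],
    [12045818810121728338980, 1373, 12045818810121728338980, 1354, 5101],
    [12045818810121728338980, 993, 12045818810121728338980, 1282, 6277],
    [12045818810121728338980, 4673, 12045818810121728338980, 1010, 841],
    [12045818810121728338980, 2397, 12045818810121728338980, 1042, 6229],
    [12045818810121728338980, 4437, 12045818810121728338980, 1442, 2609],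
    [12045818810121728338980, 2633, 12045818810121728338980, 1058, 37],
    [12045818810121728338980, 7145, 12045818810121728338980, 1218, 5693],
    [12045818810121728338980, 1897, 12045818810121728338980, 1290, 1897],
    [12045818810121728338980, 5833, 12045818810121728338980, 1146, 5833],
    [12045818810121728338980, 3541, 12045818810121728338980, 3541],
    [12045818810121728338980, 5597, 12045818810121728338980, 1306, 4709],
    [12045818810121728338980, 3777, 12045818810121728338980, 994, 6257],
    [12045818810121728338980, 8033, 12045818810121728338980, 1082, 1029],
    [12045818810121728338980, 6621, 12045818810121728338980, 1314, 6621],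
    [12045818810121728338980, 705, 12045818810121728338980, 1162, 3861]]

/-- Derivations. -/
def lemSteps150 : List (List (List Nat × Nat)) :=
  [[([], 4517), ([5625, 1010], 4161)],
    [([], 4517), ([5625, 1010], 4163)],
    [([], 4519), ([669, 1394], 4159)],
    [([], 4519), ([669, 1394], 4161)],
    [([], 4519), ([669, 1394], 4163)],
    [([], 4521), ([4225, 1458], 4161)],
    [([], 4521), ([4225, 1458], 4163)],
    [([], 4523), ([6725, 1018], 4163)],
    [([], 4527), ([4261, 946], 4159)],
    [([], 4527), ([4261, 946], 4161)],
    [([], 4527), ([4261, 946], 4163)],
    [([], 4529), ([3949, 1314], 4161)],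
    [([], 4529), ([3949, 1314], 4163)],
    [([], 4531), ([4037, 1170], 4163)],
    [([], 4535), ([1237, 1306], 4161)],
    [([], 4535), ([1237, 1306], 4163)]]

end Cfsg.Lib.J4Iso
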