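/-! Generated data: lemmas. -/

set_option autoImplicit false
set_option maxRecDepth 20000

namespace Cfsg.Lib.J4Iso

/-- Words. -/
def lemWords151 : List (List Nat) :=
  [[12045818810121728338980, 4961, 12045818810121728338980, 970, 4961],
    [12045818810121728338980, 4213, 12045818810121728338980, 962, 3241],
    [12045818810121728338980, 1977, 12045818810121728338980, 1977],
    [12045818810121728338980, 5657, 12045818810121728338980, 1250, 2757],
    [12045818810121728338980, 3333, 12045818810121728338980, 1290, 3333],
    [12045818810121728338980, 5389, 12045818810121728338980, 1082, 3689],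
    [12045818810121728338980, 3601, 12045818810121728338980, 1274, 6305],
    [12045818810121728338980, 8113, 12045818810121728338980, 1306, 6153],
    [12045818810121728338980, 6413, 12045818810121728338980, 970, 6413],
    [12045818810121728338980, 529, 12045818810121728338980, 1170, 4889],
    [12045818810121728338980, 5041, 12045818810121728338980, 1314, 5041],
    [12045818810121728338980, 4261, 12045818810121728338980, 946, 3193],
    [12045818810121728338980, 7557, 12045818810121728338980, 1418, 3213],
    [12045818810121728338980, 1689, 12045818810121728338980, 1018, 1689],
    [12045818810121728338980, 5945, 12045818810121728338980, 1458, 3165],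
    [12045818810121728338980, 5165, 12045818810121728338980, 1394, 7745]]

/-- Derivations. -/
def lemSteps151 : List (List (List Nat × Nat)) :=
  [[([], 4537), ([1149, 1274], 4163)],
    [([], 4541), ([4569, 1290], 4163)],
    [([], 4547), ([4213, 962], 4159)],
    [([], 4547), ([4213, 962], 4161)],
    [([], 4547), ([4213, 962], 4163)],
    [([], 4549), ([4029, 970], 4161)],
    [([], 4549), ([4029, 970], 4163)],
    [([], 4551), ([5065, 1162], 4163)],
    [([], 4555), ([6361, 1082], 4161)],
    [([], 4555), ([6361, 1082], 4163)],
    [([], 4557), ([1197, 994], 4163)],
    [([], 4561), ([4361], 4163)],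
    [([], 4567), ([2785, 1218], 4161)],
    [([], 4567), ([2785, 1218], 4163)],
    [([], 4569), ([7417, 1058], 4163)],
    [([], 4573), ([1161, 1042], 4163)]]

end Cfsg.Lib.J4Iso
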