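/-! Generated data: lemmas. -/

set_option autoImplicit false
set_option maxRecDepth 20000

namespace Cfsg.Lib.J4Iso

/-- Words. -/
def lemWords152 : List (List Nat) :=
  [[12045818810121728338980, 6189, 12045818810121728338980, 1010, 2341],
    [12045818810121728338980, 1985, 12045818810121728338980, 1146, 1985],
    [12045818810121728338980, 5729, 12045818810121728338980, 1290, 5729],
    [12045818810121728338980, 3453, 12045818810121728338980, 1250, 4513],
    [12045818810121728338980, 5493, 12045818810121728338980, 1274, 965],
    [12045818810121728338980, 3689, 12045818810121728338980, 1082, 5389],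
    [12045818810121728338980, 8137, 12045818810121728338980, 994, 2425],
    [12045818810121728338980, 6517, 12045818810121728338980, 1170, 2173],
    [12045818810121728338980, 617, 12045818810121728338980, 970, 617],
    [12045818810121728338980, 5065, 12045818810121728338980, 1162, 7709],
    [12045818810121728338980, 4317, 12045818810121728338980, 954, 4317],
    [12045818810121728338980, 7677, 12045818810121728338980, 1018, 7677],
    [12045818810121728338980, 1761, 12045818810121728338980, 1418, 6121],
    [12045818810121728338980, 5953, 12045818810121728338980, 1234, 497],
    [12045818810121728338980, 5205, 12045818810121728338980, 1354, 741],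
    [12045818810121728338980, 6229, 12045818810121728338980, 1042, 2397]]

/-- Derivations. -/
def lemSteps152 : List (List (List Nat × Nat)) :=
  [[([], 4579), ([3889, 1354], 4163)],
    [([], 4587), ([4109, 1370], 4159)],
    [([], 4587), ([4109, 1370], 4161)],
    [([], 4587), ([4109, 1370], 4163)],
    [([], 4589), ([7885, 1170], 4161)],
    [([], 4589), ([7885, 1170], 4163)],
    [([], 4591), ([7781, 1314], 4163)],
    [([], 4595), ([5493, 1274], 4161)],
    [([], 4595), ([5493, 1274], 4163)],
    [([], 4597), ([5597, 1306], 4163)],
    [([], 4601), ([4465, 1146], 4163)],
    [([], 4607), ([1869, 1050], 4161)],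
    [([], 4607), ([1869, 1050], 4163)],
    [([], 4609), ([3465, 1442], 4163)],
    [([], 4613), ([1265, 1010], 4163)],
    [([], 4619), ([5013, 1394], 4163)]]

end Cfsg.Lib.J4Iso
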