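/-! Generated data: lemmas. -/

set_option autoImplicit false
set_option maxRecDepth 20000

namespace Cfsg.Lib.J4Iso

/-- Words. -/
def lemWords153 : List (List Nat) :=
  [[12045818810121728338980, 7469, 12045818810121728338980, 1234, 2973],
    [12045818810121728338980, 1585, 12045818810121728338980, 1458, 7509],
    [12045818810121728338980, 6033, 12045818810121728338980, 1018, 6033],
    [12045818810121728338980, 5253, 12045818810121728338980, 1122, 5253],
    [12045818810121728338980, 6277, 12045818810121728338980, 1282, 993],
    [12045818810121728338980, 7181, 12045818810121728338980, 1290, 7181],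
    [12045818810121728338980, 3309, 12045818810121728338980, 1178, 3309],
    [12045818810121728338980, 4089, 12045818810121728338980, 1450, 7921],
    [12045818810121728338980, 7769, 12045818810121728338980, 1106, 7769],
    [12045818810121728338980, 1349, 12045818810121728338980, 1330, 2193],
    [12045818810121728338980, 1017, 12045818810121728338980, 1386, 2453],
    [12045818810121728338980, 4697, 12045818810121728338980, 1298, 2365],
    [12045818810121728338980, 2373, 12045818810121728338980, 1242, 809],
    [12045818810121728338980, 4429, 12045818810121728338980, 1066, 4429],
    [12045818810121728338980, 2641, 12045818810121728338980, 978, 2641],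
    [12045818810121728338980, 7153, 12045818810121728338980, 1378, 1837]]

/-- Derivations. -/
def lemSteps153 : List (List (List Nat × Nat)) :=
  [[([], 4627), ([3569, 1058], 4161)],
    [([], 4627), ([3569, 1058], 4163)],
    [([], 4629), ([7145, 1218], 4163)],
    [([], 4633), ([4753, 1026], 4163)],
    [([], 4639), ([6441, 1186], 4163)],
    [([], 4647), ([381, 962], 4163)],
    [([], 4657), ([8077, 1298], 4157)],
    [([], 4657), ([8077, 1298], 4159)],
    [([], 4657), ([8077, 1298], 4161)],
    [([], 4657), ([8077, 1298], 4163)],
    [([], 4659), ([2281, 1106], 4159)],
    [([], 4659), ([2281, 1106], 4161)],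
    [([], 4659), ([2281, 1106], 4163)],
    [([], 4661), ([3069, 1194], 4161)],
    [([], 4661), ([3069, 1194], 4163)],
    [([], 4663), ([6749, 1178], 4163)]]

end Cfsg.Lib.J4Iso
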