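/-! Generated data: lemmas. -/

set_option autoImplicit false
set_option maxRecDepth 20000

namespace Cfsg.Lib.J4Iso

/-- Words. -/
def lemWords154 : List (List Nat) :=
  [[12045818810121728338980, 1905, 12045818810121728338980, 1362, 2725],
    [12045818810121728338980, 5841, 12045818810121728338980, 986, 97],
    [12045818810121728338980, 3533, 12045818810121728338980, 1266, 2677],
    [12045818810121728338980, 5573, 12045818810121728338980, 1002, 5573],
    [12045818810121728338980, 3801, 12045818810121728338980, 1074, 3801],
    [12045818810121728338980, 8057, 12045818810121728338980, 1098, 2505],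
    [12045818810121728338980, 6597, 12045818810121728338980, 1114, 7805],
    [12045818810121728338980, 729, 12045818810121728338980, 1410, 6589],
    [12045818810121728338980, 4985, 12045818810121728338980, 1402, 7853],
    [12045818810121728338980, 4205, 12045818810121728338980, 1138, 4205],
    [12045818810121728338980, 1953, 12045818810121728338980, 1266, 25],
    [12045818810121728338980, 5633, 12045818810121728338980, 1130, 5633],
    [12045818810121728338980, 3357, 12045818810121728338980, 1362, 201],
    [12045818810121728338980, 5397, 12045818810121728338980, 1098, 933],
    [12045818810121728338980, 3593, 12045818810121728338980, 1338, 1125],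
    [12045818810121728338980, 8105, 12045818810121728338980, 1002, 8105]]

/-- Derivations. -/
def lemSteps154 : List (List (List Nat × Nat)) :=
  [[([], 4667), ([1549, 1090], 4159)],
    [([], 4667), ([1549, 1090], 4161)],
    [([], 4667), ([1549, 1090], 4163)],
    [([], 4669), ([2253, 1114], 4161)],
    [([], 4669), ([2253, 1114], 4163)],
    [([], 4671), ([4865, 1258], 4163)],
    [([], 4675), ([885, 1002], 4161)],
    [([], 4675), ([885, 1002], 4163)],
    [([], 4677), ([6329, 1338], 4163)],
    [([], 4681), ([7189, 1362], 4163)],
    [([], 4687), ([3249, 1138], 4159)],
    [([], 4687), ([3249, 1138], 4161)],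
    [([], 4687), ([3249, 1138], 4163)],
    [([], 4689), ([625, 1402], 4161)],
    [([], 4689), ([625, 1402], 4163)],
    [([], 4691), ([1377, 1410], 4163)]]

end Cfsg.Lib.J4Iso
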