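/-! Generated data: lemmas. -/

set_option autoImplicit false
set_option maxRecDepth 20000

namespace Cfsg.Lib.J4Iso

/-- Words. -/
def lemWords155 : List (List Nat) :=
  [[12045818810121728338980, 6421, 12045818810121728338980, 1402, 5313],
    [12045818810121728338980, 521, 12045818810121728338980, 1258, 4061],
    [12045818810121728338980, 5033, 12045818810121728338980, 1114, 5137],
    [12045818810121728338980, 4285, 12045818810121728338980, 1090, 6865],
    [12045818810121728338980, 7581, 12045818810121728338980, 1322, 7581],
    [12045818810121728338980, 1665, 12045818810121728338980, 1178, 1665],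
    [12045818810121728338980, 5921, 12045818810121728338980, 1194, 5921],
    [12045818810121728338980, 5173, 12045818810121728338980, 1106, 5173],
    [12045818810121728338980, 6197, 12045818810121728338980, 1298, 849],
    [12045818810121728338980, 2009, 12045818810121728338980, 986, 4457],
    [12045818810121728338980, 5753, 12045818810121728338980, 1362, 7085],
    [12045818810121728338980, 3429, 12045818810121728338980, 1130, 3429],
    [12045818810121728338980, 5485, 12045818810121728338980, 1338, 7937],
    [12045818810121728338980, 3697, 12045818810121728338980, 1098, 6337],
    [12045818810121728338980, 8145, 12045818810121728338980, 1074, 8145],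
    [12045818810121728338980, 6509, 12045818810121728338980, 1258, 5305]]

/-- Derivations. -/
def lemSteps155 : List (List (List Nat × Nat)) :=
  [[([], 4695), ([5397, 1098], 4161)],
    [([], 4695), ([5397, 1098], 4163)],
    [([], 4697), ([4613, 1074], 4163)],
    [([], 4701), ([5801, 1266], 4163)],
    [([], 4707), ([7153, 1378], 4161)],
    [([], 4707), ([7153, 1378], 4163)],
    [([], 4709), ([5773, 978], 4163)],
    [([], 4713), ([8181, 1242], 4163)],
    [([], 4719), ([5197, 1330], 4163)],
    [([], 4727), ([7617, 1210], 4159)],
    [([], 4727), ([7617, 1210], 4161)],
    [([], 4727), ([7617, 1210], 4163)],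
    [([], 4729), ([521, 1258], 4161)],
    [([], 4729), ([521, 1258], 4163)],
    [([], 4731), ([6597, 1114], 4163)],
    [([], 4735), ([2481, 1338], 4161)]]

end Cfsg.Lib.J4Iso
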