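/-! Generated data: lemmas. -/

set_option autoImplicit false
set_option maxRecDepth 20000

namespace Cfsg.Lib.J4Iso

/-- Words. -/
def lemWords157 : List (List Nat) :=
  [[12045818810121728338980, 3417, 12045818810121728338980, 1218, 141],
    [12045818810121728338980, 5457, 12045818810121728338980, 1282, 3637],
    [12045818810121728338980, 3661, 12045818810121728338980, 1026, 2549],
    [12045818810121728338980, 8173, 12045818810121728338980, 1042, 3813],
    [12045818810121728338980, 6481, 12045818810121728338980, 1122, 6481],
    [12045818810121728338980, 589, 12045818810121728338980, 1186, 589],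
    [12045818810121728338980, 5101, 12045818810121728338980, 1354, 1373],
    [12045818810121728338980, 4345, 12045818810121728338980, 1234, 1609],
    [12045818810121728338980, 7641, 12045818810121728338980, 1370, 261],
    [12045818810121728338980, 1733, 12045818810121728338980, 962, 6681],
    [12045818810121728338980, 5989, 12045818810121728338980, 954, 5989],
    [12045818810121728338980, 5233, 12045818810121728338980, 1162, 6565],
    [12045818810121728338980, 6257, 12045818810121728338980, 994, 3777],
    [12045818810121728338980, 7433, 12045818810121728338980, 954, 7433],
    [12045818810121728338980, 1557, 12045818810121728338980, 946, 6857],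
    [12045818810121728338980, 6069, 12045818810121728338980, 1370, 2921]]

/-- Derivations. -/
def lemSteps157 : List (List (List Nat × Nat)) :=
  [[([], 4797), ([3317, 1018], 4163)],
    [([], 4799), ([4065, 1122], 4161)],
    [([], 4799), ([4065, 1122], 4163)],
    [([], 4801), ([5165, 1394], 4163)],
    [([], 4805), ([6277, 1282], 4161)],
    [([], 4805), ([6277, 1282], 4163)],
    [([], 4807), ([841, 1010], 4163)],
    [([], 4811), ([2609, 1442], 4163)],
    [([], 4817), ([1897, 1290], 4161)],
    [([], 4817), ([1897, 1290], 4163)],
    [([], 4819), ([5833, 1146], 4163)],
    [([], 4823), ([4709, 1306], 4163)],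
    [([], 4829), ([6621, 1314], 4163)],
    [([], 4837), ([1977], 4161)],
    [([], 4837), ([1977], 4163)],
    [([], 4839), ([2757, 1250], 4163)]]

end Cfsg.Lib.J4Iso
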