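/-! Generated data: lemmas. -/

set_option autoImplicit false
set_option maxRecDepth 20000

namespace Cfsg.Lib.J4Iso

/-- Words. -/
def lemWords158 : List (List Nat) :=
  [[12045818810121728338980, 5281, 12045818810121728338980, 1170, 1449],
    [12045818810121728338980, 6305, 12045818810121728338980, 1274, 3601],
    [12045818810121728338980, 7209, 12045818810121728338980, 1050, 7209],
    [12045818810121728338980, 7537, 12045818810121728338980, 946, 429],
    [12045818810121728338980, 1645, 12045818810121728338980, 954, 1645],
    [12045818810121728338980, 6093, 12045818810121728338980, 962, 2833],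
    [12045818810121728338980, 5337, 12045818810121728338980, 970, 5337],
    [12045818810121728338980, 6361, 12045818810121728338980, 1082, 957],
    [12045818810121728338980, 7249, 12045818810121728338980, 1218, 4485],
    [12045818810121728338980, 7297, 12045818810121728338980, 1442, 2021],
    [12045818810121728338980, 2045, 12045818810121728338980, 1066, 2045],
    [12045818810121728338980, 5725, 12045818810121728338980, 1226, 5725],
    [12045818810121728338980, 3393, 12045818810121728338980, 1378, 4509],
    [12045818810121728338980, 5449, 12045818810121728338980, 1386, 7973],
    [12045818810121728338980, 3669, 12045818810121728338980, 1202, 2541],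
    [12045818810121728338980, 8181, 12045818810121728338980, 1242, 5529]]

/-- Derivations. -/
def lemSteps158 : List (List (List Nat × Nat)) :=
  [[([], 4843), ([3689, 1082], 4163)],
    [([], 4849), ([6413, 970], 4163)],
    [([], 4857), ([3213, 1418], 4163)],
    [([], 4867), ([1985, 1146], 4161)],
    [([], 4867), ([1985, 1146], 4163)],
    [([], 4869), ([5729, 1290], 4163)],
    [([], 4873), ([965, 1274], 4163)],
    [([], 4879), ([2173, 1170], 4163)],
    [([], 4887), ([7677, 1018], 4163)],
    [([], 4897), ([2973, 1234], 4163)],
    [([], 4909), ([3309, 1178], 4159)],
    [([], 4909), ([3309, 1178], 4161)],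
    [([], 4909), ([3309, 1178], 4163)],
    [([], 4911), ([7921, 1450], 4161)],
    [([], 4911), ([7921, 1450], 4163)],
    [([], 4913), ([7769, 1106], 4163)]]

end Cfsg.Lib.J4Iso
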