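/-! Generated data: lemmas. -/

set_option autoImplicit false
set_option maxRecDepth 20000

namespace Cfsg.Lib.J4Iso

/-- Words. -/
def lemWords159 : List (List Nat) :=
  [[12045818810121728338980, 6473, 12045818810121728338980, 1450, 2113],
    [12045818810121728338980, 597, 12045818810121728338980, 1154, 597],
    [12045818810121728338980, 5109, 12045818810121728338980, 1330, 7713],
    [12045818810121728338980, 4321, 12045818810121728338980, 1474, 3133],
    [12045818810121728338980, 7617, 12045818810121728338980, 1210, 3273],
    [12045818810121728338980, 1757, 12045818810121728338980, 1138, 1757],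
    [12045818810121728338980, 6013, 12045818810121728338980, 1346, 4293],
    [12045818810121728338980, 5225, 12045818810121728338980, 1410, 3853],
    [12045818810121728338980, 6249, 12045818810121728338980, 1074, 6249],
    [12045818810121728338980, 7441, 12045818810121728338980, 1346, 6825],
    [12045818810121728338980, 1549, 12045818810121728338980, 1090, 3169],
    [12045818810121728338980, 6061, 12045818810121728338980, 1210, 1701],
    [12045818810121728338980, 5305, 12045818810121728338980, 1258, 6509],
    [12045818810121728338980, 6329, 12045818810121728338980, 1338, 4821],
    [12045818810121728338980, 7217, 12045818810121728338980, 1226, 7217],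
    [12045818810121728338980, 7529, 12045818810121728338980, 1090, 5893]]

/-- Derivations. -/
def lemSteps159 : List (List (List Nat × Nat)) :=
  [[([], 4917), ([2453, 1386], 4161)],
    [([], 4917), ([2453, 1386], 4163)],
    [([], 4919), ([2365, 1298], 4163)],
    [([], 4923), ([4429, 1066], 4163)],
    [([], 4929), ([2725, 1362], 4161)],
    [([], 4929), ([2725, 1362], 4163)],
    [([], 4931), ([97, 986], 4163)],
    [([], 4935), ([5573, 1002], 4163)],
    [([], 4941), ([7805, 1114], 4163)],
    [([], 4949), ([25, 1266], 4161)],
    [([], 4949), ([25, 1266], 4163)],
    [([], 4951), ([5633, 1130], 4163)],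
    [([], 4955), ([933, 1098], 4163)],
    [([], 4961), ([5313, 1402], 4163)],
    [([], 4969), ([7581, 1322], 4163)],
    [([], 4979), ([4457, 986], 4161)]]

end Cfsg.Lib.J4Iso
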