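/-! Generated data: lemmas. -/

set_option autoImplicit false
set_option maxRecDepth 20000

namespace Cfsg.Lib.J4Iso

/-- Words. -/
def lemWords160 : List (List Nat) :=
  [[12045818810121728338980, 1653, 12045818810121728338980, 1346, 461],
    [12045818810121728338980, 6101, 12045818810121728338980, 1138, 6101],
    [12045818810121728338980, 5313, 12045818810121728338980, 1402, 6421],
    [12045818810121728338980, 6337, 12045818810121728338980, 1098, 3697],
    [12045818810121728338980, 7241, 12045818810121728338980, 1378, 149],
    [12045818810121728338980, 7321, 12045818810121728338980, 1066, 7321],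
    [12045818810121728338980, 7509, 12045818810121728338980, 1458, 1585],
    [12045818810121728338980, 1609, 12045818810121728338980, 1234, 4345],
    [12045818810121728338980, 6121, 12045818810121728338980, 1418, 1761],
    [12045818810121728338980, 5373, 12045818810121728338980, 1186, 5373],
    [12045818810121728338980, 6397, 12045818810121728338980, 1026, 8005],
    [12045818810121728338980, 7285, 12045818810121728338980, 1250, 169],
    [12045818810121728338980, 7333, 12045818810121728338980, 1146, 7333],
    [12045818810121728338980, 7389, 12045818810121728338980, 7389],
    [12045818810121728338980, 7501, 12045818810121728338980, 1194, 7501],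
    [12045818810121728338980, 1617, 12045818810121728338980, 1474, 6797]]

/-- Derivations. -/
def lemSteps160 : List (List (List Nat × Nat)) :=
  [[([], 4979), ([4457, 986], 4163)],
    [([], 4981), ([7085, 1362], 4163)],
    [([], 4985), ([7937, 1338], 4163)],
    [([], 4991), ([5305, 1258], 4163)],
    [([], 4999), ([7653, 1178], 4163)],
    [([], 5009), ([489, 1474], 4163)],
    [([], 5021), ([7297, 1442], 4161)],
    [([], 5021), ([7297, 1442], 4163)],
    [([], 5023), ([5701, 1050], 4163)],
    [([], 5027), ([3637, 1282], 4163)],
    [([], 5033), ([6481, 1122], 4163)],
    [([], 5041), ([261, 1370], 4163)],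
    [([], 5051), ([7433, 954], 4163)],
    [([], 5063), ([429, 946], 4163)],
    [([], 5077), ([2045, 1066], 4161)],
    [([], 5077), ([2045, 1066], 4163)]]

end Cfsg.Lib.J4Iso
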