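/-! Generated data: lemmas. -/

set_option autoImplicit false
set_option maxRecDepth 20000

namespace Cfsg.Lib.J4Iso

/-- A part of a word. -/
def wordPart2640_0 : List Nat :=
  [2, 10, 2, 10, 2, 10, 6, 10, 6, 14, 6, 14, 6, 14, 6, 14, 12045818810121728338980, 10, 2, 10, 2, 10, 2, 10, 2, 14, 2, 10, 6, 10, 6, 14, 6, 14, 6, 14, 6, 14, 12045818810121728338980, 10, 2, 10, 2, 10, 2, 10, 2, 14, 2, 10, 6, 10, 6, 14, 6, 14, 6, 14, 6, 14]

/-- A part of a word. -/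
def wordPart2640_1 : List Nat :=
  [12045818810121728338980, 10, 2, 10, 2, 10, 2, 10, 2, 14, 2, 6, 14, 6, 14, 6, 6605]

/-- A part of a word. -/
def wordPart2641_0 : List Nat :=
  [10, 10, 2, 10, 2, 10, 6, 10, 6, 14, 6, 14, 6, 14, 6, 14, 12045818810121728338980, 10, 2, 10, 2, 10, 2, 10, 2, 14, 2, 10, 6, 10, 6, 14, 6, 14, 6, 14, 6, 14, 12045818810121728338980, 10, 2, 10, 2, 10, 2, 10, 2, 14, 2, 10, 6, 10, 6, 14, 6, 14, 6, 14, 6, 14]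

/-- A part of a word. -/
def wordPart2641_1 : List Nat :=
  [12045818810121728338980, 10, 2, 10, 2, 10, 2, 10, 2, 14, 2, 6, 14, 6, 14, 14, 6753]

/-- A part of a word. -/
def wordPart2642_0 : List Nat :=
  [10, 2, 10, 2, 10, 2, 10, 6, 10, 6, 14, 6, 14, 6, 14, 6, 14, 12045818810121728338980, 10, 2, 10, 2, 10, 2, 10, 2, 14, 2, 10, 6, 10, 6, 14, 6, 14, 6, 14, 6, 14, 12045818810121728338980, 10, 2, 10, 2, 10, 2, 10, 2, 14, 2, 10, 6, 10, 6, 14, 6, 14, 6, 14, 6]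

/-- A part of a word. -/
def wordPart2642_1 : List Nat :=
  [14, 12045818810121728338980, 10, 2, 10, 2, 10, 2, 10, 2, 14, 2, 6, 14, 6, 14, 6, 14, 1013]

/-- A part of a word. -/
def wordPart2643_0 : List Nat :=
  [2, 10, 10, 2, 10, 2, 10, 6, 10, 6, 14, 6, 14, 6, 14, 6, 14, 12045818810121728338980, 10, 2, 10, 2, 10, 2, 10, 2, 14, 2, 10, 6, 10, 6, 14, 6, 14, 6, 14, 6, 14, 12045818810121728338980, 10, 2, 10, 2, 10, 2, 10, 2, 14, 2, 10, 6, 10, 6, 14, 6, 14, 6, 14, 6]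

/-- A part of a word. -/
def wordPart2643_1 : List Nat :=
  [14, 12045818810121728338980, 10, 2, 10, 2, 10, 2, 10, 2, 14, 2, 6, 14, 6, 14, 14, 6, 5977]

/-- A part of a word. -/
def wordPart2644_0 : List Nat :=
  [12045818810121728338980, 10, 6, 14, 6, 14, 6, 10, 6, 14, 6, 14, 6, 10, 6, 14, 6, 10, 6, 10, 6, 10, 6, 14, 6, 10, 6, 14, 6, 10, 6, 10, 6, 10, 6, 14, 6, 14, 6, 10, 6, 14, 6, 14, 6, 14, 6, 10, 6, 14, 6, 10, 6, 14, 6, 10, 6, 10, 6, 14]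

/-- A part of a word. -/
def wordPart2644_1 : List Nat :=
  [6, 10, 6, 14, 6, 10, 6, 10, 6, 10, 6, 14, 6, 14, 6, 14, 6, 10, 6, 10, 6, 10, 6, 14, 6, 14, 6, 10, 6, 10, 6, 10, 6, 14, 6, 14, 6, 10, 6, 14, 6, 10, 6, 10, 6, 10, 6, 14, 6, 14, 6, 14, 6, 10, 6, 14, 6, 10, 6, 10]

/-- A part of a word. -/
def wordPart2644_2 : List Nat :=
  [6, 14, 6, 14, 6, 10, 6, 10, 6, 14, 6, 10, 6, 14, 6, 14, 6, 14, 6, 10, 6, 10, 6, 10, 6, 10, 6, 10, 6, 14, 6, 14, 6, 10, 6, 14, 6, 14, 6, 10, 6, 14, 1013, 6753, 5201, 7665, 3173, 12045818810121728338980, 14, 6, 14, 6, 14, 6, 10, 6, 10, 6, 14, 6]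

/-- A part of a word. -/
def wordPart2644_3 : List Nat :=
  [10, 6, 10, 6, 14, 6, 10, 6, 14, 6, 10, 6, 5977, 1013, 6753, 7625, 1193]

/-- A part of a word. -/
def wordPart2645_0 : List Nat :=
  [12045818810121728338980, 1193, 10, 6, 14, 6, 14, 6, 10, 6, 14, 6, 14, 6, 10, 6, 14, 6, 10, 6, 10, 6, 10, 6, 14, 6, 10, 6, 14, 6, 10, 6, 10, 6, 10, 6, 14, 6, 14, 6, 10, 6, 14, 6, 14, 6, 14, 6, 10, 6, 14, 6, 10, 6, 14, 6, 10, 6, 10, 6]

/-- A part of a word. -/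
def wordPart2645_1 : List Nat :=
  [14, 6, 10, 6, 14, 6, 10, 6, 10, 6, 10, 6, 14, 6, 14, 6, 14, 6, 10, 6, 10, 6, 10, 6, 14, 6, 14, 6, 10, 6, 10, 6, 10, 6, 14, 6, 14, 6, 10, 6, 14, 6, 10, 6, 10, 6, 10, 6, 14, 6, 14, 6, 14, 6, 10, 6, 14, 6, 10, 6]

/-- A part of a word. -/
def wordPart2645_2 : List Nat :=
  [10, 6, 14, 6, 14, 6, 10, 6, 10, 6, 14, 6, 10, 6, 14, 6, 14, 6, 14, 6, 10, 6, 10, 6, 10, 6, 10, 6, 10, 6, 14, 6, 14, 6, 10, 6, 14, 6, 14, 6, 10, 6, 14, 3173, 1321, 12045818810121728338980, 14, 6, 14, 6, 14, 6, 10, 6, 10, 6, 14, 6, 10, 6]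

/-- A part of a word. -/
def wordPart2645_3 : List Nat :=
  [10, 6, 14, 6, 10, 6, 14, 6, 10, 6, 5977, 1013, 6753, 7625, 1193]

/-- A part of a word. -/
def wordPart2646_0 : List Nat :=
  [12045818810121728338980, 7625, 10, 6, 14, 6, 14, 6, 10, 6, 14, 6, 14, 6, 10, 6, 14, 6, 10, 6, 10, 6, 10, 6, 14, 6, 10, 6, 14, 6, 10, 6, 10, 6, 10, 6, 14, 6, 14, 6, 10, 6, 14, 6, 14, 6, 14, 6, 10, 6, 14, 6, 10, 6, 14, 6, 10, 6, 10, 6]

/-- A part of a word. -/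
def wordPart2646_1 : List Nat :=
  [14, 6, 10, 6, 14, 6, 10, 6, 10, 6, 10, 6, 14, 6, 14, 6, 14, 6, 10, 6, 10, 6, 10, 6, 14, 6, 14, 6, 10, 6, 10, 6, 10, 6, 14, 6, 14, 6, 10, 6, 14, 6, 10, 6, 10, 6, 10, 6, 14, 6, 14, 6, 14, 6, 10, 6, 14, 6, 10, 6]

/-- A part of a word. -/
def wordPart2646_2 : List Nat :=
  [10, 6, 14, 6, 14, 6, 10, 6, 10, 6, 14, 6, 10, 6, 14, 6, 14, 6, 14, 6, 10, 6, 10, 6, 10, 6, 10, 6, 10, 6, 14, 6, 14, 6, 10, 6, 14, 6, 14, 6, 10, 6, 14, 6605, 5201, 7665, 3173, 1321, 5533, 12045818810121728338980, 14, 6, 14, 6, 14, 6, 10, 6, 10, 6]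

/-- A part of a word. -/
def wordPart2646_3 : List Nat :=
  [14, 6, 10, 6, 10, 6, 14, 6, 10, 6, 14, 6, 10, 6, 5977, 1013, 6753, 7625, 1193]

/-- A part of a word. -/
def wordPart2647_0 : List Nat :=
  [12045818810121728338980, 1193, 7625, 10, 6, 14, 6, 14, 6, 10, 6, 14, 6, 14, 6, 10, 6, 14, 6, 10, 6, 10, 6, 10, 6, 14, 6, 10, 6, 14, 6, 10, 6, 10, 6, 10, 6, 14, 6, 14, 6, 10, 6, 14, 6, 14, 6, 14, 6, 10, 6, 14, 6, 10, 6, 14, 6, 10, 6, 10]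

/-- A part of a word. -/
def wordPart2647_1 : List Nat :=
  [6, 14, 6, 10, 6, 14, 6, 10, 6, 10, 6, 10, 6, 14, 6, 14, 6, 14, 6, 10, 6, 10, 6, 10, 6, 14, 6, 14, 6, 10, 6, 10, 6, 10, 6, 14, 6, 14, 6, 10, 6, 14, 6, 10, 6, 10, 6, 10, 6, 14, 6, 14, 6, 14, 6, 10, 6, 14, 6, 10]

/-- A part of a word. -/
def wordPart2647_2 : List Nat :=
  [6, 10, 6, 14, 6, 14, 6, 10, 6, 10, 6, 14, 6, 10, 6, 14, 6, 14, 6, 14, 6, 10, 6, 10, 6, 10, 6, 10, 6, 10, 6, 14, 6, 14, 6, 10, 6, 14, 6, 14, 6, 10, 6, 14, 1013, 6753, 6605, 3173, 5533, 12045818810121728338980, 14, 6, 14, 6, 14, 6, 10, 6, 10, 6]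

/-- A part of a word. -/
def wordPart2647_3 : List Nat :=
  [14, 6, 10, 6, 10, 6, 14, 6, 10, 6, 14, 6, 10, 6, 5977, 1013, 6753, 7625, 1193]

/-- Words. -/
def lemWords165 : List (List Nat) :=
  [wordPart2640_0 ++ wordPart2640_1,
    wordPart2641_0 ++ wordPart2641_1,
    wordPart2642_0 ++ wordPart2642_1,
    wordPart2643_0 ++ wordPart2643_1,
    wordPart2644_0 ++ wordPart2644_1 ++ wordPart2644_2 ++ wordPart2644_3,
    wordPart2645_0 ++ wordPart2645_1 ++ wordPart2645_2 ++ wordPart2645_3,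
    wordPart2646_0 ++ wordPart2646_1 ++ wordPart2646_2 ++ wordPart2646_3,
    wordPart2647_0 ++ wordPart2647_1 ++ wordPart2647_2 ++ wordPart2647_3,
    [2, 6],
    [10, 14],
    [14, 10],
    [1193, 1193],
    [5533, 5533],
    [7625, 7625],
    [1321, 1321],
    [3173, 3173]]

/-- Derivations. -/
def lemSteps165 : List (List (List Nat × Nat)) :=
  [[([], 4089)],
    [([], 4091)],
    [([], 4093)],
    [([], 4095)],
    [([12045818810121728338980, 12045818810121728338980], 4789)],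
    [([12045818810121728338980, 12045818810121728338980], 4789)],
    [([12045818810121728338980, 12045818810121728338980], 4789)],
    [([12045818810121728338980, 12045818810121728338980], 4789)],
    [],
    [],
    [],
    [],
    [],
    [],
    [],
    []]

end Cfsg.Lib.J4Iso
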