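import Cfsg.Agent.Lib.J4Iso.DataLem0
import Cfsg.Agent.Lib.J4Iso.DataLem1
import Cfsg.Agent.Lib.J4Iso.DataLem2
import Cfsg.Agent.Lib.J4Iso.DataLem3
import Cfsg.Agent.Lib.J4Iso.DataLem4
import Cfsg.Agent.Lib.J4Iso.DataLem5
import Cfsg.Agent.Lib.J4Iso.DataLem6
import Cfsg.Agent.Lib.J4Iso.DataLem7
import Cfsg.Agent.Lib.J4Iso.DataLem8
import Cfsg.Agent.Lib.J4Iso.DataLem9
import Cfsg.Agent.Lib.J4Iso.DataLem10
import Cfsg.Agent.Lib.J4Iso.DataLem11
import Cfsg.Agent.Lib.J4Iso.DataLem12
import Cfsg.Agent.Lib.J4Iso.DataLem13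
import Cfsg.Agent.Lib.J4Iso.DataLem14
import Cfsg.Agent.Lib.J4Iso.DataLem15
import Cfsg.Agent.Lib.J4Iso.DataLem16
import Cfsg.Agent.Lib.J4Iso.DataLem17
import Cfsg.Agent.Lib.J4Iso.DataLem18
import Cfsg.Agent.Lib.J4Iso.DataLem19
import Cfsg.Agent.Lib.J4Iso.DataLem20
import Cfsg.Agent.Lib.J4Iso.DataLem21
import Cfsg.Agent.Lib.J4Iso.DataLem22
import Cfsg.Agent.Lib.J4Iso.DataLem23
import Cfsg.Agent.Lib.J4Iso.DataLem24
import Cfsg.Agent.Lib.J4Iso.DataLem25
import Cfsg.Agent.Lib.J4Iso.DataLem26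
import Cfsg.Agent.Lib.J4Iso.DataLem27
import Cfsg.Agent.Lib.J4Iso.DataLem28
import Cfsg.Agent.Lib.J4Iso.DataLem29
import Cfsg.Agent.Lib.J4Iso.DataLem30
import Cfsg.Agent.Lib.J4Iso.DataLem31
import Cfsg.Agent.Lib.J4Iso.DataLem32
import Cfsg.Agent.Lib.J4Iso.DataLem33
import Cfsg.Agent.Lib.J4Iso.DataLem34
import Cfsg.Agent.Lib.J4Iso.DataLem35
import Cfsg.Agent.Lib.J4Iso.DataLem36
import Cfsg.Agent.Lib.J4Iso.DataLem37
import Cfsg.Agent.Lib.J4Iso.DataLem38
import Cfsg.Agent.Lib.J4Iso.DataLem39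
import Cfsg.Agent.Lib.J4Iso.DataLem40
import Cfsg.Agent.Lib.J4Iso.DataLem41
import Cfsg.Agent.Lib.J4Iso.DataLem42
import Cfsg.Agent.Lib.J4Iso.DataLem43
import Cfsg.Agent.Lib.J4Iso.DataLem44
import Cfsg.Agent.Lib.J4Iso.DataLem45
import Cfsg.Agent.Lib.J4Iso.DataLem46
import Cfsg.Agent.Lib.J4Iso.DataLem47
import Cfsg.Agent.Lib.J4Iso.DataLem48
import Cfsg.Agent.Lib.J4Iso.DataLem49
import Cfsg.Agent.Lib.J4Iso.DataLem50
import Cfsg.Agent.Lib.J4Iso.DataLem51
import Cfsg.Agent.Lib.J4Iso.DataLem52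
import Cfsg.Agent.Lib.J4Iso.DataLem53
import Cfsg.Agent.Lib.J4Iso.DataLem54
import Cfsg.Agent.Lib.J4Iso.DataLem55
import Cfsg.Agent.Lib.J4Iso.DataLem56
import Cfsg.Agent.Lib.J4Iso.DataLem57
import Cfsg.Agent.Lib.J4Iso.DataLem58
import Cfsg.Agent.Lib.J4Iso.DataLem59
import Cfsg.Agent.Lib.J4Iso.DataLem60
import Cfsg.Agent.Lib.J4Iso.DataLem61
import Cfsg.Agent.Lib.J4Iso.DataLem62
import Cfsg.Agent.Lib.J4Iso.DataLem63
import Cfsg.Agent.Lib.J4Iso.DataLem64
import Cfsg.Agent.Lib.J4Iso.DataLem65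
import Cfsg.Agent.Lib.J4Iso.DataLem66
import Cfsg.Agent.Lib.J4Iso.DataLem67
import Cfsg.Agent.Lib.J4Iso.DataLem68
import Cfsg.Agent.Lib.J4Iso.DataLem69
import Cfsg.Agent.Lib.J4Iso.DataLem70
import Cfsg.Agent.Lib.J4Iso.DataLem71
import Cfsg.Agent.Lib.J4Iso.DataLem72
import Cfsg.Agent.Lib.J4Iso.DataLem73
import Cfsg.Agent.Lib.J4Iso.DataLem74
import Cfsg.Agent.Lib.J4Iso.DataLem75
import Cfsg.Agent.Lib.J4Iso.DataLem76
import Cfsg.Agent.Lib.J4Iso.DataLem77
import Cfsg.Agent.Lib.J4Iso.DataLem78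
import Cfsg.Agent.Lib.J4Iso.DataLem79
import Cfsg.Agent.Lib.J4Iso.DataLem80
import Cfsg.Agent.Lib.J4Iso.DataLem81
import Cfsg.Agent.Lib.J4Iso.DataLem82
import Cfsg.Agent.Lib.J4Iso.DataLem83
import Cfsg.Agent.Lib.J4Iso.DataLem84
import Cfsg.Agent.Lib.J4Iso.DataLem85
import Cfsg.Agent.Lib.J4Iso.DataLem86
import Cfsg.Agent.Lib.J4Iso.DataLem87
import Cfsg.Agent.Lib.J4Iso.DataLem88
import Cfsg.Agent.Lib.J4Iso.DataLem89
import Cfsg.Agent.Lib.J4Iso.DataLem90
import Cfsg.Agent.Lib.J4Iso.DataLem91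
import Cfsg.Agent.Lib.J4Iso.DataLem92
import Cfsg.Agent.Lib.J4Iso.DataLem93
import Cfsg.Agent.Lib.J4Iso.DataLem94
import Cfsg.Agent.Lib.J4Iso.DataLem95
import Cfsg.Agent.Lib.J4Iso.DataLem96
import Cfsg.Agent.Lib.J4Iso.DataLem97
import Cfsg.Agent.Lib.J4Iso.DataLem98
import Cfsg.Agent.Lib.J4Iso.DataLem99
import Cfsg.Agent.Lib.J4Iso.DataLem100
import Cfsg.Agent.Lib.J4Iso.DataLem101
import Cfsg.Agent.Lib.J4Iso.DataLem102
import Cfsg.Agent.Lib.J4Iso.DataLem103
import Cfsg.Agent.Lib.J4Iso.DataLem104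
import Cfsg.Agent.Lib.J4Iso.DataLem105
import Cfsg.Agent.Lib.J4Iso.DataLem106
import Cfsg.Agent.Lib.J4Iso.DataLem107
import Cfsg.Agent.Lib.J4Iso.DataLem108
import Cfsg.Agent.Lib.J4Iso.DataLem109
import Cfsg.Agent.Lib.J4Iso.DataLem110
import Cfsg.Agent.Lib.J4Iso.DataLem111
import Cfsg.Agent.Lib.J4Iso.DataLem112
import Cfsg.Agent.Lib.J4Iso.DataLem113
import Cfsg.Agent.Lib.J4Iso.DataLem114
import Cfsg.Agent.Lib.J4Iso.DataLem115
import Cfsg.Agent.Lib.J4Iso.DataLem116
import Cfsg.Agent.Lib.J4Iso.DataLem117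
import Cfsg.Agent.Lib.J4Iso.DataLem118
import Cfsg.Agent.Lib.J4Iso.DataLem119
import Cfsg.Agent.Lib.J4Iso.DataLem120
import Cfsg.Agent.Lib.J4Iso.DataLem121
import Cfsg.Agent.Lib.J4Iso.DataLem122
import Cfsg.Agent.Lib.J4Iso.DataLem123
import Cfsg.Agent.Lib.J4Iso.DataLem124
import Cfsg.Agent.Lib.J4Iso.DataLem125
import Cfsg.Agent.Lib.J4Iso.DataLem126
import Cfsg.Agent.Lib.J4Iso.DataLem127
import Cfsg.Agent.Lib.J4Iso.DataLem128
import Cfsg.Agent.Lib.J4Iso.DataLem129
import Cfsg.Agent.Lib.J4Iso.DataLem130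
import Cfsg.Agent.Lib.J4Iso.DataLem131
import Cfsg.Agent.Lib.J4Iso.DataLem132
import Cfsg.Agent.Lib.J4Iso.DataLem133
import Cfsg.Agent.Lib.J4Iso.DataLem134
import Cfsg.Agent.Lib.J4Iso.DataLem135
import Cfsg.Agent.Lib.J4Iso.DataLem136
import Cfsg.Agent.Lib.J4Iso.DataLem137
import Cfsg.Agent.Lib.J4Iso.DataLem138
import Cfsg.Agent.Lib.J4Iso.DataLem139
import Cfsg.Agent.Lib.J4Iso.DataLem140
import Cfsg.Agent.Lib.J4Iso.DataLem141
import Cfsg.Agent.Lib.J4Iso.DataLem142
import Cfsg.Agent.Lib.J4Iso.DataLem143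
import Cfsg.Agent.Lib.J4Iso.DataLem144
import Cfsg.Agent.Lib.J4Iso.DataLem145
import Cfsg.Agent.Lib.J4Iso.DataLem146
import Cfsg.Agent.Lib.J4Iso.DataLem147
import Cfsg.Agent.Lib.J4Iso.DataLem148
import Cfsg.Agent.Lib.J4Iso.DataLem149
import Cfsg.Agent.Lib.J4Iso.DataLem150
import Cfsg.Agent.Lib.J4Iso.DataLem151
import Cfsg.Agent.Lib.J4Iso.DataLem152
import Cfsg.Agent.Lib.J4Iso.DataLem153
import Cfsg.Agent.Lib.J4Iso.DataLem154
import Cfsg.Agent.Lib.J4Iso.DataLem155
import Cfsg.Agent.Lib.J4Iso.DataLem156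
import Cfsg.Agent.Lib.J4Iso.DataLem157
import Cfsg.Agent.Lib.J4Iso.DataLem158
import Cfsg.Agent.Lib.J4Iso.DataLem159
import Cfsg.Agent.Lib.J4Iso.DataLem160
import Cfsg.Agent.Lib.J4Iso.DataLem161
import Cfsg.Agent.Lib.J4Iso.DataLem162
import Cfsg.Agent.Lib.J4Iso.DataLem163
import Cfsg.Agent.Lib.J4Iso.DataLem164
import Cfsg.Agent.Lib.J4Iso.DataLem165
import Cfsg.Agent.Lib.J4Iso.DataLem166
import Cfsg.Agent.Lib.J4Iso.DataLem167
import Cfsg.Agent.Lib.J4Iso.DataLem168
import Cfsg.Agent.Lib.J4Iso.DataLem169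
import Cfsg.Agent.Lib.J4Iso.DataLem170
import Cfsg.Agent.Lib.J4Iso.DataLem171
import Cfsg.Agent.Lib.J4Iso.DataLem172
import Cfsg.Agent.Lib.J4Iso.DataLem173
import Cfsg.Agent.Lib.J4Iso.DataLem174
import Cfsg.Agent.Lib.J4Iso.DataLem175
import Cfsg.Agent.Lib.J4Iso.DataLem176
import Cfsg.Agent.Lib.J4Iso.DataLem177
import Cfsg.Agent.Lib.J4Iso.DataLem178
import Cfsg.Agent.Lib.J4Iso.DataLem179
import Cfsg.Agent.Lib.J4Iso.DataLem180
import Cfsg.Agent.Lib.J4Iso.DataLem181
import Cfsg.Agent.Lib.J4Iso.DataTab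

/-! Generated data: all lemmas. -/

set_option autoImplicit false
set_option maxRecDepth 20000

namespace Cfsg.Lib.J4Iso

/-- Words. -/
def lemWordsG0 : List (List (List Nat)) :=
  [lemWords0, lemWords1, lemWords2, lemWords3, lemWords4, lemWords5, lemWords6, lemWords7, lemWords8, lemWords9, lemWords10, lemWords11, lemWords12, lemWords13, lemWords14, lemWords15]

/-- Derivations. -/
def lemStepsG0 : List (List (List (List Nat × Nat))) :=
  [lemSteps0, lemSteps1, lemSteps2, lemSteps3, lemSteps4, lemSteps5, lemSteps6, lemSteps7, lemSteps8, lemSteps9, lemSteps10, lemSteps11, lemSteps12, lemSteps13, lemSteps14, lemSteps15]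

/-- Words. -/
def lemWordsG1 : List (List (List Nat)) :=
  [lemWords16, lemWords17, lemWords18, lemWords19, lemWords20, lemWords21, lemWords22, lemWords23, lemWords24, lemWords25, lemWords26, lemWords27, lemWords28, lemWords29, lemWords30, lemWords31]

/-- Derivations. -/
def lemStepsG1 : List (List (List (List Nat × Nat))) :=
  [lemSteps16, lemSteps17, lemSteps18, lemSteps19, lemSteps20, lemSteps21, lemSteps22, lemSteps23, lemSteps24, lemSteps25, lemSteps26, lemSteps27, lemSteps28, lemSteps29, lemSteps30, lemSteps31]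

/-- Words. -/
def lemWordsG2 : List (List (List Nat)) :=
  [lemWords32, lemWords33, lemWords34, lemWords35, lemWords36, lemWords37, lemWords38, lemWords39, lemWords40, lemWords41, lemWords42, lemWords43, lemWords44, lemWords45, lemWords46, lemWords47]

/-- Derivations. -/
def lemStepsG2 : List (List (List (List Nat × Nat))) :=
  [lemSteps32, lemSteps33, lemSteps34, lemSteps35, lemSteps36, lemSteps37, lemSteps38, lemSteps39, lemSteps40, lemSteps41, lemSteps42, lemSteps43, lemSteps44, lemSteps45, lemSteps46, lemSteps47]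

/-- Words. -/
def lemWordsG3 : List (List (List Nat)) :=
  [lemWords48, lemWords49, lemWords50, lemWords51, lemWords52, lemWords53, lemWords54, lemWords55, lemWords56, lemWords57, lemWords58, lemWords59, lemWords60, lemWords61, lemWords62, lemWords63]

/-- Derivations. -/
def lemStepsG3 : List (List (List (List Nat × Nat))) :=
  [lemSteps48, lemSteps49, lemSteps50, lemSteps51, lemSteps52, lemSteps53, lemSteps54, lemSteps55, lemSteps56, lemSteps57, lemSteps58, lemSteps59, lemSteps60, lemSteps61, lemSteps62, lemSteps63]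

/-- Words. -/
def lemWordsG4 : List (List (List Nat)) :=
  [lemWords64, lemWords65, lemWords66, lemWords67, lemWords68, lemWords69, lemWords70, lemWords71, lemWords72, lemWords73, lemWords74, lemWords75, lemWords76, lemWords77, lemWords78, lemWords79]

/-- Derivations. -/
def lemStepsG4 : List (List (List (List Nat × Nat))) :=
  [lemSteps64, lemSteps65, lemSteps66, lemSteps67, lemSteps68, lemSteps69, lemSteps70, lemSteps71, lemSteps72, lemSteps73, lemSteps74, lemSteps75, lemSteps76, lemSteps77, lemSteps78, lemSteps79]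

/-- Words. -/
def lemWordsG5 : List (List (List Nat)) :=
  [lemWords80, lemWords81, lemWords82, lemWords83, lemWords84, lemWords85, lemWords86, lemWords87, lemWords88, lemWords89, lemWords90, lemWords91, lemWords92, lemWords93, lemWords94, lemWords95]

/-- Derivations. -/
def lemStepsG5 : List (List (List (List Nat × Nat))) :=
  [lemSteps80, lemSteps81, lemSteps82, lemSteps83, lemSteps84, lemSteps85, lemSteps86, lemSteps87, lemSteps88, lemSteps89, lemSteps90, lemSteps91, lemSteps92, lemSteps93, lemSteps94, lemSteps95]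

/-- Words. -/
def lemWordsG6 : List (List (List Nat)) :=
  [lemWords96, lemWords97, lemWords98, lemWords99, lemWords100, lemWords101, lemWords102, lemWords103, lemWords104, lemWords105, lemWords106, lemWords107, lemWords108, lemWords109, lemWords110, lemWords111]

/-- Derivations. -/
def lemStepsG6 : List (List (List (List Nat × Nat))) :=
  [lemSteps96, lemSteps97, lemSteps98, lemSteps99, lemSteps100, lemSteps101, lemSteps102, lemSteps103, lemSteps104, lemSteps105, lemSteps106, lemSteps107, lemSteps108, lemSteps109, lemSteps110, lemSteps111]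

/-- Words. -/
def lemWordsG7 : List (List (List Nat)) :=
  [lemWords112, lemWords113, lemWords114, lemWords115, lemWords116, lemWords117, lemWords118, lemWords119, lemWords120, lemWords121, lemWords122, lemWords123, lemWords124, lemWords125, lemWords126, lemWords127]

/-- Derivations. -/
def lemStepsG7 : List (List (List (List Nat × Nat))) :=
  [lemSteps112, lemSteps113, lemSteps114, lemSteps115, lemSteps116, lemSteps117, lemSteps118, lemSteps119, lemSteps120, lemSteps121, lemSteps122, lemSteps123, lemSteps124, lemSteps125, lemSteps126, lemSteps127]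

/-- Words. -/
def lemWordsG8 : List (List (List Nat)) :=
  [lemWords128, lemWords129, lemWords130, lemWords131, lemWords132, lemWords133, lemWords134, lemWords135, lemWords136, lemWords137, lemWords138, lemWords139, lemWords140, lemWords141, lemWords142, lemWords143]

/-- Derivations. -/
def lemStepsG8 : List (List (List (List Nat × Nat))) :=
  [lemSteps128, lemSteps129, lemSteps130, lemSteps131, lemSteps132, lemSteps133, lemSteps134, lemSteps135, lemSteps136, lemSteps137, lemSteps138, lemSteps139, lemSteps140, lemSteps141, lemSteps142, lemSteps143]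

/-- Words. -/
def lemWordsG9 : List (List (List Nat)) :=
  [lemWords144, lemWords145, lemWords146, lemWords147, lemWords148, lemWords149, lemWords150, lemWords151, lemWords152, lemWords153, lemWords154, lemWords155, lemWords156, lemWords157, lemWords158, lemWords159]

/-- Derivations. -/
def lemStepsG9 : List (List (List (List Nat × Nat))) :=
  [lemSteps144, lemSteps145, lemSteps146, lemSteps147, lemSteps148, lemSteps149, lemSteps150, lemSteps151, lemSteps152, lemSteps153, lemSteps154, lemSteps155, lemSteps156, lemSteps157, lemSteps158, lemSteps159]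

/-- Words. -/
def lemWordsG10 : List (List (List Nat)) :=
  [lemWords160, lemWords161, lemWords162, lemWords163, lemWords164, lemWords165, lemWords166, lemWords167, lemWords168, lemWords169, lemWords170, lemWords171, lemWords172, lemWords173, lemWords174, lemWords175]

/-- Derivations. -/
def lemStepsG10 : List (List (List (List Nat × Nat))) :=
  [lemSteps160, lemSteps161, lemSteps162, lemSteps163, lemSteps164, lemSteps165, lemSteps166, lemSteps167, lemSteps168, lemSteps169, lemSteps170, lemSteps171, lemSteps172, lemSteps173, lemSteps174, lemSteps175]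

/-- Words. -/
def lemWordsG11 : List (List (List Nat)) :=
  [lemWords176, lemWords177, lemWords178, lemWords179, lemWords180, lemWords181]

/-- Derivations. -/
def lemStepsG11 : List (List (List (List Nat × Nat))) :=
  [lemSteps176, lemSteps177, lemSteps178, lemSteps179, lemSteps180, lemSteps181]

/-- The words of all lemmas. -/
def lemWords : List (List (List (List Nat))) :=
  [lemWordsG0, lemWordsG1, lemWordsG2, lemWordsG3, lemWordsG4, lemWordsG5, lemWordsG6, lemWordsG7, lemWordsG8, lemWordsG9, lemWordsG10, lemWordsG11]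

/-- The derivations of all lemmas. -/
def lemSteps : List (List (List (List (List Nat × Nat)))) :=
  [lemStepsG0, lemStepsG1, lemStepsG2, lemStepsG3, lemStepsG4, lemStepsG5, lemStepsG6, lemStepsG7, lemStepsG8, lemStepsG9, lemStepsG10, lemStepsG11]

end Cfsg.Lib.J4Iso
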