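/-! Generated data: lemmas. -/

set_option autoImplicit false
set_option maxRecDepth 20000

namespace Cfsg.Lib.J4Iso

/-- A part of a word. -/
def wordPart1_0 : List Nat :=
  [10, 2, 10, 2, 10, 2, 10, 10, 2, 10, 2, 10, 2, 10, 10, 2, 10, 2, 10, 2, 10, 12045818810121728338980, 14, 14, 6, 14, 6, 14, 6, 14, 6, 14, 6, 14, 6, 14, 14, 6, 14, 6, 14, 6, 12045818810121728338980, 2, 10, 2, 10, 2, 10, 10, 2, 10, 2, 10, 2, 10, 2, 10, 2, 10]

/-- A part of a word. -/
def wordPart1_1 : List Nat :=
  [2, 10, 10, 10, 2, 10, 2, 10, 2, 10, 10, 2, 10, 2, 10, 2, 10, 10, 2, 10, 2, 10, 2, 10, 12045818810121728338980, 14, 14, 6, 14, 6, 14, 6, 14, 6, 14, 6, 14, 6, 14, 14, 6, 14, 6, 14, 6, 12045818810121728338980, 2, 10, 2, 10, 2, 10, 10, 2, 10, 2, 10, 2, 10, 2]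

/-- A part of a word. -/
def wordPart1_2 : List Nat :=
  [10, 2, 10, 2, 10, 10]

/-- Words. -/
def lemWords0 : List (List Nat) :=
  [[10, 6, 10, 6, 14, 6, 10, 6, 14, 12045818810121728338980, 10, 2, 14, 2, 10, 2, 14, 2, 10, 6, 10, 6, 14, 6, 10, 6, 14, 12045818810121728338980, 10, 2, 14, 2, 10, 2, 14, 2, 10, 6, 10, 6, 14, 6, 10, 6, 14, 12045818810121728338980, 10, 2, 14, 2, 10, 2, 14, 2],
    wordPart1_0 ++ wordPart1_1 ++ wordPart1_2,
    [12045818810121728338980, 9530725033769146323480, 12045818810121728338980, 9530725033769146323480],
    [12101911151853531694140, 9519499803845115040320, 12101911151853531694140, 9519499803845115040320],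
    [12101911151853531694140, 9519499803845115040320, 14336110731148237526040, 12101911151853531694140, 9519499803845115040320, 14336110731148237526040],
    [10796826481087187661120, 11363953628912354280720, 13138135303563012080520, 10796826481087187661120, 11363953628912354280720, 13138135303563012080520],
    [11257488414297073231920, 10999339819785647202600, 10796826482799268897440, 11257488414297073231920, 10999339819785647202600, 10796826482799268897440],
    [10923404767655797085760, 15642950594478022473840, 10999339847243237271600, 10923404767655797085760, 15642950594478022473840, 10999339847243237271600],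
    [10654179448536288870660, 11450834822717741538360, 15359418586865933765640, 10654179448536288870660, 11450834822717741538360, 15359418586865933765640],
    [12188760809231262290580, 12447121012325203063860, 13002946286535483068700, 12188760809231262290580, 12447121012325203063860, 13002946286535483068700],
    [10095004629224475859080, 12991180625007280883460, 14321622667111983159300, 10095004629224475859080, 12991180625007280883460, 14321622667111983159300],
    [11917110373448967839880, 9451914361615829310480, 14185790784009226713240, 11917110373448967839880, 9451914361615829310480, 14185790784009226713240],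
    [10796826606423385584420, 9538557961220676297000, 11870775100753503086880, 10796826606423385584420, 9538557961220676297000, 11870775100753503086880],
    [9695495961615073952160, 14250135861246023575200, 10745276150817137180160, 9695495961615073952160, 14250135861246023575200, 10745276150817137180160],
    [9674525129564872509660, 15388124529179785710600, 9448323867396553950720, 9674525129564872509660, 15388124529179785710600, 9448323867396553950720],
    [14620287918391960224420, 9704168962672749004440, 10184068951372735064100, 14620287918391960224420, 9704168962672749004440, 10184068951372735064100]]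

/-- Derivations. -/
def lemSteps0 : List (List (List Nat × Nat)) :=
  [[],
    [],
    [([2546], 2), ([9616716927492294749220, 378, 306, 610, 258, 818, 786, 778, 12045818810121728338980], 4), ([122, 74, 482, 626, 738, 670, 12045818810121728338980], 4), ([9530725033769146323480], 0), ([26, 82, 322, 602, 738, 670], 2)],
    [([2706], 6)],
    [([12101911151853531694140, 9519499803845115040320, 14336110731148237526040, 12101911151853531694140, 5730], 6), ([12101911151853531694140, 9519499803845115040320, 14336110731148237526040, 4026], 6), ([], 7)],
    [([1666], 9)],
    [([1786], 9)],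
    [([1794], 9)],
    [([1674], 9)],
    [([1802], 9)],
    [([1810], 9)],
    [([1682], 9)],
    [([1754], 9)],
    [([1690], 9)],
    [([1698], 9)],
    [([1706], 9)]]

end Cfsg.Lib.J4Iso
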