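/-! Generated data: lemmas. -/

set_option autoImplicit false
set_option maxRecDepth 20000

namespace Cfsg.Lib.J4Iso

/-- Words. -/
def lemWords130 : List (List Nat) :=
  [[12045818810121728338980, 6833, 12045818810121728338980, 954, 6833],
    [12045818810121728338980, 429, 12045818810121728338980, 946, 7537],
    [12045818810121728338980, 61, 12045818810121728338980, 978, 61],
    [12045818810121728338980, 69, 12045818810121728338980, 1066, 69],
    [12045818810121728338980, 149, 12045818810121728338980, 1378, 7241],
    [12045818810121728338980, 1053, 12045818810121728338980, 1098, 4781],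
    [12045818810121728338980, 2077, 12045818810121728338980, 1402, 1481],
    [12045818810121728338980, 2825, 12045818810121728338980, 1138, 2825],
    [12045818810121728338980, 6825, 12045818810121728338980, 1346, 7441],
    [12045818810121728338980, 437, 12045818810121728338980, 1090, 3033],
    [12045818810121728338980, 121, 12045818810121728338980, 1146, 121],
    [12045818810121728338980, 169, 12045818810121728338980, 1250, 7285],
    [12045818810121728338980, 1057, 12045818810121728338980, 1026, 921],
    [12045818810121728338980, 2081, 12045818810121728338980, 1186, 2081],
    [12045818810121728338980, 2869, 12045818810121728338980, 1418, 6717],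
    [12045818810121728338980, 6805, 12045818810121728338980, 1234, 3109]]

/-- Derivations. -/
def lemSteps130 : List (List (List Nat × Nat)) :=
  [[([6833], 0), ([], 4143)],
    [([7537], 0), ([], 4145)],
    [([], 4147), ([1953, 1266], 4149)],
    [([], 4147), ([1953, 1266], 4151)],
    [([], 4147), ([1953, 1266], 4153)],
    [([], 4147), ([1953, 1266], 4155)],
    [([], 4147), ([1953, 1266], 4157)],
    [([], 4147), ([1953, 1266], 4159)],
    [([], 4147), ([1953, 1266], 4161)],
    [([], 4147), ([1953, 1266], 4163)],
    [([], 4149), ([2633, 1058], 4151)],
    [([], 4149), ([2633, 1058], 4153)],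
    [([], 4149), ([2633, 1058], 4155)],
    [([], 4149), ([2633, 1058], 4157)],
    [([], 4149), ([2633, 1058], 4159)],
    [([], 4149), ([2633, 1058], 4161)]]

end Cfsg.Lib.J4Iso
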