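/-! Generated data: lemmas. -/

set_option autoImplicit false
set_option maxRecDepth 20000

namespace Cfsg.Lib.J4Iso

/-- Words. -/
def lemWords143 : List (List Nat) :=
  [[12045818810121728338980, 7997, 12045818810121728338980, 1282, 1113],
    [12045818810121728338980, 6529, 12045818810121728338980, 1354, 3889],
    [12045818810121728338980, 669, 12045818810121728338980, 1394, 2289],
    [12045818810121728338980, 4925, 12045818810121728338980, 1122, 4925],
    [12045818810121728338980, 4137, 12045818810121728338980, 1018, 4137],
    [12045818810121728338980, 3281, 12045818810121728338980, 1370, 4109],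
    [12045818810121728338980, 4037, 12045818810121728338980, 1170, 7885],
    [12045818810121728338980, 7781, 12045818810121728338980, 1314, 7781],
    [12045818810121728338980, 1401, 12045818810121728338980, 1162, 2221],
    [12045818810121728338980, 965, 12045818810121728338980, 1274, 5493],
    [12045818810121728338980, 4709, 12045818810121728338980, 1306, 5597],
    [12045818810121728338980, 2425, 12045818810121728338980, 994, 8137],
    [12045818810121728338980, 4465, 12045818810121728338980, 1146, 4465],
    [12045818810121728338980, 2669, 12045818810121728338980, 2669],
    [12045818810121728338980, 7117, 12045818810121728338980, 1250, 1809],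
    [12045818810121728338980, 1869, 12045818810121728338980, 1050, 1869]]

/-- Derivations. -/
def lemSteps143 : List (List (List Nat × Nat)) :=
  [[([], 4319), ([7825, 1186], 4163)],
    [([], 4323), ([4665, 1042], 4161)],
    [([], 4323), ([4665, 1042], 4163)],
    [([], 4325), ([5417, 1026], 4163)],
    [([], 4329), ([7249, 1218], 4163)],
    [([], 4335), ([877, 1306], 4157)],
    [([], 4335), ([877, 1306], 4159)],
    [([], 4335), ([877, 1306], 4161)],
    [([], 4335), ([877, 1306], 4163)],
    [([], 4337), ([2261, 1314], 4159)],
    [([], 4337), ([2261, 1314], 4161)],
    [([], 4337), ([2261, 1314], 4163)],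
    [([], 4339), ([5917, 946], 4161)],
    [([], 4339), ([5917, 946], 4163)],
    [([], 4341), ([1725, 1370], 4163)],
    [([], 4345), ([5945, 1458], 4159)]]

end Cfsg.Lib.J4Iso
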