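/-! Generated data: lemmas. -/

set_option autoImplicit false
set_option maxRecDepth 20000

namespace Cfsg.Lib.J4Iso

/-- Words. -/
def lemWords156 : List (List Nat) :=
  [[12045818810121728338980, 625, 12045818810121728338980, 1402, 4005],
    [12045818810121728338980, 5073, 12045818810121728338980, 1410, 2229],
    [12045818810121728338980, 4293, 12045818810121728338980, 1346, 6013],
    [12045818810121728338980, 7653, 12045818810121728338980, 1178, 7653],
    [12045818810121728338980, 1785, 12045818810121728338980, 1322, 1785],
    [12045818810121728338980, 5977, 12045818810121728338980, 1474, 2949],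
    [12045818810121728338980, 5197, 12045818810121728338980, 1330, 6553],
    [12045818810121728338980, 6221, 12045818810121728338980, 1242, 4641],
    [12045818810121728338980, 7477, 12045818810121728338980, 1474, 489],
    [12045818810121728338980, 1577, 12045818810121728338980, 1194, 1577],
    [12045818810121728338980, 6025, 12045818810121728338980, 1178, 6025],
    [12045818810121728338980, 5277, 12045818810121728338980, 1450, 1429],
    [12045818810121728338980, 6301, 12045818810121728338980, 1386, 4849],
    [12045818810121728338980, 7189, 12045818810121728338980, 1362, 4545],
    [12045818810121728338980, 2021, 12045818810121728338980, 1442, 7297],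
    [12045818810121728338980, 5701, 12045818810121728338980, 1050, 5701]]

/-- Derivations. -/
def lemSteps156 : List (List (List Nat × Nat)) :=
  [[([], 4735), ([2481, 1338], 4163)],
    [([], 4737), ([4733, 1002], 4163)],
    [([], 4741), ([2009, 986], 4163)],
    [([], 4747), ([1877, 1226], 4161)],
    [([], 4747), ([1877, 1226], 4163)],
    [([], 4749), ([5877, 1066], 4163)],
    [([], 4753), ([3717, 1298], 4163)],
    [([], 4759), ([6625, 1106], 4163)],
    [([], 4767), ([1925, 978], 4161)],
    [([], 4767), ([1925, 978], 4163)],
    [([], 4769), ([2809, 1378], 4163)],
    [([], 4773), ([4745, 1202], 4163)],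
    [([], 4779), ([6449, 1154], 4163)],
    [([], 4787), ([7609, 1138], 4163)],
    [([], 4797), ([3317, 1018], 4159)],
    [([], 4797), ([3317, 1018], 4161)]]

end Cfsg.Lib.J4Iso
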