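/-! Generated data: coordinates on the even sets of points modulo the code. -/

set_option autoImplicit false

namespace Cfsg.Lib.J4Iso

/-- Coordinates of the pairs of the first point with the others, packed by eleven bits. -/
def vecPack : Nat :=
  17386236032409972423337129017355750303585470725417193998753876531934125278787584

/-- Four points for each bit, packed. -/
def lifts : List Nat :=
  [471298, 571682, 369762, 469090, 567360, 434406, 404641, 534752, 571721, 168000, 471269]

end Cfsg.Lib.J4Iso
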