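import Cfsg.Agent.Lib.J4Iso.Sextets
import Cfsg.Agent.Lib.J4Real.Order

/-!
# The map to the group of permutations of vectors, and the identities in the presented group
-/

set_option autoImplicit false
set_option maxRecDepth 20000

namespace Cfsg.Lib.J4Iso

open Cfsg.Lib.Concrete
open Cfsg.Lib.CosetEnum (beqW beqW_eq)
open Cfsg.Lib.J4Pres
open Cfsg.Lib.J4Real (jp wp low wp_cons wp_nil wp_append wp_single jp_flip def_wp flipX defWords eL
  eLn eW eW_mul eW_zero eW_two_pow eW_inj kEmb kPts_spec M_unique kEmb_mem kEmb_inj Ksub Msub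
  rows applyWord_lt wp_apply Vec kPts kLetter K_le_M eW_mem_M kOK pW pL gensOf gWords
  hConj covRoots covItems fMasks kEmb_range mem_Ksub defs_low6 wp_winv winv tKey trioRoot)

theorem rows_low : ((List.range 6).all fun g =>
    beqW (letterRows.getD g []) (rows.getD g [])) = true := by decide +kernel

theorem jPerm_eq {g : ℕ} (hg : g < 6) : jPerm g = jp g := by
  refine Equiv.ext fun v => Subtype.ext ?_
  rw [J4Real.jp_apply (by omega) v]
  rw [jPerm, dif_pos hg]
  show applyWord letterRows [g] v.1 = _
  rw [J4Pres.applyWord_cons, J4Pres.applyWord_cons,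
    beqW_eq (List.all_eq_true.1 rows_low g (List.mem_range.2 hg))]
  rfl

/-- The map to the permutations of the vectors. -/
noncomputable def piG : PG →* Equiv.Perm Vec := PresentedGroup.toGroup jGen_rels

theorem piG_gen (b : Spor.J4.Gen) :
    piG (PresentedGroup.of b) = ((gjw b).map jPerm).prod := PresentedGroup.toGroup.of jGen_rels

theorem piG_xy : ∀ g < 6, piG (xyLetter g) = jp ([0, 1, 3, 4, 2, 5].getD g 0) := by
  have hx : piG (PresentedGroup.mk jRels Spor.J4.x) = jp 0 :=
    (piG_gen .x).trans (by simp [gjw, jPerm_eq])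
  have hy : piG (PresentedGroup.mk jRels Spor.J4.y) = jp 1 :=
    (piG_gen .y).trans (by simp [gjw, jPerm_eq])
  have ht : piG (PresentedGroup.mk jRels Spor.J4.t) = jp 2 :=
    (piG_gen .t).trans (by simp [gjw, jPerm_eq])
  intro g hg
  interval_cases g
  · exact hx
  · exact hy
  · show piG (_)⁻¹ = jp (flipX 0)
    rw [map_inv, hx, jp_flip (by norm_num)]
  · show piG (_)⁻¹ = jp (flipX 1)
    rw [map_inv, hy, jp_flip (by norm_num)]
  · exact ht
  · show piG (_)⁻¹ = jp (flipX 2)
    rw [map_inv, ht, jp_flip (by norm_num)]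

theorem piG_kG (a : TwoGroup) : piG (kG a) = kEmb a := by
  have h : piG.comp kG = kEmb := by
    refine MonoidHom.eq_of_eqOn_dense twoGen_gen ?_
    rintro _ ⟨g, hg, rfl⟩
    have hg' : g < 2 := hg
    show piG (kG (twoGen g)) = _
    rw [kG_gen g (by omega), piG_xy g (by omega), (kPts_spec.2 g (by omega)).1]
    interval_cases g <;> rfl
  exact DFunLike.congr_fun h a

/-- One of the first six letters. -/
noncomputable def gl6 (g : ℕ) : PG := xyLetter ([0, 1, 4, 2, 3, 5].getD g 0)

/-- A word in the first six letters. -/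
noncomputable def gw6 (w : List ℕ) : PG := (w.map gl6).prod

/-- A letter. -/
noncomputable def gl (g : ℕ) : PG :=
  if g < 6 then gl6 g else gw6 (defWords.getD (g - 6) [])

/-- A word. -/
noncomputable def gw (w : List ℕ) : PG := (w.map gl).prod

theorem gw_nil : gw [] = 1 := rfl

theorem gw_cons (g : ℕ) (w : List ℕ) : gw (g :: w) = gl g * gw w := by simp [gw]

theorem gw_append (a b : List ℕ) : gw (a ++ b) = gw a * gw b := by simp [gw, List.prod_append]

theorem gw_single (g : ℕ) : gw [g] = gl g := by simp [gw]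

theorem piG_gl6 {g : ℕ} (hg : g < 6) : piG (gl6 g) = jp g := by
  interval_cases g <;> (rw [gl6, piG_xy _ (by decide)]; rfl)

theorem piG_gl {g : ℕ} (hg : g < 17) : piG (gl g) = jp g := by
  unfold gl
  split_ifs with h
  · exact piG_gl6 h
  · obtain ⟨i, rfl⟩ : ∃ i, g = 6 + i := ⟨g - 6, by omega⟩
    rw [def_wp (by omega), Nat.add_sub_cancel_left, gw6, map_list_prod, List.map_map, wp]
    refine congrArg List.prod (List.map_congr_left fun k hk => piG_gl6 ?_)
    have := List.all_eq_true.1 defs_low6 i (List.mem_range.2 (by omega))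
    rw [List.all_eq_true] at this
    exact Nat.blt_eq.mp (this k hk)

theorem piG_gw {w : List ℕ} (h : low w = true) : piG (gw w) = wp w := by
  simp only [low, List.all_eq_true, Nat.blt_eq] at h
  rw [gw, map_list_prod, List.map_map, wp]
  exact congrArg List.prod (List.map_congr_left fun g hg => piG_gl (h g hg))

/-- The code of a letter. -/
noncomputable def lc (g : ℕ) : ℕ :=
  cond (Nat.blt g 6) (getN [2, 10, 4 * tKey trioRoot, 6, 14, 4 * tKey trioRoot] 0 g)
    (4 * (getN emData (0, 0) (g - 6)).1 + 1)

/-- The code of a word. -/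
noncomputable def lcode (w : List ℕ) : List ℕ := w.map lc

theorem edef_ok : ((List.range 11).all fun i => Nat.blt (getN emData (0, 0) i).2 2899 &&
    (defWords.getD i []).all (fun g => Nat.blt g 6) &&
    beqW (lemWord (getN emData (0, 0) i).2)
      (lcode (defWords.getD i []) ++ [4 * (getN emData (0, 0) i).1 + 1])) = true := by
  decide +kernel

theorem lc_low {g : ℕ} (hg : g < 6) : ctx1.tok (lc g) = gl6 g := by
  have e : lc g = xyCode ([0, 1, 4, 2, 3, 5].getD g 0) := by interval_cases g <;> rfl
  rw [e, gl6]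
  exact xyCode_val ctx1 rfl rfl (by interval_cases g <;> decide)

theorem edef {i : ℕ} (hi : i < 11) : gl (6 + i) = eG (getN emData (0, 0) i).1 := by
  have h := List.all_eq_true.1 edef_ok i (List.mem_range.2 hi)
  simp only [Bool.and_eq_true, List.all_eq_true, Nat.blt_eq] at h
  obtain ⟨⟨h1, h2⟩, h3⟩ := h
  have e := lem_val h1
  rw [beqW_eq h3, Ctx.val_append] at e
  rw [gl, if_neg (by omega), Nat.add_sub_cancel_left]
  have e2 : ctx1.val (lcode (defWords.getD i [])) = gw6 (defWords.getD i []) := by
    rw [Ctx.val, lcode, List.map_map, gw6]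
    exact congrArg List.prod (List.map_congr_left fun g hg => lc_low (h2 g hg))
  rw [e2] at e
  simp only [Ctx.val, List.map_cons, List.map_nil, List.prod_cons, List.prod_nil, mul_one,
    tok_mask] at e
  rw [eq_inv_of_mul_eq_one_left e]
  exact eG_inv _

theorem lcode_val {w : List ℕ} (h : low w = true) : ctx1.val (lcode w) = gw w := by
  simp only [low, List.all_eq_true, Nat.blt_eq] at h
  rw [Ctx.val, lcode, List.map_map, gw]
  refine congrArg List.prod (List.map_congr_left fun g hg => ?_)
  rcases Nat.lt_or_ge g 6 with h6 | h6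
  · rw [Function.comp_apply, lc_low h6, gl, if_pos h6]
  · obtain ⟨i, rfl⟩ : ∃ i, g = 6 + i := ⟨g - 6, by omega⟩
    rw [Function.comp_apply, edef (by have := h _ hg; omega), lc]
    have : Nat.blt (6 + i) 6 = false := by rw [← Bool.not_eq_true, Nat.blt_eq]; omega
    rw [this, cond_false, Nat.add_sub_cancel_left, tok_mask]
    rfl

/-- The lemma with a given number says that two words are equal. -/
noncomputable def eqBy (j : ℕ) (a b : List ℕ) : Bool :=
  Nat.blt j 2899 && low a && low b && beqW (lemWord j) (lcode a ++ invW (lcode b))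

theorem eqBy_gw {j : ℕ} {a b : List ℕ} (h : eqBy j a b = true) : gw a = gw b := by
  simp only [eqBy, Bool.and_eq_true, Nat.blt_eq] at h
  obtain ⟨⟨⟨hj, ha⟩, hb⟩, he⟩ := h
  have e := lem_val hj
  rw [beqW_eq he, Ctx.val_append, Ctx.val_inv, lcode_val ha, lcode_val hb] at e
  exact mul_inv_eq_one.1 e

/-- The element of a mask in the eleven letters. -/
noncomputable def eW' (m : ℕ) : PG := gw (eL m)

/-- The mask of a mask in the eleven letters. -/
noncomputable def emask : ℕ → ℕ → ℕ
  | 0, _ => 0
  | n + 1, m => emask n m ^^^ cond (m.testBit n) (getN emData (0, 0) n).1 0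

theorem gw_eLn : ∀ n ≤ 11, ∀ m, gw (eLn n m) = eG (emask n m)
  | 0, _, _ => by simp [eLn, emask, gw, eG_zero]
  | n + 1, hn, m => by
    rw [eLn, gw_append, gw_eLn n (by omega), emask, ← eG_mul]
    congr 1
    cases m.testBit n
    · simp [gw, eG_zero]
    · rw [cond_true, cond_true, gw_single, edef (by omega)]

theorem eW'_eq (m : ℕ) : eW' m = eG (emask 11 m) := gw_eLn 11 le_rfl m

theorem emask_xor : ∀ n a b, emask n (a ^^^ b) = emask n a ^^^ emask n b
  | 0, _, _ => by simp [emask]
  | n + 1, a, b => by
    rw [emask, emask, emask, emask_xor n, Nat.testBit_xor]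
    cases a.testBit n <;> cases b.testBit n <;>
      simp [Nat.xor_assoc, Nat.xor_comm, Nat.xor_left_comm]

theorem eW'_mul (a b : ℕ) : eW' a * eW' b = eW' (a ^^^ b) := by
  rw [eW'_eq, eW'_eq, eW'_eq, eG_mul, emask_xor]

theorem eW'_zero : eW' 0 = 1 := rfl

theorem pre_ok : ((List.range 11).all fun b =>
    Nat.beq (emask 11 (getN preData 0 b)) (2 ^ b)) = true := by decide +kernel

theorem eG_eq_eW' (v : ℕ) : ∃ e, eG v = eW' e := by
  have key : ∀ n ≤ 11, ∃ e, eGn n v = eW' e := by
    intro n
    induction n with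
    | zero => intro _; exact ⟨0, by rw [eW'_zero]; rfl⟩
    | succ n ih =>
      intro hn
      obtain ⟨e, he⟩ := ih (by omega)
      rw [eGn, he]
      cases v.testBit n
      · exact ⟨e, by simp⟩
      · refine ⟨e ^^^ getN preData 0 n, ?_⟩
        have h := List.all_eq_true.1 pre_ok n (List.mem_range.2 (by omega))
        rw [Nat.beq_eq] at h
        rw [cond_true, ← eW'_mul, eW'_eq (getN preData 0 n), h, eG_two_pow (by omega)]
  exact key 11 le_rfl

theorem piG_eW' (m : ℕ) : piG (eW' m) = eW m := by
  have hl : low (eL m) = true := by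
    simp only [low, List.all_eq_true, Nat.blt_eq]
    have key : ∀ n ≤ 11, ∀ g ∈ eLn n m, g < 17 := by
      intro n
      induction n with
      | zero => intro _ g hg; simp [eLn] at hg
      | succ n ih =>
        intro hn g hg
        rw [eLn, List.mem_append] at hg
        rcases hg with hg | hg
        · exact ih (by omega) g hg
        · cases h : m.testBit n <;> rw [h] at hg <;> simp at hg
          omega
    exact key 11 le_rfl
  exact piG_gw hl

end Cfsg.Lib.J4Iso
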