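import Cfsg.Agent.Lib.J4Iso.Hom
import Cfsg.Agent.Lib.J4Real.Simple

/-!
# The presented fourth Janko group is the group of permutations generated by the three letters
-/

set_option autoImplicit false
set_option maxRecDepth 20000

namespace Cfsg.Lib.J4Iso

open Cfsg.Lib.Concrete
open Cfsg.Lib.CosetEnum (beqW beqW_eq)
open Cfsg.Lib.J4Pres
open Cfsg.Lib.J4Real (jp wp low wp_cons wp_nil wp_append wp_single eL eW eW_zero eW_inj kEmb
  M_unique kEmb_mem kEmb_inj Ksub Msub Esub mem_Esub conj_mem_E eW_mem eW_mul Vec kPts kOK kOK_low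
  pW pL wp_pL gensOf gWords gRep hConj covRoots covItems fMasks mem_Ksub Hj cover pair_mem winv
  Gsub card_Gsub isSimple_Gsub orbit_card card_Gsub_eq card_Msub M_le_G eW_mod)

/-- The subgroup of shape `2^11:M24`. -/
noncomputable def MG : Subgroup PG where
  carrier := {x | ∃ v, ∃ a : TwoGroup, x = eG v * kG a}
  one_mem' := ⟨0, 1, by simp [eG_zero]⟩
  mul_mem' := by
    rintro _ _ ⟨v, a, rfl⟩ ⟨w, b, rfl⟩
    obtain ⟨p, hp⟩ : ∃ p, Rep (kPts a) p :=
      ⟨_, (exists_pack a).choose_spec⟩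
    exact ⟨v ^^^ maskImg p w, a * b, by
      rw [map_mul, ← eG_mul, ← mul_assoc, ← mul_assoc, mul_assoc (eG v) (kG a),
        eG_conj a p w hp, ← mul_assoc]⟩
  inv_mem' := by
    rintro _ ⟨v, a, rfl⟩
    obtain ⟨p, hp⟩ : ∃ p, Rep (kPts a⁻¹) p :=
      ⟨_, (exists_pack a⁻¹).choose_spec⟩
    exact ⟨maskImg p v, a⁻¹, by
      rw [mul_inv_rev, eG_inv, ← map_inv, eG_conj a⁻¹ p v hp]⟩
where
  exists_pack (a : TwoGroup) : ∃ p, Rep (kPts a) p :=
    ⟨packList (bits24.map fun i => (gidx (kPts a (gpt (Fin.ofNat 24 i)))).val), fun x => by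
      have hlen : bits24.length = 24 := rfl
      have hget : ∀ i < 24, bits24.getD i 0 = i := by decide
      rw [pget_packList _ (fun b hb => by
          obtain ⟨j, -, rfl⟩ := List.mem_map.1 hb
          exact lt_trans (Fin.isLt _) (by norm_num)) _
          (by rw [List.length_map, hlen]; exact (gidx x).isLt),
        List.getD_eq_getElem _ _ (by rw [List.length_map, hlen]; exact (gidx x).isLt),
        List.getElem_map,
        ← List.getD_eq_getElem _ 0 (by rw [hlen]; exact (gidx x).isLt), hget _ (gidx x).isLt,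
        Fin.ofNat_val_eq_self, gpt_gidx]⟩

theorem kG_mem_MG (a : TwoGroup) : kG a ∈ MG := ⟨0, a, by rw [eG_zero, one_mul]⟩

theorem eW'_mem_MG (m : ℕ) : eW' m ∈ MG := ⟨emask 11 m, 1, by rw [eW'_eq, map_one, mul_one]⟩

theorem piG_inj_MG {x : PG} (hx : x ∈ MG) (h : piG x = 1) : x = 1 := by
  obtain ⟨v, a, rfl⟩ := hx
  obtain ⟨e, he⟩ := eG_eq_eW' v
  rw [he, map_mul, piG_eW', piG_kG] at h
  have h2 := M_unique (a := e) (b := 0) (kEmb_mem a) (one_mem Ksub) (by rw [h, eW_zero, one_mul])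
  have ha : a = 1 := kEmb_inj (h2.2.trans (map_one _).symm)
  have he0 : e % 2048 = 0 := eW_inj (Nat.mod_lt _ (by norm_num)) (by norm_num)
    (by rw [eW_mod]; exact h2.1)
  have hmask : ∀ n ≤ 11, emask n e = emask n (e % 2048) := by
    intro n
    induction n with
    | zero => intro _; rfl
    | succ n ih =>
      intro hn
      rw [emask, emask, ih (by omega), show (2048 : ℕ) = 2 ^ 11 by norm_num,
        Nat.testBit_mod_two_pow]
      simp [show n < 11 by omega]
  rw [he, eW'_eq, hmask 11 le_rfl, he0, ← eW'_eq, eW'_zero, ha, map_one, one_mul]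

theorem piG_MG {x : PG} (hx : x ∈ MG) : piG x ∈ Msub := by
  obtain ⟨v, a, rfl⟩ := hx
  obtain ⟨e, he⟩ := eG_eq_eW' v
  exact ⟨e, kEmb a, kEmb_mem a, by rw [map_mul, he, piG_eW', piG_kG]⟩

theorem piG_MG_surj {m : Equiv.Perm Vec} (hm : m ∈ Msub) : ∃ x ∈ MG, piG x = m := by
  obtain ⟨e, s, hs, rfl⟩ := hm
  obtain ⟨a, rfl⟩ := mem_Ksub hs
  exact ⟨eW' e * kG a, mul_mem (eW'_mem_MG e) (kG_mem_MG a), by rw [map_mul, piG_eW', piG_kG]⟩

theorem gw_kOK : ∀ {w : List ℕ}, kOK w = true → gw w ∈ MG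
  | [], _ => one_mem _
  | g :: w, h => by
    simp only [J4Real.kOK, List.all_cons, Bool.and_eq_true, Bool.or_eq_true, Nat.beq_eq] at h
    rw [gw_cons]
    refine mul_mem ?_ (gw_kOK (w := w) (by simpa [J4Real.kOK] using h.2))
    rcases h.1 with ((rfl | rfl) | rfl) | rfl
    · show xyLetter 0 ∈ MG
      exact kG_gen 0 (by norm_num) ▸ kG_mem_MG (twoGen 0)
    · show xyLetter 1 ∈ MG
      exact kG_gen 1 (by norm_num) ▸ kG_mem_MG (twoGen 1)
    · show xyLetter 2 ∈ MG
      exact kG_gen 2 (by norm_num) ▸ kG_mem_MG (twoGen 2)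
    · show xyLetter 3 ∈ MG
      exact kG_gen 3 (by norm_num) ▸ kG_mem_MG (twoGen 3)

/-- The element of a mask and a word. -/
noncomputable def pWG (p : ℕ × List ℕ) : PG := gw (pL p)

theorem pWG_mem {p : ℕ × List ℕ} (h : kOK p.2 = true) : pWG p ∈ MG := by
  rw [pWG, J4Real.pL, gw_append]
  exact mul_mem (eW'_mem_MG p.1) (gw_kOK h)

/-- The representative of a double coset. -/
noncomputable def gG (j : ℕ) : PG := gw (gWords.getD j [])

theorem h_ok : ((List.range 7).all fun j =>
    (List.range (gensOf j).length).all fun i =>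
      eqBy (getN (getN hData [] j) 0 i) (pL ((gensOf j).getD i (0, [])) ++ gWords.getD j [])
        (gWords.getD j [] ++ pL ((hConj.getD j []).getD i (0, [])))) = true := by
  decide +kernel

/-- The subgroup belonging to a double coset. -/
noncomputable def HG (j : ℕ) : Subgroup PG := Subgroup.closure {x | ∃ p ∈ gensOf j, pWG p = x}

variable {j : ℕ}

theorem gens_kOK (hj : j < 7) {i : ℕ} (hi : i < (gensOf j).length) :
    kOK (gensOf j)[i].2 = true ∧ kOK ((hConj.getD j []).getD i (0, [])).2 = true := by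
  have h := (J4Real.hCheck_parts hj).1 i hi
  rw [List.getD_eq_getElem _ _ hi] at h
  exact ⟨h.1, h.2.1⟩

theorem HG_le (hj : j < 7) : HG j ≤ MG := by
  rw [HG, Subgroup.closure_le]
  rintro _ ⟨p, hp, rfl⟩
  obtain ⟨i, hi, rfl⟩ := List.getElem_of_mem hp
  exact pWG_mem (gens_kOK hj hi).1

theorem low_pL {p : ℕ × List ℕ} (h : kOK p.2 = true) : low (pL p) = true := by
  have h2 := kOK_low h
  simp only [J4Real.low, List.all_eq_true, Nat.blt_eq] at h2 ⊢
  intro g hg
  rw [J4Real.pL, List.mem_append] at hg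
  rcases hg with hg | hg
  · have key : ∀ n ≤ 11, ∀ g ∈ J4Real.eLn n p.1, g < 17 := by
      intro n
      induction n with
      | zero => intro _ g hg; simp [J4Real.eLn] at hg
      | succ n ih =>
        intro hn g hg
        rw [J4Real.eLn, List.mem_append] at hg
        rcases hg with hg | hg
        · exact ih (by omega) g hg
        · cases h : p.1.testBit n <;> rw [h] at hg <;> simp at hg
          omega
    exact key 11 le_rfl g hg
  · exact h2 g hg

theorem HG_map (hj : j < 7) : (HG j).map piG = Hj j := by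
  have e : ∀ p ∈ gensOf j, piG (pWG p) = pW p := by
    intro p hp
    obtain ⟨i, hi, rfl⟩ := List.getElem_of_mem hp
    rw [pWG, piG_gw (low_pL (gens_kOK hj hi).1), wp_pL]
  rw [HG, Hj, MonoidHom.map_closure]
  congr 1
  ext x
  constructor
  · rintro ⟨_, ⟨p, hp, rfl⟩, rfl⟩
    exact ⟨p, hp, (e p hp).symm⟩
  · rintro ⟨p, hp, rfl⟩
    exact ⟨pWG p, ⟨p, hp, rfl⟩, e p hp⟩

theorem conj_HG (hj : j < 7) {h : PG} (hh : h ∈ HG j) : (gG j)⁻¹ * h * gG j ∈ MG := by
  have hle : HG j ≤ MG.comap (MulAut.conj (gG j)⁻¹).toMonoidHom := by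
    rw [HG, Subgroup.closure_le]
    rintro _ ⟨p, hp, rfl⟩
    obtain ⟨i, hi, rfl⟩ := List.getElem_of_mem hp
    have h := eqBy_gw (List.all_eq_true.1 (List.all_eq_true.1 h_ok j (List.mem_range.2 hj)) i
      (List.mem_range.2 hi))
    rw [List.getD_eq_getElem _ _ hi, gw_append, gw_append] at h
    simp only [SetLike.mem_coe, Subgroup.mem_comap, MulEquiv.coe_toMonoidHom, MulAut.conj_apply,
      inv_inv]
    rw [mul_assoc, gG, pWG, h, inv_mul_cancel_left]
    exact pWG_mem (gens_kOK hj hi).2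
  have := hle hh
  simpa [Subgroup.mem_comap, MulAut.conj_apply] using this

theorem id_ok : ((List.range 7).all fun j =>
    (List.range (covItems.getD j []).length).all fun i =>
      eqBy (getN (getN idData [] j) 0 i)
        ([2] ++ eL (fMasks.getD (i % 4) 0) ++ winv ((covRoots.getD j []).getD (i / 4) (0, [])).2 ++
          gWords.getD j [])
        (eL ((covItems.getD j []).getD i (7, 0, [], 0, [])).2.1 ++
          ((covItems.getD j []).getD i (7, 0, [], 0, [])).2.2.1 ++
          gWords.getD ((covItems.getD j []).getD i (7, 0, [], 0, [])).1 [] ++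
          eL ((covItems.getD j []).getD i (7, 0, [], 0, [])).2.2.2.1 ++
          ((covItems.getD j []).getD i (7, 0, [], 0, [])).2.2.2.2)) = true := by
  decide +kernel

theorem gl6_pair {g : ℕ} (hg : g < 3) : gl (g + 3) = (gl g)⁻¹ := by
  rw [gl, gl, if_pos (by omega), if_pos (by omega), gl6, gl6]
  interval_cases g <;> rfl

theorem gw_winv : ∀ {w : List ℕ}, kOK w = true → gw (winv w) = (gw w)⁻¹
  | [], _ => by simp [J4Real.winv, gw]
  | g :: w, h => by
    simp only [J4Real.kOK, List.all_cons, Bool.and_eq_true, Bool.or_eq_true, Nat.beq_eq] at h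
    have ih := gw_winv (w := w) (by simpa [J4Real.kOK] using h.2)
    have hg : gl (J4Real.flipX g) = (gl g)⁻¹ := by
      rcases h.1 with ((rfl | rfl) | rfl) | rfl
      · exact gl6_pair (by norm_num)
      · exact gl6_pair (by norm_num)
      · show gl 0 = _
        rw [gl6_pair (g := 0) (by norm_num), inv_inv]
      · show gl 1 = _
        rw [gl6_pair (g := 1) (by norm_num), inv_inv]
    rw [J4Real.winv, List.reverse_cons, List.map_append, List.map_cons, List.map_nil, gw_append,
      gw_single, hg, gw_cons, mul_inv_rev, ← ih]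
    rfl

theorem id_G {j i : ℕ} (hj : j < 7) (hi : i < (covItems.getD j []).length) :
    ∃ k < 7, ∃ a ∈ MG, ∃ b ∈ MG,
      gl 2 * eW' (fMasks.getD (i % 4) 0) *
          (gw ((covRoots.getD j []).getD (i / 4) (0, [])).2)⁻¹ * gG j = a * gG k * b := by
  have hc := List.all_eq_true.1 (J4Real.idCheck_all j hj) i (List.mem_range.2 hi)
  simp only [J4Real.idOne, Bool.and_eq_true, Nat.blt_eq] at hc
  obtain ⟨⟨⟨hk, ha⟩, hb⟩, -⟩ := hc
  have hn : i / 4 < (covRoots.getD j []).length := by
    have := (J4Real.cov_roots hj).2.1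
    omega
  have hw : kOK ((covRoots.getD j []).getD (i / 4) (0, [])).2 = true := by
    rw [List.getD_eq_getElem _ _ hn]
    exact (J4Real.cov_roots hj).1 _ (List.getElem_mem hn)
  have h := eqBy_gw (List.all_eq_true.1 (List.all_eq_true.1 id_ok j (List.mem_range.2 hj)) i
    (List.mem_range.2 hi))
  simp only [gw_append, gw_single, gw_winv hw] at h
  refine ⟨_, hk, _, mul_mem (eW'_mem_MG ((covItems.getD j []).getD i (7, 0, [], 0, [])).2.1)
    (gw_kOK ha), _, mul_mem (eW'_mem_MG ((covItems.getD j []).getD i (7, 0, [], 0, [])).2.2.2.1)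
    (gw_kOK hb), ?_⟩
  simp only [eW', gG]
  rw [h]
  group

theorem gl2_inv : (gl 2)⁻¹ = gl 2 := by
  have : gl 2 = gt := by rw [gl, if_pos (by norm_num), gl6]; rfl
  rw [this, gt_inv]

theorem gG_zero : gG 0 = 1 := rfl

theorem gG_one : gG 1 = gl 2 := gw_single 2

/-- The union of the seven double cosets. -/
noncomputable def unionG : Set PG := {x | ∃ j < 7, ∃ a ∈ MG, ∃ b ∈ MG, x = a * gG j * b}

theorem t_mul_union {x : PG} (hx : x ∈ unionG) : gl 2 * x ∈ unionG := by
  obtain ⟨j, hj, m, hm, m', hm', rfl⟩ := hx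
  obtain ⟨n, hn, f, hf, h, hh, d, hd, he⟩ := cover hj (piG_MG hm)
  rw [← HG_map hj] at hh
  rw [← HG_map (j := 1) (by norm_num)] at hd
  obtain ⟨h0, hh0, rfl⟩ := hh
  obtain ⟨d0, hd0, rfl⟩ := hd
  have hi : 4 * n + f < (covItems.getD j []).length := by
    have := (J4Real.cov_roots hj).2.1
    omega
  obtain ⟨k, hk, a, ha, b, hb, hid⟩ := id_G hj hi
  rw [show (4 * n + f) % 4 = f by omega, show (4 * n + f) / 4 = n by omega] at hid
  have hw : kOK ((covRoots.getD j []).getD n (0, [])).2 = true := by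
    rw [List.getD_eq_getElem _ _ hn]
    exact (J4Real.cov_roots hj).1 _ (List.getElem_mem hn)
  have hm0 : m = d0 * eW' (fMasks.getD f 0) *
      (gw ((covRoots.getD j []).getD n (0, [])).2)⁻¹ * h0 := by
    have hmem : d0 * eW' (fMasks.getD f 0) *
        (gw ((covRoots.getD j []).getD n (0, [])).2)⁻¹ * h0 ∈ MG :=
      mul_mem (mul_mem (mul_mem (HG_le (by norm_num) hd0) (eW'_mem_MG _))
        (inv_mem (gw_kOK hw))) (HG_le hj hh0)
    refine mul_inv_eq_one.1 (piG_inj_MG (mul_mem hm (inv_mem hmem)) ?_)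
    rw [map_mul, map_inv, he, map_mul, map_mul, map_mul, map_inv, piG_eW',
      piG_gw (kOK_low hw), mul_inv_cancel]
  have h1 : gl 2 * d0 * gl 2 ∈ MG := by
    have := conj_HG (j := 1) (by norm_num) hd0
    rwa [gG_one, gl2_inv] at this
  have h2 : (gG j)⁻¹ * h0 * gG j ∈ MG := conj_HG hj hh0
  refine ⟨k, hk, gl 2 * d0 * gl 2 * a, mul_mem h1 ha, b * ((gG j)⁻¹ * h0 * gG j) * m',
    mul_mem (mul_mem hb h2) hm', ?_⟩
  have hs : gl 2 * gl 2 = 1 := by
    nth_rewrite 1 [← gl2_inv]
    exact inv_mul_cancel _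
  calc gl 2 * (m * gG j * m')
      = gl 2 * d0 * (gl 2 * gl 2) * eW' (fMasks.getD f 0) *
          (gw ((covRoots.getD j []).getD n (0, [])).2)⁻¹ * h0 * gG j * m' := by
        rw [hs, mul_one, hm0]; group
    _ = gl 2 * d0 * gl 2 * (gl 2 * eW' (fMasks.getD f 0) *
          (gw ((covRoots.getD j []).getD n (0, [])).2)⁻¹ * gG j) * ((gG j)⁻¹ * h0 * gG j) * m' := by
        group
    _ = _ := by rw [hid]; group

theorem MG_mul_union {y x : PG} (hy : y ∈ MG) (hx : x ∈ unionG) : y * x ∈ unionG := by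
  obtain ⟨j, hj, a, ha, b, hb, rfl⟩ := hx
  exact ⟨j, hj, y * a, mul_mem hy ha, b, hb, by group⟩

theorem union_eq (g : PG) : g ∈ unionG := by
  have h1 : (1 : PG) ∈ unionG :=
    ⟨0, by norm_num, 1, one_mem _, 1, one_mem _, by rw [gG_zero]; group⟩
  let S : Submonoid PG :=
    { carrier := {y | ∀ x ∈ unionG, y * x ∈ unionG}
      one_mem' := fun x hx => by rwa [one_mul]
      mul_mem' := fun {a b} ha hb x hx => by rw [mul_assoc]; exact ha _ (hb x hx) }
  have hS : ∀ y, y ∈ S ∧ y⁻¹ ∈ S := by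
    intro y
    have hy : y ∈ Subgroup.closure (Set.range (PresentedGroup.of : Spor.J4.Gen → PG)) := by
      rw [PresentedGroup.closure_range_of]; trivial
    induction hy using Subgroup.closure_induction with
    | mem x hx =>
      obtain ⟨b, rfl⟩ := hx
      cases b
      · have hm : PresentedGroup.of Spor.J4.Gen.x ∈ MG :=
          show xyLetter 0 ∈ MG from kG_gen 0 (by norm_num) ▸ kG_mem_MG (twoGen 0)
        exact ⟨fun x hx => MG_mul_union hm hx, fun x hx => MG_mul_union (inv_mem hm) hx⟩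
      · have hm : PresentedGroup.of Spor.J4.Gen.y ∈ MG :=
          show xyLetter 1 ∈ MG from kG_gen 1 (by norm_num) ▸ kG_mem_MG (twoGen 1)
        exact ⟨fun x hx => MG_mul_union hm hx, fun x hx => MG_mul_union (inv_mem hm) hx⟩
      · have e : (PresentedGroup.of Spor.J4.Gen.t : PG) = gl 2 := by
          rw [gl, if_pos (by norm_num), gl6]; rfl
        rw [e, gl2_inv]
        exact ⟨fun x hx => t_mul_union hx, fun x hx => t_mul_union hx⟩
    | one => exact ⟨one_mem S, by rw [inv_one]; exact one_mem S⟩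
    | mul a b _ _ ha hb => exact ⟨mul_mem ha.1 hb.1, by rw [mul_inv_rev]; exact mul_mem hb.2 ha.2⟩
    | inv a _ ha => exact ⟨ha.2, by rw [inv_inv]; exact ha.1⟩
  have := (hS g).1 1 h1
  rwa [mul_one] at this

/-- A vector fixed by `2^11:M24`. -/
def fixVec : ℕ := 4294967295

theorem fix_ok : ([0, 1, 6, 7, 8, 9, 10, 11, 12, 13, 14, 15, 16].all fun g =>
      Nat.beq (applyWord J4Real.rows [g] fixVec) fixVec) = true ∧
    ((List.range 6).all fun j =>
      low (gWords.getD (j + 1) []) &&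
        !(Nat.beq (applyWord J4Real.rows (gWords.getD (j + 1) []) fixVec) fixVec)) = true ∧
    decide (fixVec < 2 ^ 112) = true := by
  refine ⟨?_, ?_, ?_⟩ <;> decide +kernel

theorem gRep_not_mem (hj : j < 7) (h : gRep j ∈ Msub) : j = 0 := by
  by_contra hne
  obtain ⟨i, rfl⟩ : ∃ i, j = i + 1 := ⟨j - 1, by omega⟩
  obtain ⟨h1, h2, h3⟩ := fix_ok
  rw [decide_eq_true_eq] at h3
  let v : Vec := ⟨fixVec, h3⟩
  let St : Subgroup (Equiv.Perm Vec) := MulAction.stabilizer (Equiv.Perm Vec) v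
  have hl : ∀ g ∈ [0, 1, 6, 7, 8, 9, 10, 11, 12, 13, 14, 15, 16], jp g ∈ St := by
    intro g hg
    have e := List.all_eq_true.1 h1 g hg
    rw [Nat.beq_eq] at e
    refine MulAction.mem_stabilizer_iff.2 (Subtype.ext ?_)
    show (jp g v).1 = fixVec
    rw [J4Real.jp_apply (by fin_cases hg <;> norm_num), e]
  obtain ⟨m, s, hs, e⟩ := h
  have hK : Ksub ≤ St := by
    rw [Ksub, Subgroup.closure_le]
    rintro _ (rfl | rfl) <;> exact hl _ (by simp)
  have hE : ∀ n ≤ 11, wp (J4Real.eLn n m) ∈ St := by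
    intro n
    induction n with
    | zero => intro _; exact one_mem _
    | succ n ih =>
      intro hn
      rw [J4Real.wp_eLn_succ]
      refine mul_mem (ih (by omega)) ?_
      cases m.testBit n
      · exact one_mem _
      · rw [cond_true]
        have : n < 11 := by omega
        exact hl _ (by interval_cases n <;> simp)
  have hmem : gRep (i + 1) ∈ St := e ▸ mul_mem (hE 11 le_rfl) (hK hs)
  have h2' := List.all_eq_true.1 h2 i (List.mem_range.2 (by omega))
  simp only [Bool.and_eq_true, Bool.not_eq_true'] at h2'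
  have hfix : (gRep (i + 1) v).1 = fixVec :=
    congrArg Subtype.val (MulAction.mem_stabilizer_iff.1 hmem)
  have hlow := h2'.1
  simp only [J4Real.low, List.all_eq_true, Nat.blt_eq] at hlow
  rw [gRep, J4Real.wp_apply _ (fun g hg => (hlow g hg).trans (by norm_num))] at hfix
  rw [hfix, Nat.beq_refl] at h2'
  exact absurd h2'.2 (by simp)

theorem gWords_low (hj : j < 7) : low (gWords.getD j []) = true := (J4Real.hCheck_parts hj).2.1

theorem piG_injective : Function.Injective piG := by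
  rw [← MonoidHom.ker_eq_bot_iff, Subgroup.eq_bot_iff_forall]
  intro x hx
  rw [MonoidHom.mem_ker] at hx
  obtain ⟨j, hj, a, ha, b, hb, rfl⟩ := union_eq x
  have hg : gRep j ∈ Msub := by
    have e : piG (gG j) = gRep j := piG_gw (gWords_low hj)
    rw [map_mul, map_mul, e] at hx
    have e2 : gRep j = (piG a)⁻¹ * (piG b)⁻¹ := by
      rw [eq_inv_mul_iff_mul_eq, eq_inv_iff_mul_eq_one]
      exact hx
    rw [e2]
    exact mul_mem (inv_mem (piG_MG ha)) (inv_mem (piG_MG hb))
  obtain rfl := gRep_not_mem hj hg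
  exact piG_inj_MG (mul_mem (mul_mem ha (by rw [gG_zero]; exact one_mem _)) hb) hx

theorem piG_range : piG.range = Gsub := by
  rw [MonoidHom.range_eq_map, ← PresentedGroup.closure_range_of, MonoidHom.map_closure, J4Real.Gsub]
  congr 1
  ext p
  constructor
  · rintro ⟨_, ⟨b, rfl⟩, rfl⟩
    cases b
    · exact Or.inl ((piG_gen _).trans (by simp [gjw, jPerm_eq]))
    · exact Or.inr (Or.inl ((piG_gen _).trans (by simp [gjw, jPerm_eq])))
    · exact Or.inr (Or.inr ((piG_gen _).trans (by simp [gjw, jPerm_eq])))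
  · rintro (rfl | rfl | rfl)
    · exact ⟨_, ⟨.x, rfl⟩, (piG_gen _).trans (by simp [gjw, jPerm_eq])⟩
    · exact ⟨_, ⟨.y, rfl⟩, (piG_gen _).trans (by simp [gjw, jPerm_eq])⟩
    · exact ⟨_, ⟨.t, rfl⟩, (piG_gen _).trans (by simp [gjw, jPerm_eq])⟩

/-- The presented group and the group of permutations are isomorphic. -/
noncomputable def isoG : PG ≃* Gsub :=
  (MonoidHom.ofInjective piG_injective).trans (MulEquiv.subgroupCongr piG_range)

theorem isoG_val (x : PG) : (isoG x).1 = piG x := rfl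

end Cfsg.Lib.J4Iso
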