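import Cfsg.Agent.Lib.J4Iso.Perm

/-!
# The value of a word in a group with trio elements, mask elements and a copy of M24
-/

set_option autoImplicit false
set_option maxRecDepth 20000

namespace Cfsg.Lib.J4Iso

open Cfsg.Lib.CosetEnum (force force_eq)
open Cfsg.Lib.Concrete
open Cfsg.Lib.J4Pres (TwoGroup twoGen twoGroup_iso)
open Cfsg.Lib.J4Real (kPts kPts_spec rep_letter)

/-- The product of a list of entries of the table. -/
noncomputable def compList (ds : List ℕ) : ℕ := ds.foldl (fun p d => comp p (tP d)) idP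

/-- One entry of the table is in order. -/
noncomputable def entryOK (i : ℕ) : Bool :=
  Nat.beq (comp (tP i) (tP (Nat.xor i 1))) idP &&
    (Nat.blt i 4 ||
      let d := getN (getN tblDef [] ((i - 4) / 128)) [] ((i - 4) % 128)
      d.all (fun x => Nat.blt x i) && Nat.beq (tP i) (compList d))

/-- A run of entries. -/
noncomputable def entryRange (a n : ℕ) : Bool := (List.range n).all fun i => entryOK (a + i)

theorem entries0 : entryRange 0 300 = true := by decide +kernel

theorem entries1 : entryRange 300 300 = true := by decide +kernel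

theorem entries2 : entryRange 600 300 = true := by decide +kernel

theorem entries3 : entryRange 900 300 = true := by decide +kernel

theorem entries4 : entryRange 1200 300 = true := by decide +kernel

theorem entries5 : entryRange 1500 294 = true := by decide +kernel

theorem tblSize_eq : tblSize = 1794 := rfl

theorem entry_ok {i : ℕ} (hi : i < 1794) : entryOK i = true := by
  have h : ∀ a n, entryRange a n = true → a ≤ i → i < a + n → entryOK i = true := by
    intro a n h h1 h2
    have := List.all_eq_true.1 h (i - a) (List.mem_range.2 (by omega))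
    rwa [show a + (i - a) = i by omega] at this
  by_cases h0 : i < 300
  · exact h _ _ entries0 (by omega) (by omega)
  by_cases h1 : i < 600
  · exact h _ _ entries1 (by omega) (by omega)
  by_cases h2 : i < 900
  · exact h _ _ entries2 (by omega) (by omega)
  by_cases h3 : i < 1200
  · exact h _ _ entries3 (by omega) (by omega)
  by_cases h4 : i < 1500
  · exact h _ _ entries4 (by omega) (by omega)
  exact h _ _ entries5 (by omega) (by omega)

theorem first_ok : (Nat.beq (tP 0) (J4Pres.letterPerms.getD 0 0) &&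
    Nat.beq (tP 1) (J4Pres.letterPerms.getD 2 0) && Nat.beq (tP 2) (J4Pres.letterPerms.getD 1 0) &&
    Nat.beq (tP 3) (J4Pres.letterPerms.getD 3 0)) = true := by
  decide +kernel

theorem rep_twoGen {g : ℕ} (hg : g < 4) :
    Rep (kPts (twoGen g)) (J4Pres.letterPerms.getD g 0) := by
  rw [(kPts_spec.2 g hg).2]
  exact rep_letter hg

theorem tP_out {i : ℕ} (hi : 1794 ≤ i) : tP i = idP := by
  rw [tP, tblSize_eq]
  have : Nat.blt i 1794 = false := by
    rw [← Bool.not_eq_true, Nat.blt_eq]; omega
  rw [this, cond_false]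

theorem tP_rep : ∀ i, ∃ a : TwoGroup, Rep (kPts a) (tP i) := by
  intro i
  induction i using Nat.strong_induction_on with
  | _ i ih =>
    by_cases hi : i < 1794
    · have h := entry_ok hi
      rw [entryOK, Bool.and_eq_true, Bool.or_eq_true] at h
      rcases h.2 with h4 | hd
      · rw [Nat.blt_eq] at h4
        have hf := first_ok
        simp only [Bool.and_eq_true, Nat.beq_eq] at hf
        obtain ⟨⟨⟨f0, f1⟩, f2⟩, f3⟩ := hf
        interval_cases i
        · exact ⟨twoGen 0, f0 ▸ rep_twoGen (by norm_num)⟩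
        · exact ⟨twoGen 2, f1 ▸ rep_twoGen (by norm_num)⟩
        · exact ⟨twoGen 1, f2 ▸ rep_twoGen (by norm_num)⟩
        · exact ⟨twoGen 3, f3 ▸ rep_twoGen (by norm_num)⟩
      · simp only [Bool.and_eq_true, List.all_eq_true, Nat.blt_eq, Nat.beq_eq] at hd
        rw [hd.2]
        have key : ∀ (L : List ℕ), (∀ x ∈ L, x < i) → ∀ (p : ℕ) (a : TwoGroup),
            Rep (kPts a) p → ∃ b, Rep (kPts b) (L.foldl (fun p d => comp p (tP d)) p) := by
          intro L
          induction L with
          | nil => intro _ p a ha; exact ⟨a, ha⟩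
          | cons x L ihL =>
            intro hL p a ha
            obtain ⟨c, hc⟩ := ih x (hL x (by simp))
            exact ihL (fun y hy => hL y (List.mem_cons_of_mem _ hy)) _ (a * c)
              (by rw [map_mul]; exact rep_comp ha hc)
        exact key _ hd.1 _ 1 (by rw [map_one]; exact rep_idP)
    · exact ⟨1, by rw [tP_out (by omega), map_one]; exact rep_idP⟩

/-- The element of an entry of the table. -/
noncomputable def el (i : ℕ) : TwoGroup := Classical.choose (tP_rep i)

theorem el_rep (i : ℕ) : Rep (kPts (el i)) (tP i) := Classical.choose_spec (tP_rep i)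

theorem kPts_ext {a b : TwoGroup} {p : ℕ} (ha : Rep (kPts a) p) (hb : Rep (kPts b) p) : a = b :=
  kPts_spec.1 (Rep.ext ha hb)

theorem el_xor (i : ℕ) : el (Nat.xor i 1) = (el i)⁻¹ := by
  refine eq_inv_of_mul_eq_one_right ?_
  refine kPts_ext (p := idP) ?_ (by rw [map_one]; exact rep_idP)
  rw [map_mul]
  by_cases hi : i < 1794
  · have h := entry_ok hi
    rw [entryOK, Bool.and_eq_true, Nat.beq_eq] at h
    rw [← h.1]
    exact rep_comp (el_rep i) (el_rep _)
  · have h2 : 1794 ≤ Nat.xor i 1 := by
      show 1794 ≤ i ^^^ 1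
      by_contra hc
      push_neg at hc
      have := Nat.xor_lt_two_pow (n := 11) (x := i ^^^ 1) (y := 1) (by omega) (by norm_num)
      rw [Nat.xor_assoc, Nat.xor_self, Nat.xor_zero] at this
      rcases Nat.mod_two_eq_zero_or_one i with h | h
      · have e : i ^^^ 1 = i + 1 := by
          refine Nat.eq_of_testBit_eq fun j => ?_
          rw [Nat.testBit_xor]
          cases j with
          | zero => simp [Nat.testBit_zero, h, Nat.add_mod]
          | succ j => simp [Nat.testBit_add_one, show (i + 1) / 2 = i / 2 by omega]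
        omega
      · have e : i ^^^ 1 = i - 1 := by
          refine Nat.eq_of_testBit_eq fun j => ?_
          rw [Nat.testBit_xor]
          cases j with
          | zero => simp [Nat.testBit_zero, h, show (i - 1) % 2 = 0 by omega]
          | succ j => simp [Nat.testBit_add_one, show (i - 1) / 2 = i / 2 by omega]
        omega
    have r1 := el_rep i
    have r2 := el_rep (Nat.xor i 1)
    rw [tP_out (by omega)] at r1
    rw [tP_out h2] at r2
    rw [Rep.ext r1 rep_idP, Rep.ext r2 rep_idP, mul_one]
    exact rep_idP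

variable (G : Type*) [Group G]

/-- A group with elements for trios and masks, and a map from the presented M24. -/
structure Ctx where
  /-- The map from the presented M24. -/
  f : TwoGroup →* G
  /-- The involution of a key. -/
  φ : ℕ → G
  /-- The element of a mask. -/
  E : ℕ → G
  φ_sq : ∀ k, φ k * φ k = 1
  φ_conj : ∀ (a : TwoGroup) (p k : ℕ), Rep (kPts a) p → f a * φ k = φ (keyImg p k) * f a
  E_xor : ∀ v w, E v * E w = E (v ^^^ w)
  E_conj : ∀ (a : TwoGroup) (p v : ℕ), Rep (kPts a) p → f a * E v = E (maskImg p v) * f a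

variable {G} (c : Ctx G)

theorem Ctx.E_zero : c.E 0 = 1 := by
  have h := c.E_xor 0 0
  rwa [Nat.xor_self, mul_eq_left] at h

theorem Ctx.E_inv (v : ℕ) : (c.E v)⁻¹ = c.E v := by
  refine inv_eq_of_mul_eq_one_right ?_
  rw [c.E_xor, Nat.xor_self, c.E_zero]

theorem Ctx.φ_inv (k : ℕ) : (c.φ k)⁻¹ = c.φ k := inv_eq_of_mul_eq_one_right (c.φ_sq k)

/-- The value of a code. -/
noncomputable def Ctx.tok (x : ℕ) : G :=
  cond (Nat.beq (Nat.land x 3) 0) (c.φ (Nat.shiftRight x 2))
    (cond (Nat.beq (Nat.land x 3) 1) (c.E (Nat.shiftRight x 2)) (c.f (el (Nat.shiftRight x 2))))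

/-- The value of a word. -/
noncomputable def Ctx.val (w : List ℕ) : G := (w.map c.tok).prod

theorem Ctx.val_append (a b : List ℕ) : c.val (a ++ b) = c.val a * c.val b := by
  simp [Ctx.val, List.prod_append]

theorem Ctx.tok_inv (x : ℕ) : c.tok (invTok x) = (c.tok x)⁻¹ := by
  have hl : Nat.land x 3 = x % 4 := Nat.and_two_pow_sub_one_eq_mod x 2
  have h4 : x % 4 = 0 ∨ x % 4 = 1 ∨ x % 4 = 2 ∨ x % 4 = 3 := by omega
  have hy : ∀ y : ℕ, Nat.land (Nat.add (Nat.mul 4 y) 2) 3 = 2 ∧
      Nat.shiftRight (Nat.add (Nat.mul 4 y) 2) 2 = y := fun y => by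
    constructor
    · show (4 * y + 2) &&& (2 ^ 2 - 1) = 2
      rw [Nat.and_two_pow_sub_one_eq_mod]; omega
    · show (4 * y + 2) >>> 2 = y
      rw [Nat.shiftRight_eq_div_pow]; omega
  rcases h4 with h | h | h | h <;> rw [invTok, hl, h]
  · rw [show Nat.ble 2 0 = false from rfl, cond_false, Ctx.tok, hl, h,
      show Nat.beq 0 0 = true from rfl, cond_true, c.φ_inv]
  · rw [show Nat.ble 2 1 = false from rfl, cond_false, Ctx.tok, hl, h,
      show Nat.beq 1 0 = false from rfl, cond_false, show Nat.beq 1 1 = true from rfl, cond_true,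
      c.E_inv]
  all_goals
    rw [cond_eq_ite, if_pos (by rfl), Ctx.tok, Ctx.tok, hl, h, (hy _).1, (hy _).2]
    simp only [show Nat.beq 2 0 = false from rfl, show Nat.beq 2 1 = false from rfl,
      show Nat.beq 3 0 = false from rfl, show Nat.beq 3 1 = false from rfl, cond_false]
    rw [← map_inv, ← el_xor]

theorem Ctx.val_inv : ∀ w : List ℕ, c.val (invW w) = (c.val w)⁻¹
  | [] => by simp [invW, Ctx.val]
  | x :: w => by
    have ih := Ctx.val_inv w
    rw [invW, List.reverse_cons, List.map_append, c.val_append, ← invW, ih]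
    simp [Ctx.val, c.tok_inv]

/-- The value of items. -/
noncomputable def Ctx.ival : List (ℕ × ℕ) → G
  | [] => 1
  | (e, a) :: r => Ctx.ival r * c.E e * c.φ a

/-- A normal form stands for an element. -/
def Ctx.Stands (s : St) (g : G) : Prop :=
  ∃ a : TwoGroup, Rep (kPts a) s.p ∧ g = c.ival s.out * c.E s.e * c.f a

theorem Ctx.stands_init : c.Stands init 1 :=
  ⟨1, by rw [map_one]; exact rep_idP, by simp [init, Ctx.ival, c.E_zero]⟩

theorem Ctx.stands_key {s : St} {g : G} (h : c.Stands s g) (k : ℕ) :
    c.Stands (pushKey k s) (g * c.φ k) := by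
  obtain ⟨a, ha, rfl⟩ := h
  have e : c.ival s.out * c.E s.e * c.f a * c.φ k =
      c.ival s.out * c.E s.e * c.φ (keyImg s.p k) * c.f a := by
    rw [mul_assoc, c.φ_conj a s.p k ha, ← mul_assoc]
  rw [e, pushKey, force_eq]
  rcases s with ⟨out, v, p⟩
  cases out with
  | nil => exact ⟨a, ha, by simp [Ctx.ival, c.E_zero]⟩
  | cons i r =>
    obtain ⟨f, b⟩ := i
    cases hb : Nat.beq v 0 && Nat.beq (keyImg p k) b with
    | false => exact ⟨a, by simpa [hb] using ha, by simp [hb, Ctx.ival, c.E_zero]⟩
    | true =>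
      refine ⟨a, by simpa [hb] using ha, ?_⟩
      simp only [Bool.and_eq_true, Nat.beq_eq] at hb
      obtain ⟨rfl, hk⟩ := hb
      simp only [hk, Nat.beq_refl, Bool.and_self, cond_true, Ctx.ival, c.E_zero, mul_one]
      rw [mul_assoc _ (c.φ b) (c.φ b), c.φ_sq, mul_one]

theorem Ctx.stands_mask {s : St} {g : G} (h : c.Stands s g) (v : ℕ) :
    c.Stands (pushMask v s) (g * c.E v) := by
  obtain ⟨a, ha, rfl⟩ := h
  unfold pushMask
  cases hv : Nat.beq v 0 with
  | true =>
    rw [Nat.beq_eq] at hv
    exact ⟨a, ha, by rw [hv, c.E_zero, mul_one]; rfl⟩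
  | false =>
    rw [cond_false, force_eq]
    refine ⟨a, ha, ?_⟩
    show _ = _ * c.E (s.e ^^^ maskImg s.p v) * _
    rw [← c.E_xor, mul_assoc, c.E_conj a s.p v ha]
    simp [mul_assoc]

theorem Ctx.stands_perm {s : St} {g : G} (h : c.Stands s g) {b : TwoGroup} {q : ℕ}
    (hb : Rep (kPts b) q) : c.Stands (pushPerm q s) (g * c.f b) := by
  obtain ⟨a, ha, rfl⟩ := h
  unfold pushPerm
  cases hq : Nat.beq q idP with
  | true =>
    rw [Nat.beq_eq] at hq
    subst hq
    obtain rfl : b = 1 := kPts_ext hb (by rw [map_one]; exact rep_idP)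
    exact ⟨a, ha, by simp⟩
  | false =>
    rw [cond_false, force_eq]
    exact ⟨a * b, by rw [map_mul]; exact rep_comp ha hb, by rw [map_mul, ← mul_assoc]⟩

theorem Ctx.stands_push {s : St} {g : G} (h : c.Stands s g) (x : ℕ) :
    c.Stands (push x s) (g * c.tok x) := by
  unfold push Ctx.tok
  cases Nat.beq (Nat.land x 3) 0
  · cases Nat.beq (Nat.land x 3) 1
    · exact c.stands_perm h (el_rep _)
    · exact c.stands_mask h _
  · exact c.stands_key h _

theorem Ctx.stands_run : ∀ (w : List ℕ) {s : St} {g : G}, c.Stands s g →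
    c.Stands (run w s) (g * c.val w)
  | [], s, g, h => by simpa [run, Ctx.val] using h
  | x :: w, s, g, h => by
    have := Ctx.stands_run w (c.stands_push h x)
    simpa [run, Ctx.val, mul_assoc] using this

theorem Ctx.stands_word (w : List ℕ) : c.Stands (run w init) (c.val w) := by
  simpa using c.stands_run w c.stands_init

theorem Ctx.stands_items : ∀ (r : List (ℕ × ℕ)) {t : St} {g : G}, c.Stands t g →
    c.Stands (pushItems r t) (g * c.ival r)
  | [], t, g, h => by simpa [pushItems, Ctx.ival] using h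
  | (f, a) :: r, t, g, h => by
    have := c.stands_key (c.stands_mask (Ctx.stands_items r h) f) a
    simpa [pushItems, Ctx.ival, mul_assoc] using this

theorem Ctx.stands_append {s t : St} {g h : G} (hs : c.Stands s g) (ht : c.Stands t h) :
    c.Stands (append s t) (h * g) := by
  obtain ⟨a, ha, rfl⟩ := hs
  have := c.stands_perm (c.stands_mask (c.stands_items s.out ht) s.e) ha
  simpa [append, mul_assoc] using this

theorem Ctx.stands_empty {s : St} {g : G} (h : c.Stands s g) (he : isEmpty s = true) : g = 1 := by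
  obtain ⟨a, ha, rfl⟩ := h
  simp only [isEmpty, Bool.and_eq_true, List.isEmpty_iff, Nat.beq_eq] at he
  obtain ⟨⟨h1, h2⟩, h3⟩ := he
  rw [h3] at ha
  obtain rfl : a = 1 := kPts_ext ha (by rw [map_one]; exact rep_idP)
  rw [h1, h2]
  simp [Ctx.ival, c.E_zero]

theorem Ctx.stands_stepW {op : List ℕ × ℕ} {s : St} {g : G} (h : c.Stands s g)
    (hR : op.2 ≠ 0 → c.val (lemWord ((op.2 - 1) / 2)) = 1) :
    ∃ g', c.Stands (stepW op s) g' ∧ (g' = 1 → g = 1) := by
  unfold stepW
  cases h0 : Nat.beq op.2 0 with
  | true =>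
    refine ⟨_, c.stands_run (invW op.1) (c.stands_append h (c.stands_word op.1)), fun e => ?_⟩
    rw [c.val_inv] at e
    exact conj_eq_one_iff.1 e
  | false =>
    have hne : op.2 ≠ 0 := fun e => by rw [e] at h0; exact absurd h0 (by simp)
    have hins : c.val (insWord op) = 1 := by
      unfold insWord
      cases Nat.beq (op.2 % 2) 0
      · rw [cond_false, c.val_inv, hR hne, inv_one]
      · exact hR hne
    refine ⟨_, c.stands_append h (c.stands_word _), fun e => ?_⟩
    rw [c.val_append, c.val_append, hins, one_mul, c.val_inv, mul_inv_cancel, one_mul] at e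
    exact e

theorem Ctx.stands_steps : ∀ (D : List (List ℕ × ℕ)) {s : St} {g : G}, c.Stands s g →
    (∀ op ∈ D, op.2 ≠ 0 → c.val (lemWord ((op.2 - 1) / 2)) = 1) →
    isEmpty (steps D s) = true → g = 1
  | [], s, g, h, _, he => c.stands_empty h he
  | op :: D, s, g, h, hR, he => by
    obtain ⟨g', h', e⟩ := c.stands_stepW h (hR op (by simp))
    exact e (Ctx.stands_steps D h' (fun o ho => hR o (List.mem_cons_of_mem _ ho)) he)

theorem Ctx.lemma_holds {j : ℕ} (h : lemOK j = true) (hprev : ∀ i < j, c.val (lemWord i) = 1) :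
    c.val (lemWord j) = 1 := by
  simp only [lemOK, Bool.and_eq_true, List.all_eq_true, Bool.or_eq_true, Nat.beq_eq,
    Nat.blt_eq] at h
  exact c.stands_steps _ (c.stands_word _)
    (fun op hop hne => hprev _ ((h.1 op hop).resolve_left hne)) h.2

end Cfsg.Lib.J4Iso
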