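import Cfsg.Agent.Lib.J4Iso.Check0
import Cfsg.Agent.Lib.J4Iso.Check1
import Cfsg.Agent.Lib.J4Iso.Check2
import Cfsg.Agent.Lib.J4Iso.Check3
import Cfsg.Agent.Lib.J4Iso.Check4
import Cfsg.Agent.Lib.J4Iso.Check5
import Cfsg.Agent.Lib.J4Iso.Check6
import Cfsg.Agent.Lib.J4Iso.Check7
import Cfsg.Agent.Lib.J4Iso.Check8
import Cfsg.Agent.Lib.J4Iso.Check9
import Cfsg.Agent.Lib.J4Iso.Check10
import Cfsg.Agent.Lib.J4Iso.Check11
import Cfsg.Agent.Lib.J4Iso.Check12
import Cfsg.Agent.Lib.J4Iso.Check13
import Cfsg.Agent.Lib.J4Iso.Check14
import Cfsg.Agent.Lib.J4Iso.Check15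
import Cfsg.Agent.Lib.J4Iso.Check16
import Cfsg.Agent.Lib.J4Iso.Check17
import Cfsg.Agent.Lib.J4Iso.Check18
import Cfsg.Agent.Lib.J4Iso.Check19
import Cfsg.Agent.Lib.J4Iso.Check20
import Cfsg.Agent.Lib.J4Iso.Check21
import Cfsg.Agent.Lib.J4Iso.Check22
import Cfsg.Agent.Lib.J4Iso.Check23
import Cfsg.Agent.Lib.J4Iso.Check24
import Cfsg.Agent.Lib.J4Iso.Check25
import Cfsg.Agent.Lib.J4Iso.Check26
import Cfsg.Agent.Lib.J4Iso.Check27
import Cfsg.Agent.Lib.J4Iso.Val

/-!
# All derived lemmas hold
-/

set_option autoImplicit false
set_option maxRecDepth 20000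

namespace Cfsg.Lib.J4Iso

theorem lemRange_get {a n : ℕ} (h : lemRange a n = true) {j : ℕ} (h1 : a ≤ j) (h2 : j < a + n) :
    lemOK j = true := by
  have := List.all_eq_true.1 h (j - a) (List.mem_range.2 (by omega))
  rwa [show a + (j - a) = j by omega] at this

theorem lemOK_low {j : ℕ} (h1 : 2 ≤ j) (h2 : j < 2037) : lemOK j = true := by
  rcases Nat.lt_or_ge j 50 with h | h
  · exact lemRange_get lemRange_2 (by omega) (by omega)
  rcases Nat.lt_or_ge j 98 with h | h
  · exact lemRange_get lemRange_50 (by omega) (by omega)
  rcases Nat.lt_or_ge j 128 with h | h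
  · exact lemRange_get lemRange_98 (by omega) (by omega)
  rcases Nat.lt_or_ge j 176 with h | h
  · exact lemRange_get lemRange_128 (by omega) (by omega)
  rcases Nat.lt_or_ge j 224 with h | h
  · exact lemRange_get lemRange_176 (by omega) (by omega)
  rcases Nat.lt_or_ge j 272 with h | h
  · exact lemRange_get lemRange_224 (by omega) (by omega)
  rcases Nat.lt_or_ge j 320 with h | h
  · exact lemRange_get lemRange_272 (by omega) (by omega)
  rcases Nat.lt_or_ge j 368 with h | h
  · exact lemRange_get lemRange_320 (by omega) (by omega)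
  rcases Nat.lt_or_ge j 416 with h | h
  · exact lemRange_get lemRange_368 (by omega) (by omega)
  rcases Nat.lt_or_ge j 464 with h | h
  · exact lemRange_get lemRange_416 (by omega) (by omega)
  rcases Nat.lt_or_ge j 512 with h | h
  · exact lemRange_get lemRange_464 (by omega) (by omega)
  rcases Nat.lt_or_ge j 560 with h | h
  · exact lemRange_get lemRange_512 (by omega) (by omega)
  rcases Nat.lt_or_ge j 608 with h | h
  · exact lemRange_get lemRange_560 (by omega) (by omega)
  rcases Nat.lt_or_ge j 656 with h | h
  · exact lemRange_get lemRange_608 (by omega) (by omega)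
  rcases Nat.lt_or_ge j 704 with h | h
  · exact lemRange_get lemRange_656 (by omega) (by omega)
  rcases Nat.lt_or_ge j 752 with h | h
  · exact lemRange_get lemRange_704 (by omega) (by omega)
  rcases Nat.lt_or_ge j 800 with h | h
  · exact lemRange_get lemRange_752 (by omega) (by omega)
  rcases Nat.lt_or_ge j 848 with h | h
  · exact lemRange_get lemRange_800 (by omega) (by omega)
  rcases Nat.lt_or_ge j 896 with h | h
  · exact lemRange_get lemRange_848 (by omega) (by omega)
  rcases Nat.lt_or_ge j 944 with h | h
  · exact lemRange_get lemRange_896 (by omega) (by omega)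
  rcases Nat.lt_or_ge j 992 with h | h
  · exact lemRange_get lemRange_944 (by omega) (by omega)
  rcases Nat.lt_or_ge j 1040 with h | h
  · exact lemRange_get lemRange_992 (by omega) (by omega)
  rcases Nat.lt_or_ge j 1088 with h | h
  · exact lemRange_get lemRange_1040 (by omega) (by omega)
  rcases Nat.lt_or_ge j 1136 with h | h
  · exact lemRange_get lemRange_1088 (by omega) (by omega)
  rcases Nat.lt_or_ge j 1184 with h | h
  · exact lemRange_get lemRange_1136 (by omega) (by omega)
  rcases Nat.lt_or_ge j 1232 with h | h
  · exact lemRange_get lemRange_1184 (by omega) (by omega)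
  rcases Nat.lt_or_ge j 1280 with h | h
  · exact lemRange_get lemRange_1232 (by omega) (by omega)
  rcases Nat.lt_or_ge j 1328 with h | h
  · exact lemRange_get lemRange_1280 (by omega) (by omega)
  rcases Nat.lt_or_ge j 1376 with h | h
  · exact lemRange_get lemRange_1328 (by omega) (by omega)
  rcases Nat.lt_or_ge j 1424 with h | h
  · exact lemRange_get lemRange_1376 (by omega) (by omega)
  rcases Nat.lt_or_ge j 1472 with h | h
  · exact lemRange_get lemRange_1424 (by omega) (by omega)
  rcases Nat.lt_or_ge j 1520 with h | h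
  · exact lemRange_get lemRange_1472 (by omega) (by omega)
  rcases Nat.lt_or_ge j 1568 with h | h
  · exact lemRange_get lemRange_1520 (by omega) (by omega)
  rcases Nat.lt_or_ge j 1616 with h | h
  · exact lemRange_get lemRange_1568 (by omega) (by omega)
  rcases Nat.lt_or_ge j 1664 with h | h
  · exact lemRange_get lemRange_1616 (by omega) (by omega)
  rcases Nat.lt_or_ge j 1712 with h | h
  · exact lemRange_get lemRange_1664 (by omega) (by omega)
  rcases Nat.lt_or_ge j 1760 with h | h
  · exact lemRange_get lemRange_1712 (by omega) (by omega)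
  rcases Nat.lt_or_ge j 1808 with h | h
  · exact lemRange_get lemRange_1760 (by omega) (by omega)
  rcases Nat.lt_or_ge j 1856 with h | h
  · exact lemRange_get lemRange_1808 (by omega) (by omega)
  rcases Nat.lt_or_ge j 1904 with h | h
  · exact lemRange_get lemRange_1856 (by omega) (by omega)
  rcases Nat.lt_or_ge j 1952 with h | h
  · exact lemRange_get lemRange_1904 (by omega) (by omega)
  rcases Nat.lt_or_ge j 2000 with h | h
  · exact lemRange_get lemRange_1952 (by omega) (by omega)
  exact lemRange_get lemRange_2000 (by omega) (by omega)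

theorem lemOK_high {j : ℕ} (h1 : 2064 ≤ j) (h2 : j < 2899) : lemOK j = true := by
  rcases Nat.lt_or_ge j 2112 with h | h
  · exact lemRange_get lemRange_2064 (by omega) (by omega)
  rcases Nat.lt_or_ge j 2160 with h | h
  · exact lemRange_get lemRange_2112 (by omega) (by omega)
  rcases Nat.lt_or_ge j 2208 with h | h
  · exact lemRange_get lemRange_2160 (by omega) (by omega)
  rcases Nat.lt_or_ge j 2256 with h | h
  · exact lemRange_get lemRange_2208 (by omega) (by omega)
  rcases Nat.lt_or_ge j 2304 with h | h
  · exact lemRange_get lemRange_2256 (by omega) (by omega)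
  rcases Nat.lt_or_ge j 2352 with h | h
  · exact lemRange_get lemRange_2304 (by omega) (by omega)
  rcases Nat.lt_or_ge j 2400 with h | h
  · exact lemRange_get lemRange_2352 (by omega) (by omega)
  rcases Nat.lt_or_ge j 2448 with h | h
  · exact lemRange_get lemRange_2400 (by omega) (by omega)
  rcases Nat.lt_or_ge j 2496 with h | h
  · exact lemRange_get lemRange_2448 (by omega) (by omega)
  rcases Nat.lt_or_ge j 2544 with h | h
  · exact lemRange_get lemRange_2496 (by omega) (by omega)
  rcases Nat.lt_or_ge j 2592 with h | h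
  · exact lemRange_get lemRange_2544 (by omega) (by omega)
  rcases Nat.lt_or_ge j 2614 with h | h
  · exact lemRange_get lemRange_2592 (by omega) (by omega)
  rcases Nat.lt_or_ge j 2657 with h | h
  · exact lemRange_get lemRange_2614 (by omega) (by omega)
  rcases Nat.lt_or_ge j 2700 with h | h
  · exact lemRange_get lemRange_2657 (by omega) (by omega)
  rcases Nat.lt_or_ge j 2704 with h | h
  · exact lemRange_get lemRange_2700 (by omega) (by omega)
  rcases Nat.lt_or_ge j 2710 with h | h
  · exact lemRange_get lemRange_2704 (by omega) (by omega)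
  rcases Nat.lt_or_ge j 2718 with h | h
  · exact lemRange_get lemRange_2710 (by omega) (by omega)
  rcases Nat.lt_or_ge j 2730 with h | h
  · exact lemRange_get lemRange_2718 (by omega) (by omega)
  rcases Nat.lt_or_ge j 2736 with h | h
  · exact lemRange_get lemRange_2730 (by omega) (by omega)
  rcases Nat.lt_or_ge j 2745 with h | h
  · exact lemRange_get lemRange_2736 (by omega) (by omega)
  rcases Nat.lt_or_ge j 2754 with h | h
  · exact lemRange_get lemRange_2745 (by omega) (by omega)
  rcases Nat.lt_or_ge j 2763 with h | h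
  · exact lemRange_get lemRange_2754 (by omega) (by omega)
  rcases Nat.lt_or_ge j 2786 with h | h
  · exact lemRange_get lemRange_2763 (by omega) (by omega)
  rcases Nat.lt_or_ge j 2793 with h | h
  · exact lemRange_get lemRange_2786 (by omega) (by omega)
  rcases Nat.lt_or_ge j 2802 with h | h
  · exact lemRange_get lemRange_2793 (by omega) (by omega)
  rcases Nat.lt_or_ge j 2810 with h | h
  · exact lemRange_get lemRange_2802 (by omega) (by omega)
  rcases Nat.lt_or_ge j 2827 with h | h
  · exact lemRange_get lemRange_2810 (by omega) (by omega)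
  rcases Nat.lt_or_ge j 2831 with h | h
  · exact lemRange_get lemRange_2827 (by omega) (by omega)
  rcases Nat.lt_or_ge j 2835 with h | h
  · exact lemRange_get lemRange_2831 (by omega) (by omega)
  rcases Nat.lt_or_ge j 2839 with h | h
  · exact lemRange_get lemRange_2835 (by omega) (by omega)
  rcases Nat.lt_or_ge j 2843 with h | h
  · exact lemRange_get lemRange_2839 (by omega) (by omega)
  rcases Nat.lt_or_ge j 2848 with h | h
  · exact lemRange_get lemRange_2843 (by omega) (by omega)
  rcases Nat.lt_or_ge j 2853 with h | h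
  · exact lemRange_get lemRange_2848 (by omega) (by omega)
  rcases Nat.lt_or_ge j 2858 with h | h
  · exact lemRange_get lemRange_2853 (by omega) (by omega)
  rcases Nat.lt_or_ge j 2867 with h | h
  · exact lemRange_get lemRange_2858 (by omega) (by omega)
  rcases Nat.lt_or_ge j 2875 with h | h
  · exact lemRange_get lemRange_2867 (by omega) (by omega)
  rcases Nat.lt_or_ge j 2880 with h | h
  · exact lemRange_get lemRange_2875 (by omega) (by omega)
  rcases Nat.lt_or_ge j 2884 with h | h
  · exact lemRange_get lemRange_2880 (by omega) (by omega)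
  rcases Nat.lt_or_ge j 2888 with h | h
  · exact lemRange_get lemRange_2884 (by omega) (by omega)
  rcases Nat.lt_or_ge j 2892 with h | h
  · exact lemRange_get lemRange_2888 (by omega) (by omega)
  rcases Nat.lt_or_ge j 2896 with h | h
  · exact lemRange_get lemRange_2892 (by omega) (by omega)
  exact lemRange_get lemRange_2896 (by omega) (by omega)

variable {G : Type*} [Group G] (c : Ctx G)

theorem Ctx.low_holds (h0 : c.val (lemWord 0) = 1) (h1 : c.val (lemWord 1) = 1) :
    ∀ j < 2037, c.val (lemWord j) = 1 := by
  intro j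
  induction j using Nat.strong_induction_on with
  | _ j ih =>
    intro hj
    rcases Nat.lt_or_ge j 2 with h | h
    · interval_cases j
      · exact h0
      · exact h1
    · exact c.lemma_holds (lemOK_low h hj) fun i hi => ih i hi (by omega)

theorem Ctx.all_holds (h0 : c.val (lemWord 0) = 1) (h1 : c.val (lemWord 1) = 1)
    (hb : ∀ j, 2037 ≤ j → j < 2064 → c.val (lemWord j) = 1) :
    ∀ j < 2899, c.val (lemWord j) = 1 := by
  intro j
  induction j using Nat.strong_induction_on with
  | _ j ih =>
    intro hj
    rcases Nat.lt_or_ge j 2037 with h | h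
    · exact c.low_holds h0 h1 j h
    rcases Nat.lt_or_ge j 2064 with h' | h'
    · exact hb j h h'
    · exact c.lemma_holds (lemOK_high h' hj) fun i hi => ih i hi (by omega)

end Cfsg.Lib.J4Iso
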