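import Cfsg.Agent.Lib.J4Iso.Run
import Cfsg.Agent.Lib.Concrete.MathieuSearch

/-!
# The packed operations agree with the permutations
-/

set_option autoImplicit false
set_option maxRecDepth 20000

namespace Cfsg.Lib.J4Iso

open scoped Pointwise
open Cfsg.Lib.CosetEnum (force force_eq)
open Cfsg.Lib.Concrete
open Cfsg.Lib.J4Real (keyA keyB keyC sortKey packKey key_pack)
open Cfsg.Lib.J4Pres

theorem comp_eq (p q : ℕ) : comp p q = packList (bits24.map fun i => pget p (pget q i)) := by
  have key : ∀ (L : List ℕ) (a : ℕ),
      (List.rec (motive := fun _ => ℕ → ℕ) (fun a => a)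
        (fun i _ ih a => force (Nat.add (Nat.mul a 32) (pget p (pget q i))) ih) L) a =
        L.foldl (fun a i => a * 32 + pget p (pget q i)) a := by
    intro L
    induction L with
    | nil => intro a; rfl
    | cons i L ih =>
      intro a
      show force _ _ = _
      rw [force_eq, List.foldl_cons]
      exact ih _
  rw [comp, key]
  have h2 : ∀ (L : List ℕ), L.reverse.foldl (fun a i => a * 32 + pget p (pget q i)) 0 =
      packList (L.map fun i => pget p (pget q i)) := by
    intro L
    induction L with
    | nil => rfl
    | cons i L ih =>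
      rw [List.reverse_cons, List.foldl_append, ih, List.map_cons, packList]
      simp only [List.foldl_cons, List.foldl_nil, Nat.add_eq, Nat.mul_eq]
      ring
  rw [← h2 bits24]
  rfl

theorem pget_lt (p i : ℕ) : pget p i < 32 := by
  show (p >>> (5 * i)) &&& 31 < 32
  exact Nat.lt_succ_of_le Nat.and_le_right

theorem pget_comp (p q : ℕ) {i : ℕ} (hi : i < 24) : pget (comp p q) i = pget p (pget q i) := by
  have hlen : bits24.length = 24 := rfl
  have hget : ∀ i < 24, bits24.getD i 0 = i := by decide
  rw [comp_eq, pget_packList _ (fun a ha => by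
    obtain ⟨j, -, rfl⟩ := List.mem_map.1 ha; exact pget_lt _ _) i
      (by rw [List.length_map, hlen]; exact hi),
    List.getD_eq_getElem _ _ (by rw [List.length_map, hlen]; exact hi), List.getElem_map,
    ← List.getD_eq_getElem _ 0 (by rw [hlen]; exact hi), hget i hi]

theorem rep_comp {g h : Equiv.Perm GolayPt} {p q : ℕ} (hg : Rep g p) (hh : Rep h q) :
    Rep (g * h) (J4Iso.comp p q) := fun x => by
  rw [pget_comp p q (gidx x).isLt, Equiv.Perm.mul_apply, hg, hh]

theorem rep_idP : Rep (1 : Equiv.Perm GolayPt) idP := rep_one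

theorem rep_pget_eq {g : Equiv.Perm GolayPt} {p q : ℕ} (hp : Rep g p) (hq : Rep g q) {i : ℕ}
    (hi : i < 24) : pget p i = pget q i :=
  (hp.apply ⟨i, hi⟩).symm.trans (hq.apply ⟨i, hi⟩)

/-- The images of two sets, the second without the first. -/
theorem im2_spec {β : Type} (p m n : ℕ) (k : ℕ → ℕ → β) :
    ∃ a b, im2 p m n k = k a b ∧
      (∀ j, a.testBit j = true ↔ ∃ i < 24, m.testBit i = true ∧ pget p i = j) ∧
      (∀ j, b.testBit j = true ↔
        ∃ i < 24, (n.testBit i = true ∧ m.testBit i = false) ∧ pget p i = j) := by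
  have key : ∀ (len i0 m n a0 b0 : ℕ), ∃ a b,
      (List.rec (motive := fun _ => ℕ → ℕ → ℕ → ℕ → β) (fun _ _ a b => k a b)
        (fun i _ ih m n a b => force (Nat.div m 2) fun m' => force (Nat.div n 2) fun n' =>
          cond (Nat.beq (Nat.land m 1) 1)
            (force (Nat.lor a (Nat.shiftLeft 1 (pget p i))) fun a' => ih m' n' a' b)
            (cond (Nat.beq (Nat.land n 1) 1)
              (force (Nat.lor b (Nat.shiftLeft 1 (pget p i))) fun b' => ih m' n' a b')
              (ih m' n' a b))) (List.range' i0 len)) m n a0 b0 = k a b ∧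
      (∀ j, a.testBit j = true ↔
        (a0.testBit j = true ∨ ∃ t < len, m.testBit t = true ∧ pget p (i0 + t) = j)) ∧
      (∀ j, b.testBit j = true ↔ (b0.testBit j = true ∨
        ∃ t < len, (n.testBit t = true ∧ m.testBit t = false) ∧ pget p (i0 + t) = j)) := by
    intro len
    induction len with
    | zero => intro i0 m n a0 b0; exact ⟨a0, b0, rfl, fun j => by simp, fun j => by simp⟩
    | succ len ih =>
      intro i0 m n a0 b0
      have hbit : ∀ x : ℕ, Nat.beq (Nat.land x 1) 1 = x.testBit 0 := fun x => by
        rw [Nat.testBit_zero, show Nat.land x 1 = x % 2 from Nat.and_one_is_mod x]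
        rcases Nat.mod_two_eq_zero_or_one x with h | h <;> rw [h] <;> rfl
      have hset : ∀ (x t j : ℕ), (Nat.lor x (Nat.shiftLeft 1 t)).testBit j = true ↔
          (x.testBit j = true ∨ t = j) := fun x t j => by
        show (x ||| 1 <<< t).testBit j = true ↔ _
        rw [Nat.testBit_or, Bool.or_eq_true, Nat.one_shiftLeft, Nat.testBit_two_pow,
          decide_eq_true_eq]
      have hsucc : ∀ (x t : ℕ), (x / 2).testBit t = x.testBit (t + 1) := fun x t =>
        (Nat.testBit_add_one x t).symm
      rw [List.range'_succ]
      cases hm : m.testBit 0 with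
      | true =>
        obtain ⟨a, b, e, ha, hb⟩ := ih (i0 + 1) (m / 2) (n / 2)
          (Nat.lor a0 (Nat.shiftLeft 1 (pget p i0))) b0
        refine ⟨a, b, ?_, fun j => ?_, fun j => ?_⟩
        · show force (Nat.div m 2) _ = _
          rw [force_eq, force_eq, hbit, hm, cond_true, force_eq]
          exact e
        · rw [ha, hset]
          constructor
          · rintro ((h | h) | ⟨t, ht, h1, h2⟩)
            · exact Or.inl h
            · exact Or.inr ⟨0, by omega, hm, h⟩
            · exact Or.inr ⟨t + 1, by omega, by rwa [← hsucc], by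
                rw [← h2, show i0 + (t + 1) = i0 + 1 + t by omega]⟩
          · rintro (h | ⟨t, ht, h1, h2⟩)
            · exact Or.inl (Or.inl h)
            · cases t with
              | zero => exact Or.inl (Or.inr h2)
              | succ t => exact Or.inr ⟨t, by omega, by rwa [hsucc], by
                  rw [← h2, show i0 + (t + 1) = i0 + 1 + t by omega]⟩
        · rw [hb]
          constructor
          · rintro (h | ⟨t, ht, ⟨h1, h3⟩, h2⟩)
            · exact Or.inl h
            · exact Or.inr ⟨t + 1, by omega, ⟨by rwa [← hsucc], by rwa [← hsucc]⟩, by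
                rw [← h2, show i0 + (t + 1) = i0 + 1 + t by omega]⟩
          · rintro (h | ⟨t, ht, ⟨h1, h3⟩, h2⟩)
            · exact Or.inl h
            · cases t with
              | zero => rw [hm] at h3; exact absurd h3 (by simp)
              | succ t => exact Or.inr ⟨t, by omega, ⟨by rwa [hsucc], by rwa [hsucc]⟩, by
                  rw [← h2, show i0 + (t + 1) = i0 + 1 + t by omega]⟩
      | false =>
        cases hn : n.testBit 0 with
        | true =>
          obtain ⟨a, b, e, ha, hb⟩ := ih (i0 + 1) (m / 2) (n / 2) a0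
            (Nat.lor b0 (Nat.shiftLeft 1 (pget p i0)))
          refine ⟨a, b, ?_, fun j => ?_, fun j => ?_⟩
          · show force (Nat.div m 2) _ = _
            rw [force_eq, force_eq, hbit, hm, cond_false, hbit, hn, cond_true, force_eq]
            exact e
          · rw [ha]
            constructor
            · rintro (h | ⟨t, ht, h1, h2⟩)
              · exact Or.inl h
              · exact Or.inr ⟨t + 1, by omega, by rwa [← hsucc], by
                  rw [← h2, show i0 + (t + 1) = i0 + 1 + t by omega]⟩
            · rintro (h | ⟨t, ht, h1, h2⟩)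
              · exact Or.inl h
              · cases t with
                | zero => rw [hm] at h1; exact absurd h1 (by simp)
                | succ t => exact Or.inr ⟨t, by omega, by rwa [hsucc], by
                    rw [← h2, show i0 + (t + 1) = i0 + 1 + t by omega]⟩
          · rw [hb, hset]
            constructor
            · rintro ((h | h) | ⟨t, ht, ⟨h1, h3⟩, h2⟩)
              · exact Or.inl h
              · exact Or.inr ⟨0, by omega, ⟨hn, hm⟩, h⟩
              · exact Or.inr ⟨t + 1, by omega, ⟨by rwa [← hsucc], by rwa [← hsucc]⟩, by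
                  rw [← h2, show i0 + (t + 1) = i0 + 1 + t by omega]⟩
            · rintro (h | ⟨t, ht, ⟨h1, h3⟩, h2⟩)
              · exact Or.inl (Or.inl h)
              · cases t with
                | zero => exact Or.inl (Or.inr h2)
                | succ t => exact Or.inr ⟨t, by omega, ⟨by rwa [hsucc], by rwa [hsucc]⟩, by
                    rw [← h2, show i0 + (t + 1) = i0 + 1 + t by omega]⟩
        | false =>
          obtain ⟨a, b, e, ha, hb⟩ := ih (i0 + 1) (m / 2) (n / 2) a0 b0
          refine ⟨a, b, ?_, fun j => ?_, fun j => ?_⟩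
          · show force (Nat.div m 2) _ = _
            rw [force_eq, force_eq, hbit, hm, cond_false, hbit, hn, cond_false]
            exact e
          · rw [ha]
            constructor
            · rintro (h | ⟨t, ht, h1, h2⟩)
              · exact Or.inl h
              · exact Or.inr ⟨t + 1, by omega, by rwa [← hsucc], by
                  rw [← h2, show i0 + (t + 1) = i0 + 1 + t by omega]⟩
            · rintro (h | ⟨t, ht, h1, h2⟩)
              · exact Or.inl h
              · cases t with
                | zero => rw [hm] at h1; exact absurd h1 (by simp)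
                | succ t => exact Or.inr ⟨t, by omega, by rwa [hsucc], by
                    rw [← h2, show i0 + (t + 1) = i0 + 1 + t by omega]⟩
          · rw [hb]
            constructor
            · rintro (h | ⟨t, ht, ⟨h1, h3⟩, h2⟩)
              · exact Or.inl h
              · exact Or.inr ⟨t + 1, by omega, ⟨by rwa [← hsucc], by rwa [← hsucc]⟩, by
                  rw [← h2, show i0 + (t + 1) = i0 + 1 + t by omega]⟩
            · rintro (h | ⟨t, ht, ⟨h1, h3⟩, h2⟩)
              · exact Or.inl h
              · cases t with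
                | zero => rw [hn] at h1; exact absurd h1 (by simp)
                | succ t => exact Or.inr ⟨t, by omega, ⟨by rwa [hsucc], by rwa [hsucc]⟩, by
                    rw [← h2, show i0 + (t + 1) = i0 + 1 + t by omega]⟩
  obtain ⟨a, b, e, ha, hb⟩ := key 24 0 m n 0 0
  have hb24 : bits24 = List.range' 0 24 := by decide
  refine ⟨a, b, ?_, fun j => ?_, fun j => ?_⟩
  · rw [im2, hb24]
    exact e
  · simpa using ha j
  · simpa using hb j

/-- The partition of the points read from a key. -/
def S3 (k : ℕ) : Finset (Finset GolayPt) :=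
  {mset (keyA k), mset (keyB k) \ mset (keyA k), (mset (keyA k) ∪ mset (keyB k))ᶜ}

theorem smul_compl (g : Equiv.Perm GolayPt) (s : Finset GolayPt) : g • sᶜ = (g • s)ᶜ := by
  ext x
  simp [← Finset.inv_smul_mem_iff]

theorem mset_lt_ext {a : ℕ} {s : Finset GolayPt} (h : ∀ j < 24, a.testBit j = true ↔
    gpt (Fin.ofNat 24 j) ∈ s) : mset a = s := by
  ext x
  rw [mem_mset, h _ (gidx x).isLt, Fin.ofNat_val_eq_self, gpt_gidx]

set_option maxHeartbeats 1000000 in
theorem smul_S3 {g : Equiv.Perm GolayPt} {p : ℕ} (hg : Rep g p) (k : ℕ) :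
    g • S3 k = S3 (keyImg p k) := by
  unfold keyImg
  cases hp : Nat.beq p idP with
  | true =>
    rw [Nat.beq_eq] at hp
    subst hp
    obtain rfl : g = 1 := Rep.ext hg rep_idP
    rw [one_smul]; rfl
  | false =>
    rw [cond_false, force_eq]
    obtain ⟨a, b, e, ha, hb⟩ := im2_spec p (keyA k) (keyB k) fun a b =>
      force (Nat.xor (Nat.xor 16777215 a) b) fun c => force (sortKey a b c) fun x => x
    rw [e]
    simp only [force_eq]
    have hlt : ∀ x : ℕ, (∀ j, x.testBit j = true → j < 24) → x < 2 ^ 24 := fun x hx =>
      Nat.lt_pow_two_of_testBit _ fun i hi => by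
        rw [← Bool.not_eq_true]; intro h; have := hx i h; omega
    have hpl : ∀ i < 24, pget p i < 24 := fun i hi => by
      rw [← hg.apply ⟨i, hi⟩]; exact Fin.isLt _
    have ha24 : a < 2 ^ 24 := hlt a fun j hj => by
      obtain ⟨i, hi, -, rfl⟩ := (ha j).1 hj; exact hpl i hi
    have hb24 : b < 2 ^ 24 := hlt b fun j hj => by
      obtain ⟨i, hi, -, rfl⟩ := (hb j).1 hj; exact hpl i hi
    set c := Nat.xor (Nat.xor 16777215 a) b with hc
    have hA : g • mset (keyA k) = mset a := by
      ext x
      rw [Finset.mem_smul_finset, mem_mset, ha]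
      constructor
      · rintro ⟨y, hy, rfl⟩
        exact ⟨(gidx y).val, (gidx y).isLt, mem_mset.1 hy, (hg y).symm⟩
      · rintro ⟨i, hi, hm, hj⟩
        exact ⟨gpt ⟨i, hi⟩, by simpa [gidx_gpt] using hm,
          gidx_injective (Fin.ext ((hg.apply _).trans hj))⟩
    have hB : g • (mset (keyB k) \ mset (keyA k)) = mset b := by
      ext x
      rw [Finset.mem_smul_finset, mem_mset, hb]
      constructor
      · rintro ⟨y, hy, rfl⟩
        rw [Finset.mem_sdiff, mem_mset, mem_mset, Bool.not_eq_true] at hy
        exact ⟨(gidx y).val, (gidx y).isLt, hy, (hg y).symm⟩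
      · rintro ⟨i, hi, hm, hj⟩
        refine ⟨gpt ⟨i, hi⟩, ?_, gidx_injective (Fin.ext ((hg.apply _).trans hj))⟩
        rw [Finset.mem_sdiff, mem_mset, mem_mset, Bool.not_eq_true, gidx_gpt]
        exact hm
    have hdisj : ∀ j, a.testBit j = true → b.testBit j = false := fun j hj => by
      rw [← Bool.not_eq_true]
      intro hj'
      obtain ⟨i, hi, h1, h2⟩ := (ha j).1 hj
      obtain ⟨i', hi', h1', h2'⟩ := (hb j).1 hj'
      have e' : (⟨i, hi⟩ : Fin 24) = ⟨i', hi'⟩ := gpt_injective (g.injective (gidx_injective
        (Fin.ext (((hg.apply ⟨i, hi⟩).trans (h2.trans h2'.symm)).trans (hg.apply ⟨i', hi'⟩).symm))))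
      obtain rfl : i = i' := congrArg Fin.val e'
      rw [h1] at h1'
      exact absurd h1'.2 (by simp)
    have hcb : ∀ j, c.testBit j = true ↔
        (j < 24 ∧ a.testBit j = false ∧ b.testBit j = false) := fun j => by
      show ((16777215 ^^^ a) ^^^ b).testBit j = true ↔ _
      rw [Nat.testBit_xor, Nat.testBit_xor, show (16777215 : ℕ) = 2 ^ 24 - 1 from rfl,
        Nat.testBit_two_pow_sub_one]
      by_cases hj : j < 24
      · rw [decide_eq_true hj]
        have := hdisj j
        cases ha' : a.testBit j <;> cases hb' : b.testBit j <;> simp_all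
      · have h1 : a.testBit j = false := Nat.testBit_lt_two_pow
          (ha24.trans_le (Nat.pow_le_pow_right (by norm_num) (by omega)))
        have h2 : b.testBit j = false := Nat.testBit_lt_two_pow
          (hb24.trans_le (Nat.pow_le_pow_right (by norm_num) (by omega)))
        simp [hj, h1, h2]
    have hc24 : c < 2 ^ 24 := hlt c fun j hj => ((hcb j).1 hj).1
    have hC : (mset a ∪ mset b)ᶜ = mset c := by
      ext x
      simp only [Finset.mem_compl, Finset.mem_union, mem_mset, hcb]
      have := (gidx x).isLt
      simp [this]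
    have hU : mset (keyA k) ∪ (mset (keyB k) \ mset (keyA k)) = mset (keyA k) ∪ mset (keyB k) :=
      Finset.union_sdiff_self_eq_union
    have hL : g • S3 k = {mset a, mset b, mset c} := by
      rw [S3, Finset.smul_finset_insert, Finset.smul_finset_insert, Finset.smul_finset_singleton,
        hA, hB, smul_compl, ← hU, Finset.smul_finset_union, hA, hB, hC]
    rw [hL]
    have d1 : mset b \ mset a = mset b := by
      ext x; simp only [Finset.mem_sdiff, mem_mset]
      have := hdisj (gidx x).val
      cases ha' : a.testBit (gidx x).val <;> simp_all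
    have main : ∀ u v w : ℕ, u < 2 ^ 24 → v < 2 ^ 24 →
        ({mset u, mset v, mset w} : Finset (Finset GolayPt)) = {mset a, mset b, mset c} →
        mset v \ mset u = mset v → (mset u ∪ mset v)ᶜ = mset w →
        S3 (packKey u v w) = {mset a, mset b, mset c} := by
      intro u v w hu hv h3 h1 h2
      rw [S3, (key_pack (c := w) hu hv).1, (key_pack (c := w) hu hv).2.1, h1, h2, h3]
    have perm : ∀ x : GolayPt, (a.testBit (gidx x).val = true ∧ b.testBit (gidx x).val = false ∧
          c.testBit (gidx x).val = false) ∨ (a.testBit (gidx x).val = false ∧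
          b.testBit (gidx x).val = true ∧ c.testBit (gidx x).val = false) ∨
        (a.testBit (gidx x).val = false ∧ b.testBit (gidx x).val = false ∧
          c.testBit (gidx x).val = true) := by
      intro x
      have h2 := hcb (gidx x).val
      cases ha' : a.testBit (gidx x).val with
      | true =>
        refine Or.inl ⟨rfl, hdisj _ ha', ?_⟩
        rw [← Bool.not_eq_true]
        intro h
        have := (h2.1 h).2.1
        rw [ha'] at this
        exact absurd this (by simp)
      | false =>
        cases hb' : b.testBit (gidx x).val with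
        | true =>
          refine Or.inr (Or.inl ⟨rfl, rfl, ?_⟩)
          rw [← Bool.not_eq_true]
          intro h
          have := (h2.1 h).2.2
          rw [hb'] at this
          exact absurd this (by simp)
        | false => exact Or.inr (Or.inr ⟨rfl, rfl, h2.2 ⟨(gidx x).isLt, ha', hb'⟩⟩)
    symm
    unfold sortKey
    cases Nat.ble a b <;> cases Nat.ble b c <;> cases Nat.ble a c <;>
      simp only [cond_true, cond_false] <;>
      refine main _ _ _ (by assumption) (by assumption) ?_ ?_ ?_
    all_goals first
      | (ext x; simp; done)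
      | (ext x; simp; tauto)
      | (ext x
         simp only [Finset.mem_sdiff, Finset.mem_compl, Finset.mem_union, mem_mset]
         rcases perm x with ⟨h1, h2, h3⟩ | ⟨h1, h2, h3⟩ | ⟨h1, h2, h3⟩ <;> simp [h1, h2, h3])

theorem vec_zero : vec 0 = 0 := by decide +kernel

/-- The coordinate of the image of a pair with the first point. -/
noncomputable def pairImg (p i : ℕ) : ℕ := Nat.xor (vec (pget p i)) (vec (pget p 0))

theorem maskImg_eq (p v : ℕ) : maskImg p v =
    ((List.range 11).map fun b => cond (v.testBit b) (colOf p (lifts.getD b 0)) 0).foldl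
      (· ^^^ ·) 0 := by
  have key : ∀ (L : List ℕ) (v r : ℕ),
      (List.rec (motive := fun _ => ℕ → ℕ → ℕ) (fun _ r => r)
        (fun l _ ih v r => force (Nat.div v 2) fun h =>
          cond (Nat.beq (Nat.land v 1) 1) (force (Nat.xor r (colOf p l)) fun s => ih h s) (ih h r))
        L) v r =
      ((List.range L.length).map fun b => cond (v.testBit b) (colOf p (L.getD b 0)) 0).foldl
        (· ^^^ ·) r := by
    intro L
    induction L with
    | nil => intro v r; rfl
    | cons l L ih =>
      intro v r
      have hb : Nat.beq (Nat.land v 1) 1 = v.testBit 0 := by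
        rw [Nat.testBit_zero, show Nat.land v 1 = v % 2 from Nat.and_one_is_mod v]
        rcases Nat.mod_two_eq_zero_or_one v with h | h <;> rw [h] <;> rfl
      show force _ _ = _
      rw [force_eq, hb]
      simp only [List.length_cons, List.range_succ_eq_map, List.map_cons, List.map_map,
        List.foldl_cons, List.getD_cons_zero]
      have e : ((fun b => cond (v.testBit b) (colOf p ((l :: L).getD b 0)) 0) ∘ Nat.succ) =
          fun b => cond ((v / 2).testBit b) (colOf p (L.getD b 0)) 0 := by
        funext b
        simp [Function.comp, Nat.testBit_add_one, List.getD_cons_succ]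
      rw [e]
      cases v.testBit 0
      · simp only [cond_false, Nat.xor_zero]; exact ih _ _
      · rw [cond_true, force_eq]; exact ih _ _
  exact key lifts v 0

theorem foldl_xor_start : ∀ (L : List ℕ) (r : ℕ), L.foldl (· ^^^ ·) r = r ^^^ L.foldl (· ^^^ ·) 0
  | [], r => by simp
  | a :: L, r => by
    rw [List.foldl_cons, List.foldl_cons, foldl_xor_start L (r ^^^ a), foldl_xor_start L (0 ^^^ a)]
    simp [Nat.xor_assoc]

theorem maskImg_xor (p v w : ℕ) : maskImg p (v ^^^ w) = maskImg p v ^^^ maskImg p w := by
  rw [maskImg_eq, maskImg_eq, maskImg_eq]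
  induction List.range 11 with
  | nil => simp
  | cons b L ih =>
    simp only [List.map_cons, List.foldl_cons]
    rw [foldl_xor_start, foldl_xor_start _ (0 ^^^ cond (v.testBit b) _ _),
      foldl_xor_start _ (0 ^^^ cond (w.testBit b) _ _), ih, Nat.testBit_xor]
    cases v.testBit b <;> cases w.testBit b <;>
      simp [Nat.xor_assoc, Nat.xor_comm, Nat.xor_left_comm]

theorem maskImg_zero (p : ℕ) : maskImg p 0 = 0 := by
  have h := maskImg_xor p 0 0
  rw [Nat.xor_self, Nat.xor_self] at h
  exact h

theorem colOf_congr {p q : ℕ} (h : ∀ i < 24, pget p i = pget q i) (l : ℕ) (hl : ∀ k < 4,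
    Nat.land (Nat.shiftRight l (5 * k)) 31 < 24) : colOf p l = colOf q l := by
  have h0 := h _ (hl 0 (by norm_num))
  have h1 := h _ (hl 1 (by norm_num))
  have h2 := h _ (hl 2 (by norm_num))
  have h3 := h _ (hl 3 (by norm_num))
  simp only [Nat.mul_zero, Nat.mul_one] at h0 h1
  unfold colOf
  rw [show pget p (Nat.land l 31) = pget q (Nat.land l 31) from h0, h1, h2, h3]

theorem lifts_ok : (lifts.all fun l => (List.range 4).all fun k =>
    Nat.blt (Nat.land (Nat.shiftRight l (5 * k)) 31) 24) = true ∧ lifts.length = 11 :=
  ⟨by decide +kernel, rfl⟩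

theorem lift_lt {b : ℕ} (hb : b < 11) : ∀ k < 4,
    Nat.land (Nat.shiftRight (lifts.getD b 0) (5 * k)) 31 < 24 := fun k hk => by
  have h1 := lifts_ok.1
  simp only [List.all_eq_true, List.mem_range, Nat.blt_eq] at h1
  rw [List.getD_eq_getElem _ _ (lifts_ok.2.symm ▸ hb)]
  exact h1 _ (List.getElem_mem _) k hk

theorem maskImg_congr {p q : ℕ} (h : ∀ i < 24, pget p i = pget q i) (v : ℕ) :
    maskImg p v = maskImg q v := by
  rw [maskImg_eq, maskImg_eq]
  congr 1
  refine List.map_congr_left fun b hb => ?_
  rw [colOf_congr h _ (lift_lt (List.mem_range.1 hb))]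

/-- The map of a packed permutation on coordinates follows the points. -/
def Good (p : ℕ) : Prop := ∀ i < 24, maskImg p (vec i) = pairImg p i

/-- A decidable form of the same. -/
noncomputable def goodB (p : ℕ) : Bool :=
  (List.range 24).all fun i => Nat.beq (maskImg p (vec i)) (pairImg p i)

theorem good_of {p : ℕ} (h : goodB p = true) : Good p := fun i hi => by
  simpa [goodB, List.all_eq_true, Nat.beq_eq] using
    (List.all_eq_true.1 h i (List.mem_range.2 hi))

theorem Good.mul_apply {p q : ℕ} (hp : Good p) (hq : ∀ i < 24, pget q i < 24) (v : ℕ) :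
    maskImg p (maskImg q v) = maskImg (J4Iso.comp p q) v := by
  rw [maskImg_eq q, maskImg_eq (J4Iso.comp p q)]
  have hl : ∀ b ∈ List.range 11, b < 11 := fun b hb => List.mem_range.1 hb
  revert hl
  induction List.range 11 with
  | nil => intro _; simp [maskImg_zero]
  | cons b L ih =>
    intro hl
    simp only [List.map_cons, List.foldl_cons]
    rw [foldl_xor_start, foldl_xor_start _ (0 ^^^ cond (v.testBit b) _ _), maskImg_xor,
      ih fun b hb => hl b (List.mem_cons_of_mem _ hb)]
    congr 1
    cases v.testBit b with
    | false => simp [maskImg_zero]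
    | true =>
      simp only [cond_true, Nat.zero_xor]
      have hk : ∀ k < 4, maskImg p (vec (pget q (Nat.land (Nat.shiftRight (lifts.getD b 0) (5 * k)) 31)))
          = Nat.xor (vec (pget (J4Iso.comp p q) (Nat.land (Nat.shiftRight (lifts.getD b 0) (5 * k)) 31)))
            (vec (pget p 0)) := fun k hk => by
        have := lift_lt (hl b (by simp)) k hk
        rw [hp _ (hq _ this), pget_comp p q this, pairImg]
      unfold colOf
      simp only [show ∀ a b : ℕ, Nat.xor a b = a ^^^ b from fun _ _ => rfl, maskImg_xor] at hk ⊢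
      have h0 := hk 0 (by norm_num)
      have h1 := hk 1 (by norm_num)
      have h2 := hk 2 (by norm_num)
      have h3 := hk 3 (by norm_num)
      simp only [Nat.mul_zero, Nat.mul_one] at h0 h1
      rw [show pget q (Nat.land (lifts.getD b 0) 31) =
        pget q (Nat.land (Nat.shiftRight (lifts.getD b 0) 0) 31) from rfl, h0, h1, h2, h3]
      simp only [show Nat.shiftRight (lifts.getD b 0) 0 = lifts.getD b 0 from rfl]
      refine Nat.eq_of_testBit_eq fun j => ?_
      simp only [Nat.testBit_xor]
      cases (vec (pget p 0)).testBit j <;> simp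

theorem Good.comp {p q : ℕ} (hp : Good p) (hq : Good q) (hq' : ∀ i < 24, pget q i < 24) :
    Good (J4Iso.comp p q) := fun i hi => by
  rw [← hp.mul_apply hq', hq i hi, pairImg, pairImg, pget_comp p q hi,
    pget_comp p q (by norm_num : (0 : ℕ) < 24)]
  simp only [show ∀ a b : ℕ, Nat.xor a b = a ^^^ b from fun _ _ => rfl, maskImg_xor]
  rw [hp _ (hq' _ hi), hp _ (hq' _ (by norm_num))]
  simp only [pairImg, show ∀ a b : ℕ, Nat.xor a b = a ^^^ b from fun _ _ => rfl]
  rw [Nat.xor_assoc, ← Nat.xor_assoc (vec (pget p 0)), Nat.xor_comm (vec (pget p 0)),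
    Nat.xor_assoc, Nat.xor_self, Nat.xor_zero]

end Cfsg.Lib.J4Iso
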