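import Cfsg.Agent.Lib.J4Real.Trio
import Cfsg.Agent.Lib.J4Iso.DataAll
import Cfsg.Agent.Lib.J4Iso.DataVec

/-!
# A normal form for words in trios, masks and permutations, and derivations in it

A code `4 * k` is the conjugate of the third generator for the trio with key `k`, a code
`4 * v + 1` is the element of the mask `v`, and a code `4 * i + 2` or `4 * i + 3` is the entry
number `i` of the table of permutations.

The masks are coordinates in the even subsets of the 24 points modulo the code: `vec i` is the
coordinate of the pair of the point `0` and the point `i`, and `lifts` has a set of four points for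
each of the eleven bits.
-/

set_option autoImplicit false
set_option maxRecDepth 20000

namespace Cfsg.Lib.J4Iso

open Cfsg.Lib.CosetEnum (force force_eq Tab)
open Cfsg.Lib.Concrete (pget bits24)
open Cfsg.Lib.J4Real (keyA keyB keyC sortKey)

/-- The entry of a list. -/
noncomputable def getN {α : Type} (l : List α) (d : α) : ℕ → α :=
  List.rec (motive := fun _ => ℕ → α) (fun _ => d)
    (fun a _ ih i => cond (Nat.beq i 0) a (force (Nat.sub i 1) ih)) l

/-- The positions from the last to the first. -/
def down24 : List ℕ :=
  [23, 22, 21, 20, 19, 18, 17, 16, 15, 14, 13, 12, 11, 10, 9, 8, 7, 6, 5, 4, 3, 2, 1, 0]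

/-- The product of two packed permutations, second factor first. -/
noncomputable def comp (p q : ℕ) : ℕ :=
  List.rec (motive := fun _ => ℕ → ℕ) (fun a => a)
    (fun i _ ih a => force (Nat.add (Nat.mul a 32) (pget p (pget q i))) ih) down24 0

/-- The permutation fixing all points, packed. -/
def idP : ℕ := 984818244535754528103549039458486304

/-- The images of two sets. -/
noncomputable def im2 {β : Type} (p m n : ℕ) (k : ℕ → ℕ → β) : β :=
  List.rec (motive := fun _ => ℕ → ℕ → ℕ → ℕ → β) (fun _ _ a b => k a b)
    (fun i _ ih m n a b => force (Nat.div m 2) fun m' => force (Nat.div n 2) fun n' =>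
      cond (Nat.beq (Nat.land m 1) 1)
        (force (Nat.lor a (Nat.shiftLeft 1 (pget p i))) fun a' => ih m' n' a' b)
        (cond (Nat.beq (Nat.land n 1) 1)
          (force (Nat.lor b (Nat.shiftLeft 1 (pget p i))) fun b' => ih m' n' a b')
          (ih m' n' a b))) bits24 m n 0 0

/-- The image of a key of three disjoint sets covering all points. -/
noncomputable def keyImg (p k : ℕ) : ℕ :=
  cond (Nat.beq p idP) k
    (force k fun k => im2 p (keyA k) (keyB k) fun a b =>
      force (Nat.xor (Nat.xor 16777215 a) b) fun c => force (sortKey a b c) fun x => x)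

/-- The coordinate of the pair of a point with the first point. -/
noncomputable def vec (i : ℕ) : ℕ := Nat.land (Nat.shiftRight vecPack (Nat.mul 11 i)) 2047

/-- The sum of the coordinates of the images of four points. -/
noncomputable def colOf (p l : ℕ) : ℕ :=
  Nat.xor (Nat.xor (vec (pget p (Nat.land l 31))) (vec (pget p (Nat.land (Nat.shiftRight l 5) 31))))
    (Nat.xor (vec (pget p (Nat.land (Nat.shiftRight l 10) 31)))
      (vec (pget p (Nat.land (Nat.shiftRight l 15) 31))))

/-- The image of a mask. -/
noncomputable def maskImg (p v : ℕ) : ℕ :=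
  List.rec (motive := fun _ => ℕ → ℕ → ℕ) (fun _ r => r)
    (fun l _ ih v r => force (Nat.div v 2) fun h =>
      cond (Nat.beq (Nat.land v 1) 1) (force (Nat.xor r (colOf p l)) fun s => ih h s) (ih h r))
    lifts v 0

/-- The entry of the table. -/
noncomputable def tP (i : ℕ) : ℕ := cond (Nat.blt i tblSize) (tblTree.get i) idP

/-- A word in normal form: items, the last one first, then a mask and a permutation. -/
structure St where
  /-- The items, the last one first. -/
  out : List (ℕ × ℕ)
  /-- The mask after the items. -/
  e : ℕ
  /-- The packed permutation at the end. -/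
  p : ℕ

/-- The empty word. -/
def init : St := ⟨[], 0, idP⟩

/-- Append a trio, moved by the permutation at the end. -/
noncomputable def pushKey (k : ℕ) (s : St) : St :=
  force (keyImg s.p k) fun a =>
    match s.out with
    | [] => ⟨[(s.e, a)], 0, s.p⟩
    | (f, b) :: r => cond (Nat.beq s.e 0 && Nat.beq a b) ⟨r, f, s.p⟩
        ⟨(s.e, a) :: (f, b) :: r, 0, s.p⟩

/-- Append a mask. -/
noncomputable def pushMask (v : ℕ) (s : St) : St :=
  cond (Nat.beq v 0) s (force (Nat.xor s.e (maskImg s.p v)) fun e => ⟨s.out, e, s.p⟩)

/-- Append a permutation. -/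
noncomputable def pushPerm (q : ℕ) (s : St) : St :=
  cond (Nat.beq q idP) s (force (comp s.p q) fun p => ⟨s.out, s.e, p⟩)

/-- Append a code. -/
noncomputable def push (c : ℕ) (s : St) : St :=
  cond (Nat.beq (Nat.land c 3) 0) (pushKey (Nat.shiftRight c 2) s)
    (cond (Nat.beq (Nat.land c 3) 1) (pushMask (Nat.shiftRight c 2) s)
      (pushPerm (tP (Nat.shiftRight c 2)) s))

/-- Append a word. -/
noncomputable def run : List ℕ → St → St
  | [], s => s
  | c :: w, s => run w (push c s)

/-- The inverse of a code. -/
def invTok (c : ℕ) : ℕ :=
  cond (Nat.ble 2 (Nat.land c 3))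
    (Nat.add (Nat.mul 4 (Nat.xor (Nat.shiftRight c 2) 1)) 2) c

/-- The inverse of a word. -/
def invW (w : List ℕ) : List ℕ := w.reverse.map invTok

/-- Append items. -/
noncomputable def pushItems : List (ℕ × ℕ) → St → St
  | [], t => t
  | (f, a) :: r, t => pushKey a (pushMask f (pushItems r t))

/-- Append a word in normal form. -/
noncomputable def append (s t : St) : St :=
  pushPerm s.p (pushMask s.e (pushItems s.out t))

/-- A word of a lemma. -/
noncomputable def lemWord (j : ℕ) : List ℕ :=
  getN (getN (getN lemWords [] (j / 256)) [] (j % 256 / 16)) [] (j % 16)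

/-- The derivation of a lemma. -/
noncomputable def lemDeriv (j : ℕ) : List (List ℕ × ℕ) :=
  getN (getN (getN lemSteps [] (j / 256)) [] (j % 256 / 16)) [] (j % 16)

/-- The word inserted by a step. -/
noncomputable def insWord (op : List ℕ × ℕ) : List ℕ :=
  cond (Nat.beq (op.2 % 2) 0) (lemWord ((op.2 - 1) / 2)) (invW (lemWord ((op.2 - 1) / 2)))

/-- One step: conjugate, or insert a conjugate of a lemma or of its inverse in front. -/
noncomputable def stepW (op : List ℕ × ℕ) (s : St) : St :=
  cond (Nat.beq op.2 0) (run (invW op.1) (append s (run op.1 init)))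
    (append s (run (op.1 ++ (insWord op ++ invW op.1)) init))

/-- All steps. -/
noncomputable def steps : List (List ℕ × ℕ) → St → St
  | [], s => s
  | op :: D, s => steps D (stepW op s)

/-- The normal form is empty. -/
noncomputable def isEmpty (s : St) : Bool :=
  s.out.isEmpty && Nat.beq s.e 0 && Nat.beq s.p idP

/-- The derivation of a lemma ends with the empty word and uses only earlier lemmas. -/
noncomputable def lemOK (j : ℕ) : Bool :=
  (lemDeriv j).all (fun op => Nat.beq op.2 0 || Nat.blt ((op.2 - 1) / 2) j) &&
    isEmpty (steps (lemDeriv j) (run (lemWord j) init))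

/-- A run of lemmas. -/
noncomputable def lemRange (a n : ℕ) : Bool := (List.range n).all fun i => lemOK (a + i)

end Cfsg.Lib.J4Iso
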