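import Cfsg.Agent.Lib.J4Iso.Trios
import Cfsg.Agent.Lib.J4Iso.Lemmas

/-!
# The elementary abelian group of order dividing 2048 in the presented group
-/

set_option autoImplicit false
set_option maxRecDepth 20000

namespace Cfsg.Lib.J4Iso

open scoped Pointwise
open Cfsg.Lib.Concrete
open Cfsg.Lib.CosetEnum (beqW beqW_eq)
open Cfsg.Lib.J4Pres
open Cfsg.Lib.J4Real (kPts kPts_spec tau trioSet psi orbit_facts psi_range keyA keyB keyC tKey
  trioRoot pLetter)

/-- The conjugate of the third generator belonging to a set of point sets. -/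
noncomputable def phiSet (S : Finset (Finset GolayPt)) : PG :=
  open scoped Classical in
  if h : ∃ a : TwoGroup, kPts a • tau = S then
    kG h.choose * gt * (kG h.choose)⁻¹ else 1

theorem phiSet_eq (a : TwoGroup) : phiSet (kPts a • tau) = kG a * gt * (kG a)⁻¹ := by
  have h : ∃ b : TwoGroup, kPts b • tau = kPts a • tau := ⟨a, rfl⟩
  rw [phiSet, dif_pos h]
  set b := h.choose with hbdef
  have hb : kPts b • tau = kPts a • tau := h.choose_spec
  have hfix : kPts (a⁻¹ * b) • tau = tau := by
    rw [map_mul, mul_smul, hb, map_inv, inv_smul_smul]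
  obtain ⟨x, hx⟩ := psi_range (a⁻¹ * b)
  have hm : kPts (a⁻¹ * b) ∈ CT.map kPts :=
    stab_le (orbit_facts.2 _ ⟨x, hx⟩ hfix)
  obtain ⟨c, hc, hce⟩ := hm
  obtain rfl : c = a⁻¹ * b := kPts_spec.1 hce
  have hcomm := mem_CT.1 hc
  have e : kG b = kG a * kG (a⁻¹ * b) := by rw [← map_mul, mul_inv_cancel_left]
  rw [e, mul_assoc (kG a), hcomm.eq]
  group

theorem phiSet_smul (b : TwoGroup) (S : Finset (Finset GolayPt)) :
    phiSet (kPts b • S) * kG b = kG b * phiSet S := by
  by_cases h : ∃ a : TwoGroup, kPts a • tau = S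
  · obtain ⟨a, rfl⟩ := h
    rw [← mul_smul, ← map_mul, phiSet_eq, phiSet_eq, map_mul]
    group
  · have h' : ¬ ∃ a : TwoGroup, kPts a • tau = kPts b • S := by
      rintro ⟨a, ha⟩
      exact h ⟨b⁻¹ * a, by rw [map_mul, mul_smul, ha, map_inv, inv_smul_smul]⟩
    rw [phiSet, dif_neg h', phiSet, dif_neg h, one_mul, mul_one]

theorem phiSet_sq (S : Finset (Finset GolayPt)) : phiSet S * phiSet S = 1 := by
  unfold phiSet
  split_ifs with h
  · have := gt_sq
    calc kG h.choose * gt * (kG h.choose)⁻¹ * (kG h.choose * gt * (kG h.choose)⁻¹)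
        = kG h.choose * (gt * gt) * (kG h.choose)⁻¹ := by group
      _ = 1 := by rw [this, mul_one, mul_inv_cancel]
  · exact one_mul _

/-- The involution of a key. -/
noncomputable def phi (k : ℕ) : PG := phiSet (S3 k)

theorem phi_conj (a : TwoGroup) (p k : ℕ) (h : Rep (kPts a) p) :
    kG a * phi k = phi (keyImg p k) * kG a := by
  rw [phi, phi, ← smul_S3 h, phiSet_smul]

theorem S3_root : S3 (tKey trioRoot) = tau := by
  unfold S3 tau trioSet
  decide +kernel

theorem phi_root : phi (tKey trioRoot) = gt := by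
  have h := phiSet_eq 1
  rw [map_one, one_smul, map_one, inv_one, one_mul, mul_one] at h
  rw [phi, S3_root, h]

/-- The context without masks. -/
noncomputable def ctx0 : Ctx PG where
  f := kG
  φ := phi
  E := fun _ => 1
  φ_sq := fun k => phiSet_sq _
  φ_conj := phi_conj
  E_xor := fun _ _ => one_mul 1
  E_conj := fun _ _ _ _ => by simp

/-- The codes of the six letters. -/
noncomputable def xyCode (g : ℕ) : ℕ := getN [2, 10, 6, 14, 4 * tKey trioRoot, 4 * tKey trioRoot] 0 g

/-- The word of a relator. -/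
def relWord (r : FreeGroup Spor.J4.Gen) : List ℕ :=
  r.toWord.flatMap fun p => cond p.2 (gxy p.1) ((gxy p.1).map flipXY)

theorem el_first : el 0 = twoGen 0 ∧ el 1 = twoGen 2 ∧ el 2 = twoGen 1 ∧ el 3 = twoGen 3 := by
  have hf := first_ok
  simp only [Bool.and_eq_true, Nat.beq_eq] at hf
  obtain ⟨⟨⟨f0, f1⟩, f2⟩, f3⟩ := hf
  exact ⟨kPts_ext (el_rep 0) (f0 ▸ rep_twoGen (by norm_num)),
    kPts_ext (el_rep 1) (f1 ▸ rep_twoGen (by norm_num)),
    kPts_ext (el_rep 2) (f2 ▸ rep_twoGen (by norm_num)),
    kPts_ext (el_rep 3) (f3 ▸ rep_twoGen (by norm_num))⟩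

theorem gt_inv : gt⁻¹ = gt := inv_eq_of_mul_eq_one_right gt_sq

theorem tok_key (c : Ctx PG) (k : ℕ) : c.tok (4 * k) = c.φ k := by
  have h1 : Nat.land (4 * k) 3 = 0 := by
    show (4 * k) &&& (2 ^ 2 - 1) = 0
    rw [Nat.and_two_pow_sub_one_eq_mod]; omega
  have h2 : Nat.shiftRight (4 * k) 2 = k := by
    show (4 * k) >>> 2 = k
    rw [Nat.shiftRight_eq_div_pow]; omega
  rw [Ctx.tok, h1, h2]
  rfl

theorem tok_mask (c : Ctx PG) (k : ℕ) : c.tok (4 * k + 1) = c.E k := by
  have h1 : Nat.land (4 * k + 1) 3 = 1 := by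
    show (4 * k + 1) &&& (2 ^ 2 - 1) = 1
    rw [Nat.and_two_pow_sub_one_eq_mod]; omega
  have h2 : Nat.shiftRight (4 * k + 1) 2 = k := by
    show (4 * k + 1) >>> 2 = k
    rw [Nat.shiftRight_eq_div_pow]; omega
  rw [Ctx.tok, h1, h2]
  rfl

theorem tok_perm (c : Ctx PG) (k : ℕ) : c.tok (4 * k + 2) = c.f (el k) := by
  have h1 : Nat.land (4 * k + 2) 3 = 2 := by
    show (4 * k + 2) &&& (2 ^ 2 - 1) = 2
    rw [Nat.and_two_pow_sub_one_eq_mod]; omega
  have h2 : Nat.shiftRight (4 * k + 2) 2 = k := by
    show (4 * k + 2) >>> 2 = k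
    rw [Nat.shiftRight_eq_div_pow]; omega
  rw [Ctx.tok, h1, h2]
  rfl

theorem xyCode_val (c : Ctx PG) (hf : c.f = kG) (hφ : c.φ = phi) {g : ℕ} (hg : g < 6) :
    c.tok (xyCode g) = xyLetter g := by
  obtain ⟨e0, e1, e2, e3⟩ := el_first
  have hk : ∀ i, i < 4 → c.f (el i) = kG (el i) := fun i _ => by rw [hf]
  interval_cases g
  · rw [show xyCode 0 = 4 * 0 + 2 from rfl, tok_perm, hk 0 (by norm_num), e0,
      kG_gen 0 (by norm_num)]
  · rw [show xyCode 1 = 4 * 2 + 2 from rfl, tok_perm, hk 2 (by norm_num), e2,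
      kG_gen 1 (by norm_num)]
  · rw [show xyCode 2 = 4 * 1 + 2 from rfl, tok_perm, hk 1 (by norm_num), e1,
      kG_gen 2 (by norm_num)]
  · rw [show xyCode 3 = 4 * 3 + 2 from rfl, tok_perm, hk 3 (by norm_num), e3,
      kG_gen 3 (by norm_num)]
  · rw [show xyCode 4 = 4 * tKey trioRoot from rfl, tok_key, hφ, phi_root]
    rfl
  · rw [show xyCode 5 = 4 * tKey trioRoot from rfl, tok_key, hφ, phi_root]
    exact gt_inv.symm

theorem base_lemmas : ([10, 11].all fun i =>
    (relWord (Spor.J4.extra.getD i 1)).all (fun g => Nat.blt g 6) &&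
    Nat.blt i Spor.J4.extra.length &&
    beqW (lemWord (i - 10)) ((relWord (Spor.J4.extra.getD i 1)).map xyCode)) = true := by
  decide +kernel

theorem base_hold (c : Ctx PG) (hf : c.f = kG) (hφ : c.φ = phi) :
    c.val (lemWord 0) = 1 ∧ c.val (lemWord 1) = 1 := by
  have h := base_lemmas
  simp only [List.all_cons, List.all_nil, Bool.and_true, Bool.and_eq_true, List.all_eq_true,
    Nat.blt_eq] at h
  have key : ∀ i, (∀ g ∈ relWord (Spor.J4.extra.getD i 1), g < 6) → i < Spor.J4.extra.length →
      beqW (lemWord (i - 10)) ((relWord (Spor.J4.extra.getD i 1)).map xyCode) = true →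
      c.val (lemWord (i - 10)) = 1 := by
    intro i h1 h2 h3
    rw [beqW_eq h3, Ctx.val, List.map_map,
      List.map_congr_left (f := c.tok ∘ xyCode) (g := xyLetter)
        (fun g hg => xyCode_val c hf hφ (h1 g hg)), relWord, word_prod]
    rw [List.getD_eq_getElem _ _ h2]
    exact PresentedGroup.one_of_mem (Or.inr (List.getElem_mem h2))
  exact ⟨key 10 h.1.1.1 h.1.1.2 h.1.2, key 11 h.2.1.1 h.2.1.2 h.2.2⟩

theorem low_val {j : ℕ} (hj : j < 2037) : ctx0.val (lemWord j) = 1 :=
  ctx0.low_holds (base_hold ctx0 rfl rfl).1 (base_hold ctx0 rfl rfl).2 j hj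

/-- The three trios of a sextet. -/
noncomputable def uK (X : ℕ) : List ℕ := getN (getN uKeys [] (X / 128)) [] (X % 128)

/-- The mask of a sextet. -/
noncomputable def uM (X : ℕ) : ℕ := getN (getN uMask [] (X / 128)) 0 (X % 128)

/-- The element of a sextet. -/
noncomputable def uG (X : ℕ) : PG := ctx0.val (uK X)

/-- The sextet of a bit. -/
noncomputable def bX (i : ℕ) : ℕ := (getN sqData (0, 0) i).1

theorem sq_ok : ((List.range 11).all fun i =>
    Nat.blt (getN sqData (0, 0) i).2 2037 && Nat.beq (uM (bX i)) (2 ^ i) &&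
    beqW (lemWord (getN sqData (0, 0) i).2) (uK (bX i) ++ uK (bX i)) &&
    (List.range i).all fun k => Nat.blt (getN (getN comData [] i) 0 k) 2037 &&
      beqW (lemWord (getN (getN comData [] i) 0 k))
        (uK (bX i) ++ (uK (bX k) ++ (uK (bX i) ++ uK (bX k))))) = true := by
  decide +kernel

theorem b_sq {i : ℕ} (hi : i < 11) : uG (bX i) * uG (bX i) = 1 := by
  have h := List.all_eq_true.1 sq_ok i (List.mem_range.2 hi)
  simp only [Bool.and_eq_true, Nat.blt_eq] at h
  rw [uG, ← Ctx.val_append, ← beqW_eq h.1.2]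
  exact low_val h.1.1.1

theorem b_comm {i k : ℕ} (hi : i < 11) (hk : k < i) : Commute (uG (bX i)) (uG (bX k)) := by
  have h := List.all_eq_true.1 sq_ok i (List.mem_range.2 hi)
  simp only [Bool.and_eq_true, List.all_eq_true, List.mem_range, Nat.blt_eq] at h
  obtain ⟨h1, h2⟩ := h.2 k hk
  have e := low_val h1
  rw [beqW_eq h2, Ctx.val_append, Ctx.val_append, Ctx.val_append] at e
  change uG (bX i) * (uG (bX k) * (uG (bX i) * uG (bX k))) = 1 at e
  have si := inv_eq_of_mul_eq_one_right (b_sq hi)
  have sk := inv_eq_of_mul_eq_one_right (b_sq (hk.trans hi))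
  rw [← mul_assoc] at e
  have := eq_inv_of_mul_eq_one_left e
  rw [mul_inv_rev, si, sk] at this
  exact this

/-- The element of a mask below a bound. -/
noncomputable def eGn : ℕ → ℕ → PG
  | 0, _ => 1
  | n + 1, v => eGn n v * cond (v.testBit n) (uG (bX n)) 1

/-- The element of a mask. -/
noncomputable def eG (v : ℕ) : PG := eGn 11 v

theorem b_comm_eGn {i : ℕ} (hi : i < 11) : ∀ n ≤ i, ∀ v, Commute (uG (bX i)) (eGn n v)
  | 0, _, _ => by simp [eGn]
  | n + 1, h, v => by
    rw [eGn]
    refine (b_comm_eGn hi n (by omega) v).mul_right ?_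
    cases v.testBit n
    · exact Commute.one_right _
    · exact b_comm hi (by omega)

theorem eGn_mul : ∀ n ≤ 11, ∀ a b, eGn n a * eGn n b = eGn n (a ^^^ b)
  | 0, _, _, _ => by simp [eGn]
  | n + 1, hn, a, b => by
    have hc := b_comm_eGn (i := n) (by omega) n le_rfl b
    have hs := b_sq (i := n) (by omega)
    rw [eGn, eGn, eGn, Nat.testBit_xor]
    have ih := eGn_mul n (by omega) a b
    cases a.testBit n <;> cases b.testBit n <;> simp only [cond_true, cond_false, mul_one,
      Bool.xor_false, Bool.xor_true, Bool.not_false, Bool.not_true, Bool.false_xor, Bool.true_xor]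
    · exact ih
    · rw [← mul_assoc, ih]
    · rw [mul_assoc, hc.eq, ← mul_assoc, ih]
    · rw [← mul_assoc, mul_assoc (eGn n a), hc.eq, ← mul_assoc, ih, mul_assoc, hs, mul_one]

theorem eG_mul (a b : ℕ) : eG a * eG b = eG (a ^^^ b) := eGn_mul 11 le_rfl a b

theorem eG_zero : eG 0 = 1 := by simp [eG, eGn]

theorem eG_inv (a : ℕ) : (eG a)⁻¹ = eG a := by
  refine inv_eq_of_mul_eq_one_right ?_
  rw [eG_mul, Nat.xor_self, eG_zero]

theorem eG_two_pow {i : ℕ} (hi : i < 11) : eG (2 ^ i) = uG (bX i) := by
  have h : ∀ n, (n ≤ i → eGn n (2 ^ i) = 1) ∧ (i < n → eGn n (2 ^ i) = uG (bX i)) := by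
    intro n
    induction n with
    | zero => exact ⟨fun _ => rfl, fun h => absurd h (by omega)⟩
    | succ n ih =>
      rw [eGn, Nat.testBit_two_pow]
      refine ⟨fun h => ?_, fun h => ?_⟩
      · rw [ih.1 (by omega), decide_eq_false (by omega)]; simp
      · rcases Nat.lt_or_ge i n with h' | h'
        · rw [ih.2 h', decide_eq_false (by omega)]; simp
        · obtain rfl : i = n := by omega
          rw [ih.1 le_rfl]; simp
  exact (h 11).2 hi

/-- One line of the spanning list, given the set of sextets done so far. -/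
noncomputable def derOK (d : ℕ) (e : ℕ × ℕ × ℕ × ℕ) : Bool :=
  d.testBit e.2.1 && d.testBit e.2.2.1 && Nat.blt e.2.2.2 2037 &&
    Nat.beq (uM e.1) (Nat.xor (uM e.2.1) (uM e.2.2.1)) &&
    beqW (lemWord e.2.2.2) (uK e.2.1 ++ (uK e.2.2.1 ++ uK e.1))

/-- Go through the spanning list. -/
noncomputable def derGo : List (ℕ × ℕ × ℕ × ℕ) → ℕ → Option ℕ
  | [], d => some d
  | e :: L, d => cond (derOK d e)
      (CosetEnum.force (d ||| 2 ^ e.1) fun d' => derGo L d') none

/-- The sextets of the bits. -/
noncomputable def startSet : ℕ :=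
  (List.range 11).foldl (fun d i => d ||| 2 ^ (bX i)) 0

theorem der_all : derGo derData.flatten startSet = some (2 ^ 1771 - 1) := by decide +kernel

/-- The element of a sextet is the element of its mask. -/
def GoodX (X : ℕ) : Prop := uG X = eG (uM X)

theorem derGo_spec : ∀ (L : List (ℕ × ℕ × ℕ × ℕ)) (d d' : ℕ),
    (∀ X, d.testBit X = true → GoodX X) → derGo L d = some d' →
    ∀ X, d'.testBit X = true → GoodX X
  | [], d, d', hd, h => by
    simp only [derGo, Option.some.injEq] at h
    exact h ▸ hd
  | e :: L, d, d', hd, h => by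
    rw [derGo, CosetEnum.force_eq] at h
    cases hs : derOK d e with
    | false => rw [hs, cond_false] at h; exact absurd h (by simp)
    | true =>
      rw [hs, cond_true] at h
      refine derGo_spec L _ _ (fun X hX => ?_) h
      rw [Nat.testBit_or, Bool.or_eq_true] at hX
      rcases hX with hX | hX
      · exact hd X hX
      · obtain rfl : e.1 = X := by simpa [Nat.testBit_two_pow] using hX
        simp only [derOK, Bool.and_eq_true, Nat.blt_eq, Nat.beq_eq] at hs
        obtain ⟨⟨⟨⟨ha, hb⟩, hl⟩, hm⟩, hw⟩ := hs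
        have e' := low_val hl
        rw [beqW_eq hw, Ctx.val_append, Ctx.val_append] at e'
        change uG e.2.1 * (uG e.2.2.1 * uG e.1) = 1 at e'
        rw [← mul_assoc] at e'
        rw [GoodX, eq_inv_of_mul_eq_one_right e', hd _ ha, hd _ hb, eG_mul, eG_inv, hm]
        rfl

theorem uG_eq {X : ℕ} (hX : X < 1771) : uG X = eG (uM X) := by
  refine derGo_spec derData.flatten startSet _ ?_ der_all X ?_
  · intro Y hY
    have key : ∀ n ≤ 11, ∀ Y, ((List.range n).foldl (fun d i => d ||| 2 ^ (bX i)) 0).testBit Y = true →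
        ∃ i < 11, Y = bX i := by
      intro n
      induction n with
      | zero => intro _ Y h; simp at h
      | succ n ih =>
        intro hn Y h
        rw [List.range_succ, List.foldl_append, List.foldl_cons, List.foldl_nil, Nat.testBit_or,
          Bool.or_eq_true] at h
        rcases h with h | h
        · exact ih (by omega) Y h
        · exact ⟨n, by omega, (by simpa [Nat.testBit_two_pow, eq_comm] using h)⟩
    obtain ⟨i, hi, rfl⟩ := key 11 le_rfl Y hY
    have h := List.all_eq_true.1 sq_ok i (List.mem_range.2 hi)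
    simp only [Bool.and_eq_true, Nat.beq_eq] at h
    rw [GoodX, h.1.1.2, eG_two_pow hi]
  · rw [Nat.testBit_two_pow_sub_one]
    exact decide_eq_true hX

/-- The words of the conjugations of the sextets of the bits by two letters. -/
theorem cj_ok : ((List.range 2).all fun g => (List.range 11).all fun i =>
    Nat.blt (getN cjData (0, 0) (11 * g + i)).2 2899 &&
    Nat.blt (getN cjData (0, 0) (11 * g + i)).1 1771 &&
    Nat.blt (getN cjData (0, 0) (11 * g + i)).2 2037 &&
    Nat.beq (maskImg (tP (2 * g)) (2 ^ i)) (uM (getN cjData (0, 0) (11 * g + i)).1) &&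
    beqW (lemWord (getN cjData (0, 0) (11 * g + i)).2)
      ([4 * (2 * g) + 2] ++ (uK (bX i) ++ ([4 * (2 * g + 1) + 2] ++
        invW (uK (getN cjData (0, 0) (11 * g + i)).1))))) = true ∧
    goodB (tP 0) = true ∧ goodB (tP 2) = true := by
  refine ⟨?_, ?_, ?_⟩ <;> decide +kernel

theorem letter_conj {g i : ℕ} (hg : g < 2) (hi : i < 11) :
    kG (el (2 * g)) * eG (2 ^ i) = eG (maskImg (tP (2 * g)) (2 ^ i)) * kG (el (2 * g)) := by
  have h := List.all_eq_true.1 (List.all_eq_true.1 cj_ok.1 g (List.mem_range.2 hg)) i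
    (List.mem_range.2 hi)
  simp only [Bool.and_eq_true, Nat.blt_eq, Nat.beq_eq] at h
  obtain ⟨⟨⟨⟨-, hX⟩, hl⟩, hm⟩, hw⟩ := h
  have e := low_val hl
  rw [beqW_eq hw, Ctx.val_append, Ctx.val_append, Ctx.val_append, Ctx.val_inv] at e
  change ctx0.val [4 * (2 * g) + 2] * (uG (bX i) * (ctx0.val [4 * (2 * g + 1) + 2] *
    (uG _)⁻¹)) = 1 at e
  simp only [Ctx.val, List.map_cons, List.map_nil, List.prod_cons, List.prod_nil, mul_one,
    tok_perm] at e
  change kG (el (2 * g)) * (uG (bX i) * (kG (el (2 * g + 1)) * (uG _)⁻¹)) = 1 at e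
  rw [show 2 * g + 1 = Nat.xor (2 * g) 1 by interval_cases g <;> rfl, el_xor, map_inv] at e
  rw [hm, ← uG_eq hX, eG_two_pow hi, ← mul_inv_eq_iff_eq_mul]
  rw [← mul_assoc, ← mul_assoc] at e
  exact mul_inv_eq_one.1 e

theorem eG_conj (a : TwoGroup) (p v : ℕ) (h : Rep (kPts a) p) :
    kG a * eG v = eG (maskImg p v) * kG a := by
  let S : Submonoid TwoGroup :=
    { carrier := {a | ∃ p, Rep (kPts a) p ∧ Good p ∧ ∀ v, kG a * eG v = eG (maskImg p v) * kG a}
      one_mem' := by
        have hgood : Good idP := good_of (by decide +kernel)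
        have hid : ∀ v, eG (maskImg idP v) = eG v := by
          have hbit : ∀ i < 11, maskImg idP (2 ^ i) = 2 ^ i := by
            intro i hi
            interval_cases i <;> decide +kernel
          intro v
          have hv : ∀ n ≤ 11, ∀ v < 2 ^ n, maskImg idP v = v := by
            intro n
            induction n with
            | zero => intro _ v hv; rw [pow_zero, Nat.lt_one_iff] at hv; rw [hv, maskImg_zero]
            | succ n ih =>
              intro hn v hv
              rcases Nat.lt_or_ge v (2 ^ n) with h' | h'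
              · exact ih (by omega) v h'
              · have hr : v - 2 ^ n < 2 ^ n := by rw [pow_succ] at hv; omega
                have e : v = 2 ^ n ^^^ (v - 2 ^ n) := by
                  refine Nat.eq_of_testBit_eq fun j => ?_
                  rw [Nat.testBit_xor, Nat.testBit_two_pow]
                  conv_lhs => rw [show v = 2 ^ n + (v - 2 ^ n) by omega]
                  rcases Nat.lt_trichotomy n j with hj | hj | hj
                  · rw [decide_eq_false (by omega), Bool.false_xor,
                      Nat.testBit_lt_two_pow (hr.trans_le (Nat.pow_le_pow_right (by norm_num) hj.le)),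
                      Nat.testBit_lt_two_pow]
                    calc 2 ^ n + (v - 2 ^ n) < 2 ^ (n + 1) := by rw [pow_succ]; omega
                      _ ≤ 2 ^ j := Nat.pow_le_pow_right (by norm_num) hj
                  · subst hj
                    rw [decide_eq_true rfl, Nat.testBit_two_pow_add_eq,
                      Nat.testBit_lt_two_pow hr]
                    rfl
                  · rw [decide_eq_false (by omega), Bool.false_xor,
                      Nat.testBit_two_pow_add_gt hj]
                rw [e, maskImg_xor, hbit n (by omega), ih (by omega) _ hr]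
          have hmod : ∀ v, eG v = eG (v % 2048) := by
            intro v
            have : ∀ n ≤ 11, eGn n (v % 2048) = eGn n v := by
              intro n
              induction n with
              | zero => intro _; rfl
              | succ n ih =>
                intro hn
                rw [eGn, eGn, ih (by omega), show (2048 : ℕ) = 2 ^ 11 by norm_num,
                  Nat.testBit_mod_two_pow]
                simp [show n < 11 by omega]
            exact (this 11 le_rfl).symm
          have hmm : maskImg idP v = maskImg idP (v % 2048) := by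
            rw [maskImg_eq, maskImg_eq]
            congr 1
            refine List.map_congr_left fun b hb => ?_
            rw [show (2048 : ℕ) = 2 ^ 11 by norm_num, Nat.testBit_mod_two_pow]
            simp [List.mem_range.1 hb]
          rw [hmm, hv 11 le_rfl (v % 2048) (Nat.mod_lt _ (by norm_num)), ← hmod]
        exact ⟨idP, by rw [map_one]; exact rep_idP, hgood,
          fun v => by rw [map_one, one_mul, mul_one, hid]⟩
      mul_mem' := by
        rintro a b ⟨p, hp, gp, hpe⟩ ⟨q, hq, gq, hqe⟩
        have hlt : ∀ i < 24, pget q i < 24 := fun i hi => by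
          rw [← hq.apply ⟨i, hi⟩]; exact Fin.isLt _
        refine ⟨comp p q, by rw [map_mul]; exact rep_comp hp hq, gp.comp gq hlt, fun v => ?_⟩
        rw [map_mul, mul_assoc, hqe, ← mul_assoc, hpe, gp.mul_apply hlt, mul_assoc] }
  have hgen : ∀ g < 2, el (2 * g) ∈ S := by
    intro g hg
    have hgood : Good (tP (2 * g)) := by
      interval_cases g
      · exact good_of cj_ok.2.1
      · exact good_of cj_ok.2.2
    refine ⟨tP (2 * g), el_rep _, hgood, fun v => ?_⟩
    have key : ∀ n ≤ 11, ∀ v, kG (el (2 * g)) * eGn n v =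
        eG (maskImg (tP (2 * g)) (v % 2 ^ n)) * kG (el (2 * g)) := by
      intro n
      induction n with
      | zero => intro _ v; simp [eGn, Nat.mod_one, maskImg_zero, eG_zero]
      | succ n ih =>
        intro hn v
        have hsplit : v % 2 ^ (n + 1) = v % 2 ^ n ^^^ cond (v.testBit n) (2 ^ n) 0 := by
          refine Nat.eq_of_testBit_eq fun j => ?_
          rw [Nat.testBit_xor, Nat.testBit_mod_two_pow, Nat.testBit_mod_two_pow]
          rcases Nat.lt_trichotomy n j with hj | hj | hj
          · rw [decide_eq_false (by omega), decide_eq_false (by omega)]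
            cases v.testBit n <;> simp [Nat.testBit_two_pow, show n ≠ j by omega]
          · subst hj
            cases h : v.testBit n <;> simp [Nat.testBit_two_pow, h]
          · rw [decide_eq_true (by omega), decide_eq_true (by omega)]
            cases v.testBit n <;> simp [Nat.testBit_two_pow, show n ≠ j by omega]
        rw [eGn, ← mul_assoc, ih (by omega), hsplit, maskImg_xor, ← eG_mul, mul_assoc, mul_assoc]
        congr 1
        cases v.testBit n
        · simp [maskImg_zero, eG_zero]
        · simp only [cond_true]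
          rw [← eG_two_pow (show n < 11 by omega)]
          exact letter_conj hg (by omega)
    have hmm : maskImg (tP (2 * g)) v = maskImg (tP (2 * g)) (v % 2 ^ 11) := by
      rw [maskImg_eq, maskImg_eq]
      congr 1
      refine List.map_congr_left fun b hb => ?_
      rw [Nat.testBit_mod_two_pow]
      simp [List.mem_range.1 hb]
    rw [eG, key 11 le_rfl, hmm]
  have hfin : Finite TwoGroup := by
    obtain ⟨φ⟩ := twoGroup_iso
    exact Finite.of_equiv _ φ.symm.toEquiv
  have htop : ∀ a, a ∈ S := by
    intro a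
    have hm : a ∈ Subgroup.closure (twoGen '' {g | g < 2}) := by rw [twoGen_gen]; trivial
    induction hm using Subgroup.closure_induction with
    | mem x hx =>
      obtain ⟨g, hg, rfl⟩ := hx
      have hg' : g < 2 := hg
      obtain ⟨e0, -, e2, -⟩ := el_first
      interval_cases g
      · exact e0 ▸ hgen 0 (by norm_num)
      · exact e2 ▸ hgen 1 (by norm_num)
    | one => exact one_mem _
    | mul _ _ _ _ h1 h2 => exact mul_mem h1 h2
    | inv x _ h1 =>
      obtain ⟨k, hk⟩ := (isOfFinOrder_of_finite x).mem_powers_iff_mem_zpowers.2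
        (Subgroup.inv_mem _ (Subgroup.mem_zpowers x))
      exact hk ▸ pow_mem h1 k
  obtain ⟨q, hq, -, hqe⟩ := htop a
  rw [hqe, maskImg_congr (fun i hi => rep_pget_eq h hq hi)]

/-- The context with masks. -/
noncomputable def ctx1 : Ctx PG where
  f := kG
  φ := phi
  E := eG
  φ_sq := fun k => phiSet_sq _
  φ_conj := phi_conj
  E_xor := eG_mul
  E_conj := eG_conj

theorem keys_only : ((List.range 1771).all fun X =>
    (uK X).all fun c => Nat.beq (Nat.land c 3) 0) = true := by decide +kernel

theorem val_keys {w : List ℕ} (h : ∀ c ∈ w, Nat.land c 3 = 0) : ctx1.val w = ctx0.val w := by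
  refine congrArg List.prod (List.map_congr_left fun c hc => ?_)
  rw [Ctx.tok, Ctx.tok, h c hc]
  rfl

theorem bridge_ok : (Nat.beq bridgeX.length 27 && (List.range 27).all (fun i =>
    Nat.blt (getN bridgeX 0 i) 1771 && beqW (lemWord (2037 + i))
      (uK (getN bridgeX 0 i) ++ [4 * uM (getN bridgeX 0 i) + 1]))) = true := by
  decide +kernel

theorem lem_val {j : ℕ} (hj : j < 2899) : ctx1.val (lemWord j) = 1 := by
  refine ctx1.all_holds (base_hold ctx1 rfl rfl).1 (base_hold ctx1 rfl rfl).2 ?_ j hj
  intro i h1 h2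
  have h := bridge_ok
  simp only [Bool.and_eq_true, List.all_eq_true, List.mem_range, Nat.blt_eq] at h
  obtain ⟨hX, hw⟩ := h.2 (i - 2037) (by omega)
  rw [show 2037 + (i - 2037) = i by omega] at hw
  have hk : ∀ c ∈ uK (getN bridgeX 0 (i - 2037)), Nat.land c 3 = 0 := fun c hc => by
    have := List.all_eq_true.1 (List.all_eq_true.1 keys_only _ (List.mem_range.2 hX)) c hc
    rwa [Nat.beq_eq] at this
  rw [beqW_eq hw, Ctx.val_append, val_keys hk]
  simp only [Ctx.val, List.map_cons, List.map_nil, List.prod_cons, List.prod_nil, mul_one, tok_mask]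
  show uG _ * eG _ = 1
  rw [uG_eq hX, eG_mul, Nat.xor_self, eG_zero]

end Cfsg.Lib.J4Iso
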