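import Cfsg.Agent.Lib.J4Iso.Val
import Cfsg.Agent.Lib.J4Iso.DataNames
import Cfsg.Agent.Lib.J4Pres.Iso

/-!
# The conjugates of the third generator of the presented fourth Janko group
-/

set_option autoImplicit false
set_option maxRecDepth 20000

namespace Cfsg.Lib.J4Iso

open scoped Pointwise
open Cfsg.Lib.Concrete
open Cfsg.Lib.CosetEnum (beqW beqW_eq)
open Cfsg.Lib.J4Pres
open Cfsg.Lib.J4Real (kPts kPts_spec tau trioSet pW psi psi_pair pair_mem pLetter kOK kEmb_word
  hCheck_parts gensOf Sj Hj Msub orbit_facts psi_range exists_proj_pts psi_eq keyA keyB keyC tKey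
  trioRoot walkW walkW_spec psi_mem_Sj)

/-- The presented group. -/
abbrev PG : Type := PresentedGroup jRels

theorem exists_kG : ∃ f : TwoGroup →* PG, ∀ g < 4, f (twoGen g) = xyLetter g := by
  obtain ⟨f, hf, -⟩ := exists_hom xyLetter xy_pair xy_rels
  exact ⟨f, hf⟩

/-- The map from the presented M24. -/
noncomputable def kG : TwoGroup →* PG := Classical.choose exists_kG

theorem kG_gen : ∀ g < 4, kG (twoGen g) = xyLetter g := Classical.choose_spec exists_kG

/-- The third generator. -/
def gt : PG := PresentedGroup.mk jRels Spor.J4.t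

theorem gt_sq : gt * gt = 1 := by
  have h : PresentedGroup.mk jRels (Spor.J4.t ^ 2) = 1 :=
    PresentedGroup.one_of_mem (Or.inr (by simp [Spor.J4.extra]))
  rwa [map_pow, pow_two] at h

/-- The word whose element centralises the third generator besides the first one. -/
def w9 : List ℕ := [1, 0, 1, 0, 3, 0, 3, 0, 1, 0, 1, 0, 1]

/-- The three words of the stabiliser. -/
def stabWords : List (List ℕ) := [[0], w9, w9.reverse.map fun g => if g < 2 then g + 2 else g - 2]

theorem x_commute : Commute (kG (twoGen 0)) gt := by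
  rw [kG_gen 0 (by norm_num)]
  have h : PresentedGroup.mk jRels (Spor.J4.t⁻¹ * Spor.J4.x⁻¹ * Spor.J4.t * Spor.J4.x) = 1 :=
    PresentedGroup.one_of_mem (Or.inr (by simp [Spor.J4.extra]))
  simp only [map_mul, map_inv] at h
  refine inv_mul_eq_one.1 ?_
  rw [mul_inv_rev, ← h]
  simp only [xyLetter, gt, mul_assoc]

theorem w9_commute : Commute (kG ((w9.map twoGen).prod)) gt := by
  have e : kG ((w9.map twoGen).prod) = PresentedGroup.mk jRels
      (Spor.J4.y * Spor.J4.x * Spor.J4.y * ((Spor.J4.x * (Spor.J4.y⁻¹)) ^ 2) *
        ((Spor.J4.x * Spor.J4.y) ^ 3)) := by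
    rw [map_list_prod, List.map_map]
    simp only [w9, List.map_cons, List.map_nil, List.prod_cons, List.prod_nil, Function.comp_apply,
      kG_gen 0 (by norm_num), kG_gen 1 (by norm_num), kG_gen 3 (by norm_num), xyLetter,
      pow_succ, pow_zero, map_mul, map_inv, one_mul, mul_one, mul_assoc]
  have h : PresentedGroup.mk jRels (Spor.J4.t⁻¹ *
      (Spor.J4.y * Spor.J4.x * Spor.J4.y * ((Spor.J4.x * (Spor.J4.y⁻¹)) ^ 2) *
        ((Spor.J4.x * Spor.J4.y) ^ 3))⁻¹ * Spor.J4.t *
      (Spor.J4.y * Spor.J4.x * Spor.J4.y * ((Spor.J4.x * (Spor.J4.y⁻¹)) ^ 2) *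
        ((Spor.J4.x * Spor.J4.y) ^ 3))) = 1 :=
    PresentedGroup.one_of_mem (Or.inr (by simp [Spor.J4.extra]))
  rw [map_mul, map_mul, map_mul, map_inv, map_inv, ← e] at h
  refine inv_mul_eq_one.1 ?_
  rw [mul_inv_rev, ← h]
  simp only [gt, mul_assoc]

theorem stab_words_ok : ((stabData.all fun w => w.all fun i => Nat.blt i 3) &&
    Nat.beq stabData.length (gensOf 1).length &&
    (List.range (gensOf 1).length).all fun i =>
      bits24.all fun k => Nat.beq (walkW ((gensOf 1).getD i (0, [])).2 k)
        (J4Real.walkW (((stabData.getD i []).flatMap fun s => stabWords.getD s []).map J4Real.kLetter) k)) =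
    true := by decide +kernel

/-- The elements of the presented M24 centralising the third generator. -/
noncomputable def CT : Subgroup TwoGroup := (Subgroup.centralizer {gt}).comap kG

theorem mem_CT {a : TwoGroup} : a ∈ CT ↔ Commute (kG a) gt := by
  rw [CT, Subgroup.mem_comap, Subgroup.mem_centralizer_singleton_iff]
  rfl

theorem stab_le : Sj 1 ≤ CT.map kPts := by
  have hword : ∀ s < 3, ((stabWords.getD s []).map twoGen).prod ∈ CT := by
    intro s hs
    interval_cases s
    · simpa [stabWords, mem_CT] using x_commute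
    · simpa [stabWords, mem_CT] using w9_commute
    · have e : ((stabWords.getD 2 []).map twoGen).prod = ((w9.map twoGen).prod)⁻¹ := by
        refine eq_inv_of_mul_eq_one_left ?_
        have hp := twoGen_pair
        have h0 := hp 0 (by norm_num)
        have h1 := hp 1 (by norm_num)
        have h1' : twoGen 3 * twoGen 1 = 1 := mul_eq_one_iff_eq_inv.2 (eq_inv_of_mul_eq_one_right h1)
        have h0' : twoGen 2 * twoGen 0 = 1 := mul_eq_one_iff_eq_inv.2 (eq_inv_of_mul_eq_one_right h0)
        simp [stabWords, w9, mul_assoc, h0, h1, h0', h1',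
          eq_inv_of_mul_eq_one_right h0, eq_inv_of_mul_eq_one_right h1]
      rw [e]
      exact inv_mem (by simpa [mem_CT] using w9_commute)
  rintro _ ⟨x, hx, rfl⟩
  have hle : Hj 1 ≤ ((CT.map kPts).comap psi).map Msub.subtype := by
    rw [Hj, Subgroup.closure_le]
    rintro _ ⟨p, hp, rfl⟩
    obtain ⟨i, hi, rfl⟩ := List.getElem_of_mem hp
    have hk := ((hCheck_parts (j := 1) (by norm_num)).1 i hi).1
    rw [List.getD_eq_getElem _ _ hi] at hk
    refine ⟨⟨_, pair_mem hk⟩, ?_, rfl⟩
    have hs := stab_words_ok
    simp only [Bool.and_eq_true, List.all_eq_true, Nat.blt_eq, Nat.beq_eq, List.mem_range] at hs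
    obtain ⟨⟨hlt, hlen⟩, hw⟩ := hs
    set w := (stabData.getD i []).flatMap fun s => stabWords.getD s [] with hwdef
    refine ⟨(w.map twoGen).prod, ?_, ?_⟩
    · rw [hwdef]
      have hd : ∀ s ∈ stabData.getD i [], s < 3 := fun s hs => by
        rw [List.getD_eq_getElem _ _ (hlen ▸ hi)] at hs
        exact hlt _ (List.getElem_mem _) s hs
      revert hd
      generalize stabData.getD i [] = L
      intro hd
      induction L with
      | nil => simp
      | cons s L ih =>
        rw [List.flatMap_cons, List.map_append, List.prod_append]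
        exact mul_mem (hword s (hd s (by simp))) (ih fun t ht => hd t (List.mem_cons_of_mem _ ht))
    · have hw4 : ∀ g ∈ w, g < 4 := by
        intro g hg
        rw [hwdef, List.mem_flatMap] at hg
        obtain ⟨s, -, hg⟩ := hg
        rcases Nat.lt_or_ge s 3 with h | h
        · have : ∀ g ∈ stabWords.getD s [], g < 4 := by interval_cases s <;> decide
          exact this g hg
        · rw [List.getD_eq_default _ _ (by simpa [stabWords] using h)] at hg
          simp at hg
      have hk' : kOK (w.map J4Real.kLetter) = true := by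
        simp only [kOK, List.all_map, List.all_eq_true, Function.comp_apply, Bool.or_eq_true,
          Nat.beq_eq]
        intro g hg
        have := hw4 g hg
        interval_cases g <;> simp [J4Real.kLetter]
      rw [psi_pair hk]
      have h1 : (w.map J4Real.kLetter).map pLetter = w := by
        rw [List.map_map]
        refine (List.map_congr_left fun g hg => ?_).trans (List.map_id w)
        have := hw4 g hg
        interval_cases g <;> rfl
      refine Equiv.ext fun x => gidx_injective (Fin.ext ?_)
      rw [map_list_prod, List.map_map, List.map_congr_left (f := ⇑kPts ∘ twoGen) (g := gPerm)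
        (fun g hg => (kPts_spec.2 g (hw4 g hg)).2)]
      have h2 := walkW_spec hk' x
      rw [h1] at h2
      rw [h2, walkW_spec hk x]
      have := hw i hi (gidx x).val (mem_bits24.2 (gidx x).isLt)
      rw [List.getD_eq_getElem _ _ hi] at this
      exact this.symm
  obtain ⟨y, hy, e⟩ := hle hx
  obtain rfl : y = x := Subtype.ext e
  exact hy

end Cfsg.Lib.J4Iso
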